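import Mathlib

/-!
Interface for the exclusion of `2^{1+8}.(S₃ × A₆)` and `2^{1+8}.(S₃ × S₆)` as involution centralisers.

`Shape`: the quotient of the centraliser acting on the orthogonal space `V = Q/⟨z⟩`.
`Piece`: what a conjugate of `z` inside `Q` leaves in it: the totally singular image `W` of `Q ∩ Qₓ`
and the elementary abelian image `A` of `C_{Qₓ}(z)`.
-/

set_option autoImplicit false

namespace CfsgLib.Recog.SThreeASix

/-- The symmetric group of degree three. -/
abbrev P3 := Equiv.Perm (Fin 3)

/-- The symmetric group of degree six. -/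
abbrev P6 := Equiv.Perm (Fin 6)

/-- The alternating group of degree six. -/
abbrev A6 := ↥(alternatingGroup (Fin 6))

universe u v

/-- A group between `S₃ × A₆` and `S₃ × S₆` acting faithfully on an orthogonal space of dimension eight. -/
structure Shape (V : Type u) [AddCommGroup V] (X : Type v) [Group X] [DistribMulAction X V] where
  /-- The projection to the first factor. -/
  s : X →* P3
  /-- The projection to the second factor. -/
  p : X →* P6
  /-- The first factor. -/
  j : P3 →* X
  /-- The alternating group of the second factor. -/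
  i : A6 →* X
  s_j : ∀ a, s (j a) = a
  p_j : ∀ a, p (j a) = 1
  s_i : ∀ g, s (i g) = 1
  p_i : ∀ g, p (i g) = (g : P6)
  inj : ∀ x, s x = 1 → p x = 1 → x = 1
  two : ∀ w : V, w + w = 0
  card : Nat.card V = 256
  faith : ∀ x : X, (∀ w : V, x • w = w) → x = 1
  /-- The polar form. -/
  b : V → V → ZMod 2
  /-- The quadratic form. -/
  q : V → ZMod 2
  q_add : ∀ u w, q (u + w) = q u + q w + b u w
  b_add : ∀ u u' w, b (u + u') w = b u w + b u' w
  nondeg : ∀ u, (∀ w, b u w = 0) → u = 0
  q_smul : ∀ (x : X) (w : V), q (x • w) = q w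

/-- The data left by a conjugate of the central involution inside the extraspecial group. -/
structure Piece {V : Type u} [AddCommGroup V] {X : Type v} [Group X] [DistribMulAction X V]
    (S : Shape V X) (v0 : V) (W : AddSubgroup V) (A : Subgroup X) : Prop where
  ne : v0 ≠ 0
  mem : v0 ∈ W
  sing : ∀ w ∈ W, S.q w = 0
  card : Nat.card ↥A * Nat.card ↥W = 128
  comm : ∀ a ∈ A, ∀ a' ∈ A, a * a' = a' * a
  sq : ∀ a ∈ A, a * a = 1
  fixes : ∀ a ∈ A, a • v0 = v0
  norm : ∀ x : X, x • v0 = v0 → ∀ a ∈ A, x * a * x⁻¹ ∈ A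
  perp : ∀ a ∈ A, ∀ u, S.b u v0 = 0 → u + a • u ∈ W
  pair : ∀ a ∈ A, ∀ w ∈ W, w + a • w = 0 ∨ w + a • w = v0
  ker : ∀ K : Subgroup X, K ≤ A → (∀ a ∈ K, ∀ w ∈ W, a • w = w) →
    Nat.card ↥K * (Nat.card ↥W * Nat.card ↥W) ≤ 256

namespace Shape

variable {V : Type u} [AddCommGroup V] {X : Type v} [Group X] [DistribMulAction X V] (S : Shape V X)

/-- The elements of order three of the first factor have no non-zero fixed vector. -/
def Fpf : Prop :=
  ∀ k : P3, k ^ 3 = 1 → k ≠ 1 → ∀ u : V, S.j k • u = u → u = 0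

end Shape

end CfsgLib.Recog.SThreeASix
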