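import Mathlib
import Cfsg.Agent.Lib.Recog.SThreeASix.Defs

/-!
Certificate: centralisers of the involutions of `A₆`.
-/

set_option autoImplicit false

namespace CfsgLib.Recog.SThreeASix

/-- An involution has a centraliser of order at most eight, and that centraliser is not elementary. -/
theorem invol_cent : ∀ e : A6, e * e = 1 → e ≠ 1 →
    (Finset.univ.filter fun x : A6 => x * e = e * x).card ≤ 8 ∧
      ∃ x : A6, x * e = e * x ∧ x * x ≠ 1 := by
  decide +kernel

end CfsgLib.Recog.SThreeASix
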