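import Mathlib
import Cfsg.Agent.Lib.Recog.SThreeASix.AltSixCert

/-!
Facts on `A₆` and `S₆`: generation by elements of order five, centralisers of involutions, elementary abelian
subgroups.
-/

set_option autoImplicit false

namespace CfsgLib.Recog.SThreeASix

theorem a6_simple : IsSimpleGroup A6 := alternatingGroup.isSimpleGroup (by simp)

theorem a6_card : Nat.card A6 = 360 := by
  rw [nat_card_alternatingGroup, Nat.card_fin]; rfl

/-- A normal subgroup containing a non-trivial element is everything. -/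
theorem a6_eq_top {K : Subgroup A6} (hK : K.Normal) {g : A6} (hg : g ∈ K) (h : g ≠ 1) : K = ⊤ := by
  have := a6_simple
  exact (hK.eq_bot_or_eq_top).resolve_left fun e => h (Subgroup.mem_bot.1 (e ▸ hg))

theorem exists_five : ∃ g : A6, g ^ 5 = 1 ∧ g ≠ 1 := by
  have : Fact (Nat.Prime 5) := ⟨by norm_num⟩
  obtain ⟨g, hg⟩ := exists_prime_orderOf_dvd_card' (G := A6) 5 (by rw [a6_card]; norm_num)
  exact ⟨g, by rw [← hg]; exact pow_orderOf_eq_one g, fun e => by simp [e] at hg⟩

/-- A subgroup containing all elements of order five is everything. -/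
theorem a6_top_of_five {K : Subgroup A6} (h : ∀ g : A6, g ^ 5 = 1 → g ∈ K) : K = ⊤ := by
  obtain ⟨g, hg, hg1⟩ := exists_five
  have hle : Subgroup.normalClosure ({g} : Set A6) ≤ K := by
    refine (Subgroup.closure_le _).2 fun x hx => h x ?_
    obtain ⟨a, ha, hc⟩ := Group.mem_conjugatesOfSet_iff.1 hx
    rw [Set.mem_singleton_iff] at ha
    subst ha
    obtain ⟨c, rfl⟩ := isConj_iff.1 hc
    rw [conj_pow, hg, mul_one, mul_inv_cancel]
  exact top_unique ((a6_eq_top Subgroup.normalClosure_normal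
    (Subgroup.subset_normalClosure (Set.mem_singleton g)) hg1) ▸ hle)

theorem a6_not_comm (K : Subgroup A6) (hK : ∀ a ∈ K, a * a = 1) : K ≠ ⊤ := fun e => by
  obtain ⟨g, hg, hg1⟩ := exists_five
  have h2 := hK g (e ▸ Subgroup.mem_top g)
  refine hg1 ?_
  calc g = g ^ 5 * (g * g)⁻¹ * (g * g)⁻¹ := by group
    _ = 1 := by rw [hg, h2]; simp

/-- An elementary abelian subgroup of `A₆` has order at most four. -/
theorem a6_elem_le {E : Subgroup A6} (hc : ∀ a ∈ E, ∀ a' ∈ E, a * a' = a' * a) (hs : ∀ a ∈ E, a * a = 1) :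
    Nat.card E ≤ 4 := by
  classical
  by_contra hlt
  obtain ⟨e, he, he1⟩ : ∃ e ∈ E, e ≠ 1 := by
    by_contra h
    push Not at h
    have : E = ⊥ := (Subgroup.eq_bot_iff_forall _).2 h
    rw [this, Subgroup.card_bot] at hlt
    omega
  obtain ⟨hle, x, hx, hx2⟩ := invol_cent e (hs e he) he1
  set C := Finset.univ.filter fun x : A6 => x * e = e * x
  have hsub : (Finset.univ.filter (· ∈ E)) ⊆ C := fun a ha =>
    Finset.mem_filter.2 ⟨Finset.mem_univ _, hc a (Finset.mem_filter.1 ha).2 e he⟩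
  have hcard : (Finset.univ.filter (· ∈ E)).card = Nat.card E := by
    rw [Nat.card_eq_fintype_card]
    exact (Fintype.card_subtype _).symm
  have h2 : IsPGroup 2 E := fun a => ⟨1, by
    rw [pow_one, pow_two]; exact Subtype.ext (hs a a.2)⟩
  obtain ⟨n, hn⟩ := IsPGroup.iff_card.1 h2
  have h8 : 8 ≤ Nat.card E := by
    rw [hn] at hlt ⊢
    have : 3 ≤ n := by
      by_contra h
      interval_cases n <;> simp at hlt
    exact le_trans (by norm_num) (Nat.pow_le_pow_right two_pos this)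
  have heq := Finset.eq_of_subset_of_card_le hsub (by omega)
  have : x ∈ Finset.univ.filter (· ∈ E) := heq ▸ Finset.mem_filter.2 ⟨Finset.mem_univ _, hx⟩
  exact hx2 (hs x (Finset.mem_filter.1 this).2)

/-- The centraliser of an involution has order at most eight. -/
theorem a6_cent_le {e : A6} (h2 : e * e = 1) (h1 : e ≠ 1) {K : Subgroup A6}
    (hK : ∀ x ∈ K, x * e = e * x) : Nat.card K ≤ 8 := by
  classical
  refine le_trans ?_ (invol_cent e h2 h1).1
  rw [Nat.card_eq_fintype_card, Fintype.card_subtype]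
  exact Finset.card_le_card fun a ha =>
    Finset.mem_filter.2 ⟨Finset.mem_univ _, hK a (Finset.mem_filter.1 ha).2⟩

/-- An elementary abelian subgroup of `S₆` has order at most eight. -/
theorem p6_elem_le {E : Subgroup P6} (hc : ∀ a ∈ E, ∀ a' ∈ E, a * a' = a' * a) (hs : ∀ a ∈ E, a * a = 1) :
    Nat.card E ≤ 8 := by
  let σ : E →* ℤˣ := Equiv.Perm.sign.comp E.subtype
  have h1 := σ.ker.card_mul_index
  rw [Subgroup.index_ker] at h1
  have h2 : Nat.card σ.range ≤ 2 :=
    (Subgroup.card_le_card_group _).trans (le_of_eq (by simp [Nat.card_eq_fintype_card]))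
  let F : Subgroup A6 := E.comap (alternatingGroup (Fin 6)).subtype
  have h3 : Nat.card σ.ker = Nat.card F :=
    Nat.card_congr
      { toFun := fun x => ⟨⟨x.1.1, Equiv.Perm.mem_alternatingGroup.2 x.2⟩, x.1.2⟩
        invFun := fun y => ⟨⟨y.1.1, y.2⟩, Equiv.Perm.mem_alternatingGroup.1 y.1.2⟩
        left_inv := fun _ => rfl
        right_inv := fun _ => rfl }
  have h4 : Nat.card F ≤ 4 := a6_elem_le (fun a ha a' ha' => Subtype.ext (hc _ ha _ ha'))
    (fun a ha => Subtype.ext (hs _ ha))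
  rw [← h1, h3]
  nlinarith

/-- An element of order three times a transposition and its conjugate. -/
theorem p3_three : ∀ k a : P3, k ^ 3 = 1 → k ≠ 1 → Equiv.Perm.sign a ≠ 1 →
    (k * a * k⁻¹ * a) * (k * a * k⁻¹ * a) ≠ 1 := by decide +kernel

theorem p3_cases : ∀ a : P3, a ^ 3 = 1 ∧ Equiv.Perm.sign a = 1 ∨ a * a = 1 ∧ a ≠ 1 ∧ Equiv.Perm.sign a ≠ 1 := by
  decide +kernel

theorem p3_invol : ∀ k r : P3, k * k * k = 1 → r * r = 1 → r * k * r = k * k ∨ r = 1 := by decide +kernel

theorem p3_conj : ∀ k r a : P3, k ^ 3 = 1 → k ≠ 1 → r * r = 1 → r ≠ 1 → a * a = 1 → a ≠ 1 →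
    a = r ∨ a = k * r * k⁻¹ ∨ a = k * k * r * (k * k)⁻¹ := by decide +kernel

theorem p3_comm_invol : ∀ a a' : P3, a * a = 1 → a' * a' = 1 → a * a' = a' * a → a ≠ 1 → a' ≠ 1 → a = a' := by
  decide +kernel

theorem exists_three : ∃ k : P3, k ^ 3 = 1 ∧ k ≠ 1 := by decide +kernel

end CfsgLib.Recog.SThreeASix
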