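import Cfsg.Agent.Lib.Recog.SThreeASix.AltSix

/-!
The form, the two factors, and subgroups of `V` invariant under elements of order three or five.
-/

set_option autoImplicit false
set_option linter.unusedSectionVars false
set_option linter.style.haveILetI false

namespace CfsgLib.Recog.SThreeASix

universe u v

variable {V : Type u} [AddCommGroup V] {X : Type v} [Group X] [DistribMulAction X V]

/-- The map `w ↦ w + x w`. -/
def mv (x : X) : V →+ V := AddMonoidHom.id V + DistribSMul.toAddMonoidHom V x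

@[simp] theorem mv_apply (x : X) (w : V) : mv x w = w + x • w := rfl

/-- The fixed points of `x`. -/
def fixSub (x : X) : AddSubgroup V where
  carrier := {w | x • w = w}
  zero_mem' := smul_zero x
  add_mem' := fun {a b} ha hb => by
    show x • (a + b) = a + b
    rw [smul_add, ha, hb]
  neg_mem' := fun {a} ha => by
    show x • (-a) = -a
    rw [smul_neg, ha]

@[simp] theorem mem_fixSub {x : X} {w : V} : w ∈ fixSub x ↔ x • w = w := Iff.rfl

theorem smul_nsmul' (x : X) (n : ℕ) (w : V) : x • (n • w) = n • (x • w) :=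
  (DistribSMul.toAddMonoidHom V x).map_nsmul n w

namespace Shape

variable (S : Shape V X)
include S

theorem neg_eq (w : V) : -w = w := (eq_neg_of_add_eq_zero_left (S.two w)).symm

theorem add_zero_iff {u w : V} : u + w = 0 ↔ u = w := by
  rw [add_eq_zero_iff_eq_neg, S.neg_eq]

theorem finite : Finite V := Nat.finite_of_card_ne_zero (by rw [S.card]; norm_num)

theorem b_zero_left (w : V) : S.b 0 w = 0 := by simpa using S.b_add 0 0 w

theorem q_zero : S.q 0 = 0 := by
  have h := S.q_add 0 0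
  rw [add_zero, S.b_zero_left, add_zero] at h
  simpa using h

theorem b_eq (u w : V) : S.b u w = S.q (u + w) - S.q u - S.q w := by rw [S.q_add]; ring

theorem b_comm (u w : V) : S.b u w = S.b w u := by rw [S.b_eq, S.b_eq, add_comm u]; ring

theorem b_self (u : V) : S.b u u = 0 := by
  rw [S.b_eq, S.two, S.q_zero, sub_sub, CharTwo.add_self_eq_zero, sub_zero]

theorem b_add_right (u w w' : V) : S.b u (w + w') = S.b u w + S.b u w' := by
  rw [S.b_comm, S.b_add, S.b_comm w, S.b_comm w']

theorem b_zero_right (u : V) : S.b u 0 = 0 := by rw [S.b_comm, S.b_zero_left]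

theorem b_smul (x : X) (u w : V) : S.b (x • u) (x • w) = S.b u w := by
  rw [S.b_eq, S.b_eq, ← smul_add, S.q_smul, S.q_smul, S.q_smul]

theorem j_inj {a a' : P3} (h : S.j a = S.j a') : a = a' := by rw [← S.s_j a, h, S.s_j]

theorem i_inj : Function.Injective S.i := fun g g' h => by
  refine Subtype.ext ?_
  rw [← S.p_i g, h, S.p_i]

/-- The kernel of the first projection commutes with the first factor. -/
theorem comm_j {x : X} (hx : S.s x = 1) (a : P3) : Commute x (S.j a) := by
  refine commutatorElement_eq_one_iff_commute.1 (S.inj _ ?_ ?_)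
  · simp [commutatorElement_def, hx, S.s_j]
  · simp [commutatorElement_def, S.p_j]

theorem comm_i_j (g : A6) (a : P3) : Commute (S.i g) (S.j a) := S.comm_j (S.s_i g) a

/-- Splitting off the first factor. -/
theorem decomp (x : X) : ∃ y, x = S.j (S.s x) * y ∧ S.s y = 1 ∧ S.p y = S.p x :=
  ⟨(S.j (S.s x))⁻¹ * x, (mul_inv_cancel_left _ _).symm, by simp [S.s_j], by simp [S.p_j]⟩

theorem eq_j {x : X} (h : S.p x = 1) : x = S.j (S.s x) := by
  obtain ⟨y, hy, hy1, hy2⟩ := S.decomp x
  rw [S.inj y hy1 (hy2.trans h), mul_one] at hy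
  exact hy

theorem eq_i {x : X} (hs : S.s x = 1) (hp : Equiv.Perm.sign (S.p x) = 1) : ∃ g, x = S.i g := by
  refine ⟨⟨S.p x, Equiv.Perm.mem_alternatingGroup.2 hp⟩, ?_⟩
  refine mul_inv_eq_one.1 (S.inj _ ?_ ?_)
  · simp [hs, S.s_i]
  · simp [S.p_i]

omit S in
theorem smul_comm_of {x y : X} (h : Commute x y) (w : V) : x • y • w = y • x • w := by
  rw [← mul_smul, ← mul_smul, h.eq]

omit S in
/-- A commuting element preserves the fixed points. -/
theorem fix_stable {x y : X} (h : Commute x y) {w : V} (hw : w ∈ fixSub x) : y • w ∈ fixSub x := by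
  rw [mem_fixSub] at hw ⊢
  rw [smul_comm_of h, hw]

omit S in
theorem range_stable {x y : X} (h : Commute x y) {w : V} (hw : w ∈ (mv x : V →+ V).range) :
    y • w ∈ (mv x : V →+ V).range := by
  obtain ⟨u, rfl⟩ := hw
  exact ⟨y • u, by simp [smul_add, smul_comm_of h]⟩

theorem mem_ker_mv {x : X} {w : V} : w ∈ (mv x : V →+ V).ker ↔ x • w = w := by
  rw [AddMonoidHom.mem_ker, mv_apply, S.add_zero_iff, eq_comm]

theorem card_fix_range (x : X) :
    Nat.card ↥(fixSub x : AddSubgroup V) * Nat.card ↥(mv x : V →+ V).range = 256 := by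
  have h := ((mv x : V →+ V).ker).card_mul_index
  rw [AddSubgroup.index_ker, S.card] at h
  rw [← h]
  congr 1
  exact Nat.card_congr (Equiv.subtypeEquivRight fun w => by rw [mem_fixSub, S.mem_ker_mv])

/-- The part of `N` moved by `x`. -/
theorem card_fix_map (x : X) (N : AddSubgroup V) :
    Nat.card ↥(N ⊓ fixSub x) * Nat.card ↥(N.map (mv x)) = Nat.card N := by
  have h := (((mv x : V →+ V).comp N.subtype).ker).card_mul_index
  rw [AddSubgroup.index_ker, AddMonoidHom.range_comp, AddSubgroup.range_subtype] at h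
  rw [← h]
  congr 1
  exact Nat.card_congr
    { toFun := fun w => ⟨⟨w.1, w.2.1⟩, (S.mem_ker_mv (x := x)).2 w.2.2⟩
      invFun := fun w => ⟨w.1.1, w.1.2, (S.mem_ker_mv (x := x)).1 w.2⟩
      left_inv := fun _ => rfl
      right_inv := fun _ => rfl }

theorem card_pow (N : AddSubgroup V) : ∃ n ≤ 8, Nat.card N = 2 ^ n := by
  haveI := S.finite
  have h : Nat.card N ∣ 2 ^ 8 := by
    have := N.card_addSubgroup_dvd_card
    rwa [S.card] at this
  exact (Nat.dvd_prime_pow Nat.prime_two).1 h

/-- An element of prime order `p` on an invariant subgroup. -/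
theorem modEq_fix {p : ℕ} [Fact p.Prime] {x : X} (hx : x ^ p = 1) {N : AddSubgroup V}
    (hN : ∀ w ∈ N, x • w ∈ N) : Nat.card N ≡ Nat.card ↥(N ⊓ fixSub x) [MOD p] := by
  classical
  haveI := S.finite
  haveI : Fintype N := Fintype.ofFinite _
  let f : Function.End N := fun w => ⟨x • w.1, hN _ w.2⟩
  have hpow : ∀ (k : ℕ) (w : N), ((f ^ k) w).1 = x ^ k • w.1 := by
    intro k
    induction k with
    | zero => intro w; simp; rfl
    | succ k ih =>
      intro w
      rw [pow_succ]
      show ((f ^ k) (f w)).1 = _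
      rw [ih, pow_succ, mul_smul]
  have hf : f ^ p ^ 1 = 1 := funext fun w => Subtype.ext (by rw [hpow, pow_one, hx, one_smul]; rfl)
  have h := Equiv.Perm.card_fixedPoints_modEq hf
  rw [← Nat.card_eq_fintype_card, ← Nat.card_eq_fintype_card] at h
  refine h.trans (show _ % p = _ % p from congrArg (· % p) ?_)
  exact Nat.card_congr
    { toFun := fun w => ⟨w.1.1, w.1.2, congrArg Subtype.val w.2⟩
      invFun := fun w => ⟨⟨w.1, w.2.1⟩, Subtype.ext w.2.2⟩
      left_inv := fun _ => rfl
      right_inv := fun _ => rfl }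

/-- An element of order five moving a point of `N`. -/
theorem five {x : X} (hx : x ^ 5 = 1) {N : AddSubgroup V} (hN : ∀ w ∈ N, x • w ∈ N) {w : V}
    (hw : w ∈ N) (hmv : x • w ≠ w) : 16 * Nat.card ↥(N ⊓ fixSub x) = Nat.card N ∨
      256 * Nat.card ↥(N ⊓ fixSub x) = Nat.card N := by
  haveI : Fact (Nat.Prime 5) := ⟨by norm_num⟩
  haveI := S.finite
  have hm := S.modEq_fix hx hN
  obtain ⟨a, ha, hA⟩ := S.card_pow N
  obtain ⟨b, hb, hB⟩ := S.card_pow (N ⊓ fixSub x)
  have hlt : b < a := by
    by_contra hge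
    push Not at hge
    have e : N ⊓ fixSub x = N := AddSubgroup.eq_of_le_of_card_ge inf_le_left
      (by rw [hA, hB]; exact Nat.pow_le_pow_right two_pos hge)
    exact hmv (mem_fixSub.1 (e.ge hw).2)
  rw [hA, hB] at hm
  rw [hA, hB]
  unfold Nat.ModEq at hm
  interval_cases a <;> interval_cases b <;> simp at hm ⊢

/-- An element of order three moving a point of `N`. -/
theorem three_count {x : X} (hx : x ^ 3 = 1) {N : AddSubgroup V} (hN : ∀ w ∈ N, x • w ∈ N) {w : V}
    (hw : w ∈ N) (hmv : x • w ≠ w) : ∃ k, 1 ≤ k ∧ 4 ^ k * Nat.card ↥(N ⊓ fixSub x) = Nat.card N := by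
  haveI : Fact (Nat.Prime 3) := ⟨by norm_num⟩
  haveI := S.finite
  have hm := S.modEq_fix hx hN
  obtain ⟨a, ha, hA⟩ := S.card_pow N
  obtain ⟨b, hb, hB⟩ := S.card_pow (N ⊓ fixSub x)
  have hlt : b < a := by
    by_contra hge
    push Not at hge
    have e : N ⊓ fixSub x = N := AddSubgroup.eq_of_le_of_card_ge inf_le_left
      (by rw [hA, hB]; exact Nat.pow_le_pow_right two_pos hge)
    exact hmv (mem_fixSub.1 (e.ge hw).2)
  rw [hA, hB] at hm
  rw [hA, hB]
  refine ⟨(a - b) / 2, ?_⟩
  unfold Nat.ModEq at hm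
  interval_cases a <;> interval_cases b <;> simp at hm ⊢

/-- An element of odd order fixes no non-zero point of the form `w + x w`. -/
theorem fix_inf_img {x : X} {n : ℕ} (hn : Odd n) (hx : x ^ n = 1) {w : V}
    (h : x • (w + x • w) = w + x • w) : w + x • w = 0 := by
  have key : ∀ i : ℕ, x ^ i • w = w + i • (w + x • w) := by
    intro i
    induction i with
    | zero => simp
    | succ i ih =>
      rw [pow_succ', mul_smul, ih, smul_add, smul_nsmul', h, succ_nsmul, add_comm (i • (w + x • w)) _,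
        ← add_assoc, ← add_assoc w w, S.two, zero_add]
  have h2 := key n
  rw [hx, one_smul] at h2
  have h3 : n • (w + x • w) = 0 := (add_left_cancel (h2.symm.trans (add_zero w).symm))
  obtain ⟨m, rfl⟩ := hn
  rwa [succ_nsmul, mul_comm, mul_nsmul, two_nsmul, S.two, zero_add] at h3

/-- Two disjoint subgroups of complementary orders inside `N` span it. -/
theorem split {N A B : AddSubgroup V} (hA : A ≤ N) (hB : B ≤ N) (h0 : ∀ a ∈ A, a ∈ B → a = 0)
    (hc : Nat.card A * Nat.card B = Nat.card N) {n : V} (hn : n ∈ N) : ∃ a ∈ A, ∃ b ∈ B, n = a + b := by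
  haveI := S.finite
  let f : A × B → N := fun p => ⟨p.1.1 + p.2.1, add_mem (hA p.1.2) (hB p.2.2)⟩
  have hf : Function.Injective f := by
    rintro ⟨⟨a, ha⟩, ⟨b, hb⟩⟩ ⟨⟨a', ha'⟩, ⟨b', hb'⟩⟩ e
    have e' : a + b = a' + b' := congrArg Subtype.val e
    have e1 : a + a' = b + b' := by
      rw [← S.add_zero_iff, show a + a' + (b + b') = (a + b) + (a' + b') by abel, e', S.two]
    have := h0 _ (add_mem ha ha') (e1 ▸ add_mem hb hb')
    have ea : a = a' := S.add_zero_iff.1 this
    have eb : b = b' := S.add_zero_iff.1 (e1 ▸ this)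
    subst ea eb
    rfl
  obtain ⟨⟨a, b⟩, e⟩ := (hf.bijective_of_nat_card_le (by rw [Nat.card_prod, hc])).2 ⟨n, hn⟩
  exact ⟨a, a.2, b, b.2, (congrArg Subtype.val e).symm⟩

/-- Image and fixed points are orthogonal. -/
theorem b_fix_img {x : X} {f : V} (hf : x • f = f) (w : V) : S.b f (w + x • w) = 0 := by
  have h := S.b_smul x f w
  rw [hf] at h
  rw [S.b_add_right, h, CharTwo.add_self_eq_zero]

omit S in
theorem zmod_two_cases : ∀ a : ZMod 2, a = 0 ∨ a = 1 := by decide

/-- A form with one value on the pairs of distinct non-zero vectors of `N` vanishes. -/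
theorem alt_const_zero {N : AddSubgroup V} (hN : 8 ≤ Nat.card N) (β : V → V → ZMod 2) (e : ZMod 2)
    (hadd : ∀ u ∈ N, ∀ w ∈ N, ∀ w' ∈ N, β u (w + w') = β u w + β u w')
    (hconst : ∀ u ∈ N, ∀ w ∈ N, u ≠ 0 → w ≠ 0 → u ≠ w → β u w = e) : e = 0 := by
  haveI := S.finite
  have hsmall : ∀ T : Finset V, T.card < 8 → ∃ w ∈ N, w ∉ T := by
    intro T hT
    by_contra h
    push Not at h
    have : Nat.card N ≤ T.card := by
      rw [← Nat.card_eq_finsetCard]
      exact Nat.card_le_card_of_injective (fun w => ⟨w.1, h w.1 w.2⟩)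
        (fun a b e => Subtype.ext (congrArg Subtype.val e :))
    omega
  classical
  obtain ⟨u, hu, hu'⟩ := hsmall {0} (by simp)
  obtain ⟨w, hw, hw'⟩ := hsmall {0, u} (lt_of_le_of_lt Finset.card_le_two (by norm_num))
  obtain ⟨w', hw1, hw2⟩ := hsmall {0, u, w, u + w} (lt_of_le_of_lt Finset.card_le_four (by norm_num))
  simp only [Finset.mem_insert, Finset.mem_singleton, not_or] at hu' hw' hw2
  have h1 : w + w' ≠ 0 := fun h => hw2.2.2.1 (S.add_zero_iff.1 h).symm
  have h2 : u ≠ w + w' := fun h => hw2.2.2.2 (by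
    rw [h, show w + w' + w = w' + (w + w) by abel, S.two, add_zero])
  have := hadd u hu w hw w' hw1
  rw [hconst u hu w hw hu' hw'.1 (Ne.symm hw'.2), hconst u hu w' hw1 hu' hw2.1 (Ne.symm hw2.2.1),
    hconst u hu (w + w') (add_mem hw hw1) hu' h1 h2] at this
  rw [CharTwo.add_self_eq_zero] at this
  exact this

/-- Commuting fixed-point-free elements of orders three and five on a subgroup of order sixteen: the form
vanishes on it. -/
theorem no15 {c g : X} (hc : c ^ 3 = 1) (hg : g ^ 5 = 1) (hcg : Commute c g) {M : AddSubgroup V}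
    (hM : Nat.card M = 16) (hcM : ∀ w ∈ M, c • w ∈ M) (hgM : ∀ w ∈ M, g • w ∈ M)
    (hcf : ∀ w ∈ M, c • w = w → w = 0) (hgf : ∀ w ∈ M, g • w = w → w = 0) :
    ∀ u ∈ M, ∀ w ∈ M, S.b u w = 0 := by
  haveI := S.finite
  set h := c * g
  have hstab : ∀ (k : ℕ), ∀ w ∈ M, h ^ k • w ∈ M := by
    intro k
    induction k with
    | zero => intro w hw; simpa using hw
    | succ k ih => intro w hw; rw [pow_succ, mul_smul, mul_smul]; exact ih _ (hcM _ (hgM _ hw))
  have hfix : ∀ (y : X) (k : ℕ) (w : V), y • w = w → y ^ k • w = w := by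
    intro y k w hy
    induction k with
    | zero => simp
    | succ k ih => rw [pow_succ, mul_smul, hy, ih]
  have hfree : ∀ k, 0 < k → k < 15 → ∀ w ∈ M, h ^ k • w = w → w = 0 := by
    intro k h1 h2 w hw hk
    by_cases h3 : k % 3 = 0
    · refine hgf w hw ?_
      obtain ⟨e, he⟩ : ∃ e, (k * e) % 5 = 1 ∧ (k * e) % 3 = 0 := by
        refine (by decide : ∀ k < 15, 0 < k → k % 3 = 0 → ∃ e < 5, (k * e) % 5 = 1 ∧ (k * e) % 3 = 0)
          k h2 h1 h3 |>.imp fun e he => he.2
      have := hfix (h ^ k) e w hk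
      rwa [← pow_mul, hcg.mul_pow, pow_eq_pow_mod (k * e) hc, he.2, pow_zero, one_mul,
        pow_eq_pow_mod (k * e) hg, he.1, pow_one] at this
    · refine hcf w hw ?_
      obtain ⟨e, he⟩ : ∃ e, (k * e) % 3 = 1 ∧ (k * e) % 5 = 0 := by
        refine (by decide : ∀ k < 15, k % 3 ≠ 0 → ∃ e < 15, (k * e) % 3 = 1 ∧ (k * e) % 5 = 0)
          k h2 h3 |>.imp fun e he => he.2
      have := hfix (h ^ k) e w hk
      rwa [← pow_mul, hcg.mul_pow, pow_eq_pow_mod (k * e) hg, he.2, pow_zero, mul_one,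
        pow_eq_pow_mod (k * e) hc, he.1, pow_one] at this
  have hq : ∀ (k : ℕ) (w : V), S.q (h ^ k • w) = S.q w := fun k w => S.q_smul _ _
  have hconst : ∀ u ∈ M, u ≠ 0 → ∀ w ∈ M, w ≠ 0 → S.q w = S.q u := by
    intro u hu hu0 w hw hw0
    let f : Fin 15 → {m : M // m ≠ 0} := fun k =>
      ⟨⟨h ^ (k : ℕ) • u, hstab _ u hu⟩, fun e => hu0 ((smul_eq_zero_iff_eq _).1 (congrArg Subtype.val e))⟩
    have hf : Function.Injective f := by
      intro a b e
      have e' : h ^ (a : ℕ) • u = h ^ (b : ℕ) • u := congrArg (fun m => (m.1 : V)) e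
      have key : ∀ {a b : ℕ}, b < 15 → a < b → h ^ a • u = h ^ b • u → False := by
        intro a b hb hab e'
        refine hu0 (hfree (b - a) (by omega) (by omega) u hu ?_)
        rw [show h ^ b = h ^ a * h ^ (b - a) by rw [← pow_add]; congr 1; omega, mul_smul] at e'
        exact ((MulAction.injective (h ^ a)) e').symm
      rcases lt_trichotomy (a : ℕ) b with hab | hab | hab
      · exact (key b.2 hab e').elim
      · exact Fin.ext hab
      · exact (key a.2 hab e'.symm).elim
    have hcard : Nat.card {m : M // m ≠ 0} ≤ Nat.card (Fin 15) := by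
      classical
      haveI := Fintype.ofFinite M
      rw [Nat.card_fin, Nat.card_eq_fintype_card, Fintype.card_subtype_compl, Fintype.card_subtype_eq,
        ← Nat.card_eq_fintype_card, hM]
    obtain ⟨k, hk⟩ := (hf.bijective_of_nat_card_le hcard).2 ⟨⟨w, hw⟩, fun e => hw0 (congrArg Subtype.val e)⟩
    have hk' : h ^ (k : ℕ) • u = w := congrArg (fun m => (m.1 : V)) hk
    rw [← hk', hq]
  intro u hu w hw
  rcases eq_or_ne u 0 with rfl | hu0
  · exact S.b_zero_left w
  rcases eq_or_ne w 0 with rfl | hw0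
  · exact S.b_zero_right u
  rcases eq_or_ne u w with rfl | huw
  · exact S.b_self u
  have hval : ∀ a ∈ M, ∀ a' ∈ M, a ≠ 0 → a' ≠ 0 → a ≠ a' → S.b a a' = S.q u := by
    intro a ha a' ha' h0 h0' hne
    rw [S.b_eq, hconst u hu hu0 _ (add_mem ha ha') (fun e => hne (S.add_zero_iff.1 e)),
      hconst u hu hu0 a ha h0, hconst u hu hu0 a' ha' h0']
    rcases zmod_two_cases (S.q u) with e | e <;> rw [e] <;> decide
  have he := S.alt_const_zero (N := M) (by omega) S.b _
    (fun a _ b _ b' _ => S.b_add_right a b b') hval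
  rw [hval u hu w hw hu0 hw0 huw, he]

end Shape

end CfsgLib.Recog.SThreeASix
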