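import Cfsg.Agent.Lib.Recog.SThreeASix.PieceBasic

/-!
If some element of `A` moves the first factor oddly then the elements of order three of the first factor
are fixed-point-free.
-/

set_option autoImplicit false
set_option linter.unusedSectionVars false
set_option linter.style.haveILetI false

namespace CfsgLib.Recog.SThreeASix

universe u v

variable {V : Type u} [AddCommGroup V] {X : Type v} [Group X] [DistribMulAction X V]

namespace Shape

variable (S : Shape V X)
include S

/-- On a non-degenerate invariant part where `c` is fixed-point-free the alternating group is trivial, unless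
that part is the whole space. -/
theorem trivial_on {k : P3} (hk : k ^ 3 = 1) {u : V} (hu : S.j k • u = u) (hu0 : u ≠ 0) (g : A6) :
    ∀ n ∈ (mv (S.j k) : V →+ V).range, S.i g • n = n := by
  haveI := S.finite
  set c := S.j k with hc_def
  set N := (mv c : V →+ V).range with hN_def
  have hc3 : c ^ 3 = 1 := by rw [hc_def, ← map_pow, hk, map_one]
  have hcN : ∀ w ∈ N, c • w ∈ N := fun w hw => range_stable (Commute.refl c) hw
  have hiN : ∀ g, ∀ w ∈ N, S.i g • w ∈ N := fun g w hw => range_stable (S.comm_i_j g k).symm hw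
  have hcf : ∀ w ∈ N, c • w = w → w = 0 := by
    rintro w ⟨x, rfl⟩ hw
    exact S.fix_inf_img (by decide : Odd 3) hc3 hw
  have hNC : ∀ w, c • w = w → ∀ n ∈ N, S.b w n = 0 := by
    rintro w hw n ⟨x, rfl⟩
    exact S.b_fix_img hw x
  have hsplit : ∀ w : V, ∃ f ∈ fixSub c, ∃ n ∈ N, w = f + n := fun w =>
    S.split (N := ⊤) le_top le_top (fun a ha ha' => hcf a ha' ha)
      (by rw [S.card_fix_range, AddSubgroup.card_top, S.card]) (AddSubgroup.mem_top w)
  have hnd : ∀ a ∈ N, (∀ n ∈ N, S.b a n = 0) → a = 0 := by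
    intro a ha h
    refine S.nondeg a fun w => ?_
    obtain ⟨f, hf, n, hn, rfl⟩ := hsplit w
    rw [S.b_add_right, h n hn, S.b_comm, hNC f hf a ha, add_zero]
  have hCcard : 2 ≤ Nat.card ↥(fixSub c : AddSubgroup V) := by
    have : Nontrivial ↥(fixSub c : AddSubgroup V) :=
      ⟨⟨⟨u, hu⟩, 0, fun e => hu0 (congrArg Subtype.val e)⟩⟩
    exact Finite.one_lt_card
  let K : Subgroup A6 := (ptFix (N : Set V)).comap S.i
  suffices hK : K = ⊤ from hK.ge (Subgroup.mem_top g)
  refine a6_top_of_five fun g hg => ?_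
  show S.i g ∈ ptFix (N : Set V)
  by_contra hmove
  rw [mem_ptFix] at hmove
  push Not at hmove
  obtain ⟨n₀, hn₀, hn₀'⟩ := hmove
  set h := S.i g
  have hh : h ^ 5 = 1 := by rw [show h = S.i g from rfl, ← map_pow, hg, map_one]
  have hch : Commute c h := (S.comm_i_j g k).symm
  have hcard := S.card_fix_range c
  have hN128 : Nat.card N * 2 ≤ 256 := by
    calc Nat.card N * 2 ≤ Nat.card N * Nat.card ↥(fixSub c : AddSubgroup V) := Nat.mul_le_mul_left _ hCcard
      _ = 256 := by rw [mul_comm]; exact hcard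
  have h16 : 16 * Nat.card ↥(N ⊓ fixSub h) = Nat.card N := by
    rcases S.five hh (hiN g) hn₀ hn₀' with e | e
    · exact e
    · have : 0 < Nat.card ↥(N ⊓ fixSub h) := Nat.card_pos
      omega
  set M := N.map (mv h) with hM_def
  have hMcard : Nat.card M = 16 := by
    have e := S.card_fix_map h N
    rw [← h16, mul_comm 16] at e
    exact Nat.eq_of_mul_eq_mul_left Nat.card_pos e
  have hMN : M ≤ N := by
    rintro _ ⟨w, hw, rfl⟩
    exact add_mem hw (hiN g w hw)
  have hcM : ∀ w ∈ M, c • w ∈ M := by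
    rintro _ ⟨w, hw, rfl⟩
    exact ⟨c • w, hcN w hw, by simp [smul_add, smul_comm_of hch.symm]⟩
  have hhM : ∀ w ∈ M, h • w ∈ M := by
    rintro _ ⟨w, hw, rfl⟩
    exact ⟨h • w, hiN g w hw, by simp [smul_add]⟩
  have hhf : ∀ w ∈ M, h • w = w → w = 0 := by
    rintro _ ⟨w, -, rfl⟩ hw
    exact S.fix_inf_img (by decide : Odd 5) hh hw
  have hb := S.no15 hc3 hh hch hMcard hcM hhM (fun w hw => hcf w (hMN hw)) hhf
  have hM0 : ∀ m ∈ M, m = 0 := fun m hm => hnd m (hMN hm) fun n hn => by
    obtain ⟨f, hf, m', hm', rfl⟩ := S.split (inf_le_left : N ⊓ fixSub h ≤ N) hMN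
      (fun a ha ha' => hhf a ha' ha.2) (by rw [hMcard, mul_comm, h16]) hn
    have : S.b f m = 0 := by
      obtain ⟨w, -, rfl⟩ := hm
      exact S.b_fix_img hf.2 w
    rw [S.b_add_right, hb m hm m' hm', S.b_comm, this, add_zero]
  have : Nat.card M ≤ 1 := by
    haveI : Subsingleton M := ⟨fun a b => Subtype.ext ((hM0 a a.2).trans (hM0 b b.2).symm)⟩
    exact Finite.card_le_one_iff_subsingleton.2 inferInstance
  omega

end Shape

namespace Piece

variable {S : Shape V X} {v₀ : V} {W : AddSubgroup V} {A : Subgroup X}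

/-- An element of `A` odd on the first factor makes the elements of order three fixed-point-free. -/
theorem fpf (P : Piece S v₀ W A) {a : X} (ha : a ∈ A) (hs : Equiv.Perm.sign (S.s a) ≠ 1) : S.Fpf := by
  intro k hk hk1 u hu
  by_contra hu0
  haveI := S.finite
  haveI := P.finite_A
  set c := S.j k with hc_def
  set N := (mv c : V →+ V).range with hN_def
  have hc3 : c ^ 3 = 1 := by rw [hc_def, ← map_pow, hk, map_one]
  have hcv : c • v₀ ≠ v₀ := by
    intro h
    have h1 := P.norm c h a ha
    have h2 := congrArg S.s (P.sq _ (mul_mem h1 ha))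
    rw [map_mul, map_mul, map_mul, map_mul, map_inv, map_one, hc_def, S.s_j] at h2
    exact p3_three k (S.s a) hk hk1 hs h2
  have hN : ∀ g, ∀ n ∈ N, S.i g • n = n := S.trivial_on hk hu hu0
  have hsplit : ∀ w : V, ∃ f ∈ fixSub c, ∃ n ∈ N, w = f + n := fun w =>
    S.split (N := ⊤) le_top le_top
      (fun a ha ha' => by
        obtain ⟨x, rfl⟩ := ha'
        exact S.fix_inf_img (by decide : Odd 3) hc3 ha)
      (by rw [S.card_fix_range, AddSubgroup.card_top, S.card]) (AddSubgroup.mem_top w)
  have hN4 : 4 ≤ Nat.card N := by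
    obtain ⟨w, hw⟩ : ∃ w : V, c • w ≠ w := by
      by_contra h
      push Not at h
      exact hk1 (S.j_inj (by rw [map_one]; exact S.faith c h))
    have hwN : w + c • w ∈ N := ⟨w, rfl⟩
    have hne : w + c • w ≠ 0 := fun h => hw (S.add_zero_iff.1 h).symm
    obtain ⟨i, hi, e⟩ := S.three_count hc3 (fun x hx => Shape.range_stable (Commute.refl c) hx) hwN
      (fun h => hne (S.fix_inf_img (by decide : Odd 3) hc3 h))
    rw [← e]
    calc 4 = 4 ^ 1 * 1 := rfl
      _ ≤ 4 ^ i * _ := Nat.mul_le_mul (Nat.pow_le_pow_right (by norm_num) hi) Nat.card_pos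
  have hC64 : Nat.card ↥(fixSub c : AddSubgroup V) ≤ 64 := by
    have h := S.card_fix_range c
    have : Nat.card ↥(fixSub c : AddSubgroup V) * 4 ≤ 256 :=
      le_trans (Nat.mul_le_mul_left _ hN4) h.le
    omega
  set A₀ := A ⊓ S.i.range
  have hA0 : A₀ ≤ ptFix (W : Set V) := by
    rintro x ⟨hxA, g, rfl⟩ w hw
    obtain ⟨f, hf, n, hn, rfl⟩ := hsplit w
    have e : f + n + S.i g • (f + n) = f + S.i g • f := by
      rw [smul_add, hN g n hn, show f + n + (S.i g • f + n) = (f + S.i g • f) + (n + n) by abel, S.two,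
        add_zero]
    have hfix : c • (f + S.i g • f) = f + S.i g • f := by
      rw [smul_add, mem_fixSub.1 hf, mem_fixSub.1 (Shape.fix_stable (S.comm_i_j g k).symm hf)]
    rcases P.pair _ hxA _ hw with h | h
    · exact (S.add_zero_iff.1 h).symm
    · rw [e] at h
      exact absurd (h ▸ hfix) hcv
  have hcard0 : Nat.card (A.comap S.i) = Nat.card A₀ := P.comap_card_eq
  have h4 := P.card_le_four_mul
  have hle4 := P.elem_comap
  have hker := P.ker_le A₀ inf_le_left hA0
  rw [hcard0] at h4 hle4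
  have hcA := P.card
  have hA8 := P.eight_le
  have hW : Nat.card W ≤ 8 := by
    by_contra h
    obtain ⟨n, hn, hWn⟩ := S.card_pow W
    have := P.W_le
    have hW16 : Nat.card W = 16 := by
      rw [hWn] at h this ⊢
      interval_cases n <;> simp at h this ⊢
    rw [hW16] at hcA hker
    omega
  have hA16 : Nat.card A = 16 ∧ Nat.card W = 8 ∧ Nat.card A₀ = 4 := by
    have h1 : Nat.card A₀ * (Nat.card W * Nat.card W) ≤ 256 := hker
    obtain ⟨n, hn, hWn⟩ := S.card_pow W
    rw [hWn] at hW h1 hcA ⊢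
    interval_cases n <;> simp at hW h1 hcA ⊢ <;> omega
  obtain ⟨hA16, hW8, hA04⟩ := hA16
  obtain ⟨r, hr2, hr1, hrA⟩ := P.exists_pure_of_card (lt_of_le_of_lt P.map_p_le (by omega))
  set t := S.j r with ht_def
  have htA0 : t ∉ A₀ := by
    rintro ⟨-, g, hg⟩
    exact hr1 (by rw [← S.s_j r, ← ht_def, ← hg, S.s_i])
  have htW : t ∉ ptFix (W : Set V) := by
    intro htW
    have hle : A₀ ≤ A ⊓ ptFix (W : Set V) := le_inf inf_le_left hA0
    have h := P.ker_le (A ⊓ ptFix (W : Set V)) inf_le_left inf_le_right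
    rw [hW8] at h
    haveI : Finite ↥(A ⊓ ptFix (W : Set V) : Subgroup X) :=
      Finite.of_injective (Subgroup.inclusion inf_le_left) (Subgroup.inclusion_injective _)
    have e := Subgroup.eq_of_le_of_card_ge hle (by omega)
    exact htA0 (e ▸ ⟨hrA, htW⟩)
  rw [mem_ptFix] at htW
  push Not at htW
  obtain ⟨w, hw, hwt⟩ := htW
  have hv : w + t • w = v₀ := (P.pair _ hrA _ hw).resolve_left fun h => hwt (S.add_zero_iff.1 h).symm
  have hct : c * t = t * (c * c) := by
    have h := (p3_invol k r (by rw [← hk, pow_succ, pow_two]) hr2).resolve_right hr1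
    rw [hc_def, ht_def, ← map_mul, ← map_mul, ← map_mul, ← h, mul_assoc r k r, ← mul_assoc r r, hr2, one_mul]
  have htC : ∀ f ∈ fixSub c, t • f ∈ (fixSub c : AddSubgroup V) := fun f hf => by
    rw [mem_fixSub] at hf ⊢
    rw [← mul_smul, hct, mul_smul, mul_smul, hf, hf]
  set L := (fixSub c : AddSubgroup V).map (mv t) with hL_def
  have htt : ∀ x : V, t • t • x = x := fun x => by
    rw [← mul_smul, ht_def, ← map_mul, hr2, map_one, one_smul]
  have hLfix : L ≤ fixSub c ⊓ fixSub t := by
    rintro _ ⟨f, hf, rfl⟩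
    refine ⟨add_mem hf (htC f hf), ?_⟩
    show t • (f + t • f) = f + t • f
    rw [smul_add, htt, add_comm]
  have hL8 : Nat.card L ≤ 8 := by
    have h := S.card_fix_map t (fixSub c : AddSubgroup V)
    have hle : Nat.card L ≤ Nat.card ↥(fixSub c ⊓ fixSub t : AddSubgroup V) :=
      Nat.card_le_card_of_injective (AddSubgroup.inclusion hLfix) (AddSubgroup.inclusion_injective _)
    by_contra hL
    have := Nat.mul_le_mul hle (le_refl (Nat.card L))
    rw [h] at this
    have h81 : 9 * 9 ≤ Nat.card L * Nat.card L := Nat.mul_le_mul (by omega) (by omega)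
    omega
  have hLinv : ∀ g, ∀ l ∈ L, S.i g • l ∈ L := by
    rintro g _ ⟨f, hf, rfl⟩
    refine ⟨S.i g • f, Shape.fix_stable (S.comm_i_j g k).symm hf, ?_⟩
    rw [mv_apply, mv_apply, smul_add, ht_def, Shape.smul_comm_of (S.comm_i_j g r)]
  have hLtriv : ∀ g, S.i g ∈ ptFix (L : Set V) := by
    intro g
    refine ((a6_top_of_five (K := (ptFix (L : Set V)).comap S.i) fun g hg l hl => ?_).ge
      (Subgroup.mem_top g))
    by_contra hne
    haveI : Finite L := inferInstance
    rcases S.five (by rw [← map_pow, hg, map_one]) (hLinv g) hl hne with e | e <;>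
    · have : 0 < Nat.card ↥(L ⊓ fixSub (S.i g)) := Nat.card_pos
      omega
  refine P.not_fixed (fun e => ?_) fun g => ?_
  · rw [e, Subgroup.card_bot] at hcard0
    omega
  · obtain ⟨f, hf, n, hn, rfl⟩ := hsplit w
    have e : v₀ = (f + t • f) + (n + t • n) := by rw [← hv, smul_add]; abel
    have h1 : S.i g • (f + t • f) = f + t • f := hLtriv g _ ⟨f, hf, rfl⟩
    have h2 : S.i g • (n + t • n) = n + t • n := by
      rw [smul_add, hN g n hn, Shape.smul_comm_of (S.comm_i_j g r), hN g n hn]
    rw [e, smul_add, h1, h2]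

end Piece

end CfsgLib.Recog.SThreeASix
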