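import Cfsg.Agent.Lib.Recog.SThreeASix.PieceBasic

/-!
When the elements of order three of the first factor are fixed-point-free, the space is two copies of the
fixed group `U` of a transposition, and the alternating group is transitive on `U`.
-/

set_option autoImplicit false
set_option linter.unusedSectionVars false
set_option linter.style.haveILetI false

namespace CfsgLib.Recog.SThreeASix

universe u v

variable {V : Type u} [AddCommGroup V] {X : Type v} [Group X] [DistribMulAction X V]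

theorem p3_mul_invol : ∀ r a : P3, r * r = 1 → r ≠ 1 → a * a = 1 → a = 1 ∨ a = r ∨
    (r * a) ^ 3 = 1 ∧ r * a ≠ 1 := by decide +kernel

theorem p3_pow : ∀ a : P3, a * a = 1 ∨ a ^ 3 = 1 ∧ a ≠ 1 := by decide +kernel

namespace Shape

variable (S : Shape V X)

/-- The fixed group of a transposition of the first factor. -/
def fixed (r : P3) : AddSubgroup V := fixSub (S.j r)

theorem mem_fixed {r : P3} {u : V} : u ∈ S.fixed r ↔ S.j r • u = u := Iff.rfl

theorem fixed_stable {r : P3} {x : X} (hx : S.s x = 1) {u : V} (hu : u ∈ S.fixed r) : x • u ∈ S.fixed r :=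
  fix_stable (S.comm_j hx r).symm hu

variable {S}
variable {r : P3} (hF : S.Fpf) (hr : r * r = 1) (hr1 : r ≠ 1)
include hF hr hr1

omit hr hr1 in
theorem sum3 {k : P3} (hk : k ^ 3 = 1) (hk1 : k ≠ 1) (w : V) :
    S.j k • S.j k • w = w + S.j k • w := by
  have h3 : S.j k • S.j k • S.j k • w = w := by
    rw [← mul_smul, ← mul_smul, ← map_mul, ← map_mul, ← pow_three', hk, map_one,
      one_smul]
  have h := hF k hk hk1 (w + S.j k • w + S.j k • S.j k • w) (by rw [smul_add, smul_add, h3]; abel)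
  exact (S.add_zero_iff.1 h).symm

omit hF in
theorem t_c {k : P3} (hk : k ^ 3 = 1) (w : V) : S.j r • S.j k • w = S.j k • S.j k • S.j r • w := by
  have h := (p3_invol k r (by rw [← hk, pow_succ, pow_two]) hr).resolve_right hr1
  have e : r * k = k * k * r := by rw [← h, mul_assoc _ r r, hr, mul_one]
  rw [← mul_smul, ← map_mul, e, map_mul, map_mul, mul_smul, mul_smul]

theorem fixed_inter {k : P3} (hk : k ^ 3 = 1) (hk1 : k ≠ 1) {u : V} (hu : u ∈ S.fixed r)
    (hcu : S.j k • u ∈ S.fixed r) : u = 0 := by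
  rw [mem_fixed, t_c hr hr1 hk, S.mem_fixed.1 hu, sum3 hF hk hk1] at hcu
  exact add_eq_right.1 hcu

theorem preimage_eq {k : P3} (hk : k ^ 3 = 1) (hk1 : k ≠ 1) {u : V} (hu : u ∈ S.fixed r) :
    S.j k • u + S.j r • S.j k • u = u := by
  rw [t_c hr hr1 hk, S.mem_fixed.1 hu, sum3 hF hk hk1,
    show S.j k • u + (u + S.j k • u) = u + (S.j k • u + S.j k • u) by abel, S.two, add_zero]

theorem exists_preimage : ∀ u ∈ S.fixed r, ∃ w, w + S.j r • w = u := fun u hu => by
  obtain ⟨k, hk, hk1⟩ := exists_three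
  exact ⟨_, preimage_eq hF hr hr1 hk hk1 hu⟩

theorem fixed_card : Nat.card ↥(S.fixed r) = 16 := by
  haveI := S.finite
  obtain ⟨k, hk, hk1⟩ := exists_three
  let f : S.fixed r × S.fixed r → V := fun p => p.1.1 + S.j k • p.2.1
  have hf : Function.Injective f := by
    rintro ⟨⟨a, ha⟩, ⟨b, hb⟩⟩ ⟨⟨a', ha'⟩, ⟨b', hb'⟩⟩ e
    have e' : a + S.j k • b = a' + S.j k • b' := e
    have e1 : S.j k • (b + b') = a + a' := by
      rw [smul_add, ← S.add_zero_iff,
        show S.j k • b + S.j k • b' + (a + a') = (a + S.j k • b) + (a' + S.j k • b') by abel, e', S.two]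
    have hb0 := fixed_inter hF hr hr1 hk hk1 (add_mem hb hb') (e1 ▸ add_mem ha ha')
    have eb : b = b' := S.add_zero_iff.1 hb0
    subst eb
    have ea : a = a' := add_right_cancel e'
    subst ea
    rfl
  have h1 := Nat.card_le_card_of_injective f hf
  rw [Nat.card_prod, S.card] at h1
  have h2 := S.card_fix_range (S.j r)
  have h3 : Nat.card ↥(mv (S.j r) : V →+ V).range ≤ Nat.card ↥(S.fixed r) := by
    refine Nat.card_le_card_of_injective (AddSubgroup.inclusion ?_) (AddSubgroup.inclusion_injective _)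
    rintro _ ⟨w, rfl⟩
    rw [mem_fixed, mv_apply, smul_add, ← mul_smul, ← map_mul, hr, map_one, one_smul, add_comm]
  have h4 : 256 ≤ Nat.card ↥(S.fixed r) * Nat.card ↥(S.fixed r) := by
    calc 256 = Nat.card ↥(S.fixed r) * Nat.card ↥(mv (S.j r) : V →+ V).range := h2.symm
      _ ≤ _ := Nat.mul_le_mul_left _ h3
  exact Nat.mul_self_inj.1 (le_antisymm (h1.trans (le_refl 256)) h4)

/-- Every vector is `u + c u'`. -/
theorem decompose {k : P3} (hk : k ^ 3 = 1) (hk1 : k ≠ 1) (w : V) :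
    ∃ a ∈ S.fixed r, ∃ b ∈ S.fixed r, w = a + S.j k • b := by
  haveI := S.finite
  let B : AddSubgroup V := (S.fixed r).map (DistribSMul.toAddMonoidHom V (S.j k))
  obtain ⟨a, ha, b', hb', e⟩ := S.split (N := ⊤) (A := S.fixed r) (B := B) le_top le_top
    (fun a ha hb => by
      obtain ⟨b, hb', rfl⟩ := hb
      show S.j k • b = 0
      rw [fixed_inter hF hr hr1 hk hk1 hb' ha, smul_zero])
    (by
      have e : Nat.card B = Nat.card ↥(S.fixed r) :=
        (Nat.card_congr ((S.fixed r).equivMapOfInjective _ (MulAction.injective (S.j k))).toEquiv).symm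
      rw [e, fixed_card hF hr hr1, AddSubgroup.card_top, S.card])
    (AddSubgroup.mem_top w)
  obtain ⟨b, hb, rfl⟩ := hb'
  exact ⟨a, ha, b, hb, e⟩

theorem fixed_perp {u u' : V} (hu : u ∈ S.fixed r) (hu' : u' ∈ S.fixed r) : S.b u u' = 0 := by
  obtain ⟨w, rfl⟩ := exists_preimage hF hr hr1 u hu
  rw [S.b_comm]
  exact S.b_fix_img (S.mem_fixed.1 hu') w

omit hr hr1 in
theorem b_c_self {k : P3} (hk : k ^ 3 = 1) (hk1 : k ≠ 1) (u : V) : S.b (S.j k • u) u = S.q u := by
  have h := S.q_smul (S.j k * S.j k) u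
  rw [mul_smul, sum3 hF hk hk1, S.q_add, S.q_smul, CharTwo.add_self_eq_zero, zero_add] at h
  rw [S.b_comm, h]

theorem b_c_symm {k : P3} (hk : k ^ 3 = 1) {u u' : V} (hu : u ∈ S.fixed r)
    (hu' : u' ∈ S.fixed r) : S.b (S.j k • u) u' = S.b (S.j k • u') u := by
  have h1 := S.b_smul (S.j r) (S.j k • u) u'
  rw [t_c hr hr1 hk, S.mem_fixed.1 hu, S.mem_fixed.1 hu'] at h1
  rw [← h1, ← S.b_smul (S.j k) (S.j k • S.j k • u) u', ← mul_smul, ← mul_smul, ← map_mul, ← map_mul,
    ← pow_three', hk, map_one, one_smul, S.b_comm]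

theorem b_c_nondeg {k : P3} (hk : k ^ 3 = 1) (hk1 : k ≠ 1) {u : V} (hu : u ∈ S.fixed r)
    (h : ∀ u' ∈ S.fixed r, S.b (S.j k • u) u' = 0) : u = 0 := by
  refine (smul_eq_zero_iff_eq (S.j k)).1 (S.nondeg _ fun w => ?_)
  obtain ⟨a, ha, b, hb, rfl⟩ := decompose hF hr hr1 hk hk1 w
  rw [S.b_add_right, h a ha, S.b_smul, fixed_perp hF hr hr1 hu hb, add_zero]

/-- Only the transposition fixes its fixed group pointwise. -/
theorem fixer {x : X} (hx : ∀ u ∈ S.fixed r, x • u = u) : x = 1 ∨ x = S.j r := by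
  haveI := S.finite
  obtain ⟨y, hxy, hy, -⟩ := S.decomp x
  set a := S.s x
  have hU : ∃ u ∈ S.fixed r, u ≠ 0 := by
    by_contra h
    push Not at h
    have hc := fixed_card hF hr hr1
    haveI : Subsingleton ↥(S.fixed r) := ⟨fun p q => Subtype.ext ((h p p.2).trans (h q q.2).symm)⟩
    have := Finite.card_le_one_iff_subsingleton.2 ‹Subsingleton ↥(S.fixed r)›
    omega
  have no3 : ∀ k : P3, k ^ 3 = 1 → k ≠ 1 → (∀ u ∈ S.fixed r, S.j k • y • u ∈ S.fixed r) → False := by
    intro k hk hk1 h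
    obtain ⟨u, hu, hu0⟩ := hU
    exact hu0 ((smul_eq_zero_iff_eq y).1 (fixed_inter hF hr hr1 hk hk1 (S.fixed_stable hy hu) (h u hu)))
  have htriv : a = 1 ∨ a = r := by
    rcases p3_pow a with h2 | ⟨h3, h31⟩
    · rcases p3_mul_invol r a hr hr1 h2 with h | h | ⟨h3, h31⟩
      · exact Or.inl h
      · exact Or.inr h
      · refine (no3 (r * a) h3 h31 fun u hu => ?_).elim
        rw [map_mul, mul_smul, ← mul_smul (S.j a) y u, ← hxy, hx u hu, S.mem_fixed.1 hu]
        exact hu
    · refine (no3 a h3 h31 fun u hu => ?_).elim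
      rw [← mul_smul, ← hxy, hx u hu]
      exact hu
  have hyU : ∀ u ∈ S.fixed r, y • u = u := by
    intro u hu
    have h := hx u hu
    rw [hxy, mul_smul] at h
    rcases htriv with e | e <;> rw [e] at h
    · rwa [map_one, one_smul] at h
    · rwa [S.mem_fixed.1 (S.fixed_stable hy hu)] at h
  have hy1 : y = 1 := S.faith y fun w => by
    obtain ⟨k, hk, hk1⟩ := exists_three
    obtain ⟨a', ha, b, hb, rfl⟩ := decompose hF hr hr1 hk hk1 w
    rw [smul_add, hyU a' ha, smul_comm_of (S.comm_j hy k), hyU b hb]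
  rw [hy1, mul_one] at hxy
  rcases htriv with e | e <;> rw [e] at hxy
  · exact Or.inl (by rw [hxy, map_one])
  · exact Or.inr hxy

/-- Elements of order five of the alternating group have no fixed point in `U`. -/
theorem five_free {g : A6} (hg : g ^ 5 = 1) (hg1 : g ≠ 1) {u : V} (hu : u ∈ S.fixed r)
    (h : S.i g • u = u) : u = 0 := by
  haveI := S.finite
  obtain ⟨w, hw, hmv⟩ : ∃ w ∈ S.fixed r, S.i g • w ≠ w := by
    by_contra hno
    push Not at hno
    rcases fixer hF hr hr1 hno with e | e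
    · exact hg1 (S.i_inj (by rw [e, map_one]))
    · exact hr1 (by rw [← S.s_j r, ← e, S.s_i])
  have h5 := S.five (by rw [← map_pow, hg, map_one]) (fun x hx => S.fixed_stable (S.s_i g) hx) hw hmv
  rw [fixed_card hF hr hr1] at h5
  by_contra hu0
  have : Nontrivial ↥(S.fixed r ⊓ fixSub (S.i g) : AddSubgroup V) :=
    ⟨⟨⟨u, hu, h⟩, 0, fun e => hu0 (congrArg Subtype.val e)⟩⟩
  have := Finite.one_lt_card (α := ↥(S.fixed r ⊓ fixSub (S.i g) : AddSubgroup V))
  omega

omit hF hr hr1 in
/-- The action of the alternating group. -/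
abbrev actI (S : Shape V X) : MulAction A6 V := MulAction.compHom V S.i

theorem orbit_data {u : V} (hu : u ∈ S.fixed r) (hu0 : u ≠ 0) :
    letI := actI S
    (∀ x ∈ MulAction.orbit A6 u, x ∈ S.fixed r ∧ x ≠ 0) ∧ 5 ∣ (MulAction.orbit A6 u).ncard ∧
      (MulAction.orbit A6 u).ncard * Nat.card (MulAction.stabilizer A6 u) = 360 ∧
      (MulAction.orbit A6 u).ncard ≠ 5 := by
  haveI := S.finite
  letI := actI S
  have hmul : (MulAction.orbit A6 u).ncard * Nat.card (MulAction.stabilizer A6 u) = 360 := by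
    rw [← MulAction.index_stabilizer, mul_comm, Subgroup.card_mul_index, a6_card]
  have h5 : ¬ 5 ∣ Nat.card (MulAction.stabilizer A6 u) := fun h => by
    haveI : Fact (Nat.Prime 5) := ⟨by norm_num⟩
    obtain ⟨⟨g, hg⟩, hord⟩ := exists_prime_orderOf_dvd_card' 5 h
    have hg5 : g ^ 5 = 1 := by
      have := pow_orderOf_eq_one (⟨g, hg⟩ : MulAction.stabilizer A6 u)
      rw [hord] at this
      exact congrArg Subtype.val this
    have hg1 : g ≠ 1 := fun e => by
      subst e
      rw [show (⟨1, hg⟩ : MulAction.stabilizer A6 u) = 1 from rfl, orderOf_one] at hord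
      norm_num at hord
    exact hu0 (five_free hF hr hr1 hg5 hg1 hu hg)
  have hd5 : 5 ∣ (MulAction.orbit A6 u).ncard :=
    ((show Nat.Prime 5 by norm_num).dvd_mul.1 (hmul ▸ (by norm_num : 5 ∣ 360))).resolve_right h5
  refine ⟨fun x hx => ?_, hd5, hmul, fun h => ?_⟩
  · obtain ⟨g, rfl⟩ := hx
    exact ⟨S.fixed_stable (S.s_i g) hu, fun e => hu0 ((smul_eq_zero_iff_eq (S.i g)).1 e)⟩
  · let φ := MulAction.toPermHom A6 (MulAction.orbit A6 u)
    have hker : φ.ker = ⊥ := by
      have := a6_simple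
      refine ((φ.normal_ker).eq_bot_or_eq_top).resolve_right fun e => ?_
      obtain ⟨g, hg5, hg1⟩ := exists_five
      have h1 : φ g = 1 := MonoidHom.mem_ker.1 (e ▸ Subgroup.mem_top g)
      have h2 := congrArg Subtype.val (congrArg (fun σ => σ ⟨u, MulAction.mem_orbit_self u⟩) h1)
      exact hu0 (five_free hF hr hr1 hg5 hg1 hu h2)
    haveI : Finite (MulAction.orbit A6 u) := inferInstance
    have hle := Nat.card_le_card_of_injective φ ((MonoidHom.ker_eq_bot_iff φ).1 hker)
    rw [a6_card, Nat.card_perm, Nat.card_coe_set_eq, h] at hle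
    norm_num [Nat.factorial] at hle

/-- The alternating group is transitive on the non-zero vectors of `U`, with stabilisers of order 24. -/
theorem orbit_eq {u : V} (hu : u ∈ S.fixed r) (hu0 : u ≠ 0) :
    letI := actI S
    (∀ x ∈ S.fixed r, x ≠ 0 → x ∈ MulAction.orbit A6 u) ∧ Nat.card (MulAction.stabilizer A6 u) = 24 := by
  haveI := S.finite
  letI := actI S
  obtain ⟨hsub, hd, hmul, hne⟩ := orbit_data hF hr hr1 hu hu0
  have hU : ((S.fixed r : Set V) \ {0}).ncard = 15 := by
    rw [Set.ncard_sdiff (Set.singleton_subset_iff.2 (S.fixed r).zero_mem), Set.ncard_singleton,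
      ← Nat.card_coe_set_eq]
    show Nat.card ↥(S.fixed r) - 1 = 15
    rw [fixed_card hF hr hr1]
  have hle : MulAction.orbit A6 u ⊆ (S.fixed r : Set V) \ {0} := fun x hx => hsub x hx
  have h0 : (MulAction.orbit A6 u).ncard ≠ 0 := fun h => by rw [h, zero_mul] at hmul; norm_num at hmul
  have hall : ∀ x ∈ S.fixed r, x ≠ 0 → x ∈ MulAction.orbit A6 u := by
    intro x hx hx0
    by_contra hno
    obtain ⟨hsub', hd', hmul', hne'⟩ := orbit_data hF hr hr1 hx hx0
    have h0' : (MulAction.orbit A6 x).ncard ≠ 0 := fun h => by rw [h, zero_mul] at hmul'; norm_num at hmul'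
    have hdisj : Disjoint (MulAction.orbit A6 u) (MulAction.orbit A6 x) := by
      rcases MulAction.orbit.eq_or_disjoint (G := A6) u x with e | e
      · exact absurd (e ▸ MulAction.mem_orbit_self x) hno
      · exact e
    have hsum := Set.ncard_le_ncard (Set.union_subset hle fun y hy => hsub' y hy)
    rw [Set.ncard_union_eq hdisj, hU] at hsum
    obtain ⟨a, ha⟩ := hd
    obtain ⟨b, hb⟩ := hd'
    omega
  refine ⟨hall, ?_⟩
  have heq : MulAction.orbit A6 u = (S.fixed r : Set V) \ {0} :=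
    Set.Subset.antisymm hle fun x hx => hall x hx.1 hx.2
  rw [heq, hU] at hmul
  omega

theorem fixed_trans {u u' : V} (hu : u ∈ S.fixed r) (hu0 : u ≠ 0) (hu' : u' ∈ S.fixed r) (hu0' : u' ≠ 0) :
    ∃ g : A6, S.i g • u = u' := by
  letI := actI S
  exact MulAction.mem_orbit_iff.1 ((orbit_eq hF hr hr1 hu hu0).1 u' hu' hu0')

/-- A function on `U` constant on non-zero vectors and additive is zero. -/
theorem fixed_sing : ∀ u ∈ S.fixed r, S.q u = 0 := by
  haveI := S.finite
  intro u hu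
  rcases eq_or_ne u 0 with rfl | hu0
  · exact S.q_zero
  obtain ⟨w, hw, hwu⟩ : ∃ w ∈ S.fixed r, w ∉ ({0, u} : Set V) := by
    by_contra h
    push Not at h
    have hle := Set.ncard_le_ncard (s := (S.fixed r : Set V)) (fun x hx => h x hx)
      (Set.toFinite ({0, u} : Set V))
    rw [← Nat.card_coe_set_eq] at hle
    have h2 : ({0, u} : Set V).ncard ≤ 2 := (Set.ncard_insert_le 0 {u}).trans (by rw [Set.ncard_singleton])
    have hc := fixed_card hF hr hr1
    change Nat.card ↥(S.fixed r) ≤ _ at hle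
    omega
  simp only [Set.mem_insert_iff, Set.mem_singleton_iff, not_or] at hwu
  have hc : ∀ x ∈ S.fixed r, x ≠ 0 → S.q x = S.q u := fun x hx hx0 => by
    obtain ⟨g, rfl⟩ := fixed_trans hF hr hr1 hu hu0 hx hx0
    exact S.q_smul _ _
  have h := S.q_add u w
  rw [fixed_perp hF hr hr1 hu hw, add_zero, hc w hw hwu.1,
    hc (u + w) (add_mem hu hw) fun e => hwu.2 (S.add_zero_iff.1 e).symm, CharTwo.add_self_eq_zero] at h
  exact h

/-- An element of order three fixing `v` in `U` fixes only `0` and `v` in the hyperplane orthogonal to `c v`. -/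
theorem three {k : P3} (hk : k ^ 3 = 1) (hk1 : k ≠ 1) {v : V} (hv : v ∈ S.fixed r) (hv0 : v ≠ 0) :
    ∃ g : A6, g ^ 3 = 1 ∧ g ≠ 1 ∧ S.i g • v = v ∧
      ∀ u ∈ S.fixed r, S.b (S.j k • u) v = 0 → S.i g • u = u → u = 0 ∨ u = v := by
  haveI := S.finite
  letI := actI S
  haveI : Fact (Nat.Prime 3) := ⟨by norm_num⟩
  obtain ⟨⟨g, hg⟩, hord⟩ := exists_prime_orderOf_dvd_card' (G := MulAction.stabilizer A6 v) 3
    (by rw [(orbit_eq hF hr hr1 hv hv0).2]; norm_num)
  have hg3 : g ^ 3 = 1 := by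
    have := pow_orderOf_eq_one (⟨g, hg⟩ : MulAction.stabilizer A6 v)
    rw [hord] at this
    exact congrArg Subtype.val this
  have hg1 : g ≠ 1 := fun e => by
    subst e
    rw [show (⟨1, hg⟩ : MulAction.stabilizer A6 v) = 1 from rfl, orderOf_one] at hord
    norm_num at hord
  have hgv : S.i g • v = v := hg
  refine ⟨g, hg3, hg1, hgv, fun u hu hβ hgu => ?_⟩
  by_contra hno
  push Not at hno
  set F := S.fixed r ⊓ fixSub (S.i g) with hF_def
  have hgU : ∀ x ∈ S.fixed r, S.i g • x ∈ S.fixed r := fun x hx => S.fixed_stable (S.s_i g) hx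
  have hi3 : S.i g ^ 3 = 1 := by rw [← map_pow, hg3, map_one]
  obtain ⟨w, hw, hmv⟩ : ∃ w ∈ S.fixed r, S.i g • w ≠ w := by
    by_contra hno'
    push Not at hno'
    rcases fixer hF hr hr1 hno' with e | e
    · exact hg1 (S.i_inj (by rw [e, map_one]))
    · exact hr1 (by rw [← S.s_j r, ← e, S.s_i])
  obtain ⟨i, hi, hcard⟩ := S.three_count hi3 hgU hw hmv
  rw [fixed_card hF hr hr1] at hcard
  have h4F : Nat.card F ≤ 4 := by
    have : 4 ^ 1 * Nat.card F ≤ 4 ^ i * Nat.card F :=
      Nat.mul_le_mul_right _ (Nat.pow_le_pow_right (by norm_num) hi)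
    rw [hcard] at this
    omega
  classical
  have hF4 : ∀ x ∈ F, x = 0 ∨ x = v ∨ x = u ∨ x = u + v := by
    let T : Finset V := {0, v, u, u + v}
    have hT : T.card = 4 := by
      have e1 : u + v ≠ 0 := fun e => hno.2 (S.add_zero_iff.1 e)
      have e2 : u + v ≠ v := fun e => hno.1 (add_eq_right.1 e)
      have e3 : u + v ≠ u := fun e => hv0 (add_eq_left.1 e)
      rw [Finset.card_eq_four]
      exact ⟨_, _, _, _, Ne.symm hv0, Ne.symm hno.1, Ne.symm e1, Ne.symm hno.2, Ne.symm e2, Ne.symm e3, rfl⟩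
    have hsub : ∀ x ∈ T, x ∈ F := by
      intro x hx
      simp only [T, Finset.mem_insert, Finset.mem_singleton] at hx
      rcases hx with rfl | rfl | rfl | rfl
      exacts [zero_mem _, ⟨hv, hgv⟩, ⟨hu, hgu⟩, add_mem (show u ∈ F from ⟨hu, hgu⟩) (show v ∈ F from ⟨hv, hgv⟩)]
    intro x hx
    let f : T → F := fun y => ⟨y.1, hsub y.1 y.2⟩
    have hf : Function.Injective f := fun a b e => Subtype.ext (congrArg Subtype.val e :)
    obtain ⟨⟨y, hy⟩, e⟩ := (hf.bijective_of_nat_card_le (by rw [Nat.card_eq_finsetCard, hT]; exact h4F)).2 ⟨x, hx⟩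
    have e' : y = x := congrArg Subtype.val e
    subst e'
    simpa [T] using hy
  have hq := fixed_sing hF hr hr1
  refine hno.1 (b_c_nondeg hF hr hr1 hk hk1 hu fun u' hu' => ?_)
  have hM : (S.fixed r).map (mv (S.i g)) ≤ S.fixed r := by
    rintro _ ⟨x, hx, rfl⟩
    exact add_mem hx (hgU x hx)
  obtain ⟨a, ha, m, hm, rfl⟩ := S.split (inf_le_left : F ≤ S.fixed r) hM
    (fun x hx hx' => by
      obtain ⟨y, -, rfl⟩ := hx'
      exact S.fix_inf_img (by decide : Odd 3) hi3 hx.2)
    (S.card_fix_map _ _) hu'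
  have hm0 : S.b (S.j k • u) m = 0 := by
    obtain ⟨y, -, rfl⟩ := hm
    refine S.b_fix_img ?_ y
    rw [smul_comm_of (S.comm_i_j g k), hgu]
  rw [S.b_add_right, hm0, add_zero]
  have huu : S.b (S.j k • u) u = 0 := by rw [b_c_self hF hk hk1]; exact hq u hu
  rcases hF4 a ha with rfl | rfl | rfl | rfl
  · exact S.b_zero_right _
  · exact hβ
  · exact huu
  · rw [S.b_add_right, huu, hβ, add_zero]

/-- No invariant refinement of the symplectic form exists. -/
theorem no_section (s : V → ZMod 2) (hs : ∀ u w, s (u + w) = s u + s w + S.b u (w + S.j r • w))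
    (hinv : ∀ (g : A6) (w : V), g ^ 5 = 1 → s (S.i g • w) = s w) : False := by
  haveI := S.finite
  obtain ⟨k, hk, hk1⟩ := exists_three
  let K : Subgroup A6 :=
    { carrier := {g | ∀ w, s (S.i g • w) = s w}
      one_mem' := fun w => by rw [map_one, one_smul]
      mul_mem' := fun {a b} ha hb w => by rw [map_mul, mul_smul, ha, hb]
      inv_mem' := fun {a} ha w => by
        have h := ha (S.i a⁻¹ • w)
        rw [← mul_smul, ← map_mul, mul_inv_cancel, map_one, one_smul] at h
        exact h.symm }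
  have hK : ∀ g w, s (S.i g • w) = s w := fun g =>
    (a6_top_of_five (K := K) fun g hg w => hinv g w hg).ge (Subgroup.mem_top g)
  have hadd : ∀ a ∈ S.fixed r, ∀ b ∈ S.fixed r,
      S.b (S.j k • a) b = s (S.j k • (a + b)) + s (S.j k • a) + s (S.j k • b) := by
    intro a _ b hb
    rw [smul_add, hs, preimage_eq hF hr hr1 hk hk1 hb]
    generalize s (S.j k • a) = x
    generalize s (S.j k • b) = y
    generalize S.b (S.j k • a) b = z
    revert x y z
    decide
  have hU : 8 ≤ Nat.card ↥(S.fixed r) := by rw [fixed_card hF hr hr1]; norm_num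
  obtain ⟨u₀, hu₀, hu₀'⟩ : ∃ u ∈ S.fixed r, u ≠ 0 := by
    by_contra h
    push Not at h
    haveI : Subsingleton ↥(S.fixed r) := ⟨fun p q => Subtype.ext ((h p p.2).trans (h q q.2).symm)⟩
    have := Finite.card_le_one_iff_subsingleton.2 ‹Subsingleton ↥(S.fixed r)›
    omega
  set e := s (S.j k • u₀)
  have hc : ∀ u ∈ S.fixed r, u ≠ 0 → s (S.j k • u) = e := fun u hu hu0 => by
    obtain ⟨g, rfl⟩ := fixed_trans hF hr hr1 hu₀ hu₀' hu hu0
    rw [← smul_comm_of (S.comm_i_j g k), hK]
  have hval : ∀ a ∈ S.fixed r, ∀ b ∈ S.fixed r, a ≠ 0 → b ≠ 0 → a ≠ b → S.b (S.j k • a) b = e := by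
    intro a ha b hb ha0 hb0 hne
    rw [hadd a ha b hb, hc _ (add_mem ha hb) (fun h => hne (S.add_zero_iff.1 h)), hc a ha ha0, hc b hb hb0]
    rcases zmod_two_cases e with h | h <;> rw [h] <;> decide
  have he := S.alt_const_zero (N := S.fixed r) hU (fun a b => S.b (S.j k • a) b) e
    (fun a _ b _ b' _ => S.b_add_right _ b b') hval
  refine hu₀' (b_c_nondeg hF hr hr1 hk hk1 hu₀ fun u hu => ?_)
  rcases eq_or_ne u 0 with rfl | hu0
  · exact S.b_zero_right _
  rcases eq_or_ne u₀ u with rfl | hne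
  · rw [b_c_self hF hk hk1]
    exact fixed_sing hF hr hr1 _ hu
  rw [hval u₀ hu₀ u hu hu₀' hu0 hne, he]

end Shape

end CfsgLib.Recog.SThreeASix
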