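import Cfsg.Agent.Lib.Recog.SThreeASix.Fix
import Cfsg.Agent.Lib.Recog.SThreeASix.Tensor

/-!
An element of `A` with odd product of signs forces a pure transposition in `A`.
-/

set_option autoImplicit false
set_option linter.unusedSectionVars false
set_option linter.style.haveILetI false

namespace CfsgLib.Recog.SThreeASix

universe u v

variable {V : Type u} [AddCommGroup V] {X : Type v} [Group X] [DistribMulAction X V]

theorem p3_sign : ∀ a : P3, a * a = 1 → a ≠ 1 → Equiv.Perm.sign a ≠ 1 := by decide +kernel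

theorem p3_two : ∀ r : P3, r * r = 1 → r ≠ 1 →
    ∃ k : P3, k ^ 3 = 1 ∧ k ≠ 1 ∧ k * r * k⁻¹ * (k * r * k⁻¹) = 1 ∧ k * r * k⁻¹ ≠ 1 := by decide +kernel

theorem exists_p3_invol : ∃ r : P3, r * r = 1 ∧ r ≠ 1 := by decide +kernel

namespace Shape

variable (S : Shape V X)
include S

/-- A subgroup of at most twice the order is generated by one more element. -/
theorem extend_one {D E : AddSubgroup V} (hDE : D ≤ E) (h : Nat.card E ≤ 2 * Nat.card D) :
    ∃ w ∈ E, E ≤ D ⊔ AddSubgroup.zmultiples w := by
  haveI := S.finite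
  by_cases hED : E ≤ D
  · exact ⟨0, E.zero_mem, hED.trans le_sup_left⟩
  obtain ⟨w, hwE, hwD⟩ := SetLike.not_le_iff_exists.1 hED
  refine ⟨w, hwE, ?_⟩
  set D' := D ⊔ AddSubgroup.zmultiples w
  have hle : D' ≤ E := sup_le hDE (AddSubgroup.zmultiples_le_of_mem hwE)
  obtain ⟨a, -, ha⟩ := S.card_pow D
  obtain ⟨b, -, hb⟩ := S.card_pow D'
  have hlt : a < b := by
    by_contra hge
    push Not at hge
    have e : D = D' := AddSubgroup.eq_of_le_of_card_ge le_sup_left
      (by rw [ha, hb]; exact Nat.pow_le_pow_right two_pos hge)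
    exact hwD (e ▸ AddSubgroup.mem_sup_right (AddSubgroup.mem_zmultiples w))
  refine (AddSubgroup.eq_of_le_of_card_ge hle ?_).ge
  rw [ha] at h
  rw [hb]
  calc Nat.card E ≤ 2 * 2 ^ a := h
    _ = 2 ^ (a + 1) := by rw [pow_succ]; ring
    _ ≤ 2 ^ b := Nat.pow_le_pow_right two_pos hlt

theorem exists_ne_zero_notMem {E : AddSubgroup V} (T : Finset V) (h : T.card < Nat.card E) :
    ∃ w ∈ E, w ∉ T := by
  haveI := S.finite
  by_contra hno
  push Not at hno
  have : Nat.card E ≤ Nat.card T := Nat.card_le_card_of_injective (fun w => (⟨w.1, hno w.1 w.2⟩ : T))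
    (fun a b e => Subtype.ext (congrArg Subtype.val e :))
  rw [Nat.card_eq_finsetCard] at this
  omega

end Shape

namespace Piece

variable {S : Shape V X} {v₀ : V} {W : AddSubgroup V} {A : Subgroup X} (P : Piece S v₀ W A)
include P

/-- When `A` has order eight it fixes only `0` and `v₀` in `W`. -/
theorem cent_W (hA : Nat.card A = 8) {w₀ : V} (hw : w₀ ∈ W) (hfix : ∀ a ∈ A, a • w₀ = w₀) :
    w₀ = 0 ∨ w₀ = v₀ := by
  haveI := S.finite
  haveI := P.finite_A
  classical
  by_contra hno
  push Not at hno
  have hW : Nat.card W = 16 := by have := P.card; rw [hA] at this; omega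
  have hfaith : ∀ a ∈ A, (∀ w ∈ W, a • w = w) → a = 1 := by
    intro a ha h
    have hk := P.ker_le (A ⊓ ptFix (W : Set V)) inf_le_left inf_le_right
    rw [hW] at hk
    haveI : Finite ↥(A ⊓ ptFix (W : Set V) : Subgroup X) :=
      Finite.of_injective (Subgroup.inclusion inf_le_left) (Subgroup.inclusion_injective _)
    exact Subgroup.mem_bot.1 (Subgroup.eq_bot_of_card_le (A ⊓ ptFix (W : Set V)) (by omega) ▸ ⟨ha, h⟩)
  let Fx : AddSubgroup V :=
    { carrier := {w | w ∈ W ∧ ∀ a ∈ A, a • w = w}
      zero_mem' := ⟨W.zero_mem, fun a _ => smul_zero a⟩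
      add_mem' := fun {x y} hx hy => ⟨add_mem hx.1 hy.1, fun a ha => by rw [smul_add, hx.2 a ha, hy.2 a ha]⟩
      neg_mem' := fun {x} hx => by rw [S.neg_eq]; exact hx }
  have hF3 : 3 ≤ Nat.card Fx := by
    let f : Fin 3 → Fx := ![0, ⟨v₀, P.mem, P.fixes⟩, ⟨w₀, hw, hfix⟩]
    have hf : Function.Injective f := by
      intro i j e
      have e' := congrArg Subtype.val e
      fin_cases i <;> fin_cases j <;> simp [f] at e' ⊢
      exacts [P.ne e'.symm, hno.1 e'.symm, P.ne e', hno.2 e'.symm, hno.1 e', hno.2 e']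
    simpa using Nat.card_le_card_of_injective f hf
  have hF4 : 4 ≤ Nat.card Fx := by
    obtain ⟨n, -, hn⟩ := S.card_pow Fx
    rw [hn] at hF3 ⊢
    have h2 : 2 ≤ n := by
      by_contra h
      interval_cases n <;> simp at hF3
    calc 4 = 2 ^ 2 := rfl
      _ ≤ 2 ^ n := Nat.pow_le_pow_right two_pos h2
  have hFW : Fx ≤ W := fun x hx => hx.1
  obtain ⟨w₁, hw1, D, hD, hDW, hD8, hfix1⟩ : ∃ w₁ ∈ W, ∃ D : AddSubgroup V, D = Fx ⊔ AddSubgroup.zmultiples w₁ ∧
      D ≤ W ∧ 8 ≤ Nat.card D ∧ (∀ a ∈ A, a • w₁ = w₁ → D ≤ fixSub a) := by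
    have hfix1 : ∀ w₁, ∀ a ∈ A, a • w₁ = w₁ → Fx ⊔ AddSubgroup.zmultiples w₁ ≤ fixSub a :=
      fun w₁ a ha e => sup_le (fun x hx => hx.2 a ha) (AddSubgroup.zmultiples_le_of_mem e)
    by_cases hWF : W ≤ Fx
    · refine ⟨0, W.zero_mem, _, rfl, sup_le hFW (AddSubgroup.zmultiples_le_of_mem W.zero_mem), ?_, hfix1 0⟩
      have e : W ≤ Fx ⊔ AddSubgroup.zmultiples (0 : V) := hWF.trans le_sup_left
      have := Nat.card_le_card_of_injective _ (AddSubgroup.inclusion_injective e)
      omega
    obtain ⟨w, hwW, hwF⟩ := SetLike.not_le_iff_exists.1 hWF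
    refine ⟨w, hwW, _, rfl, sup_le hFW (AddSubgroup.zmultiples_le_of_mem hwW), ?_, hfix1 w⟩
    obtain ⟨n, -, hn⟩ := S.card_pow (Fx ⊔ AddSubgroup.zmultiples w)
    by_contra hlt
    have e : Fx = Fx ⊔ AddSubgroup.zmultiples w := AddSubgroup.eq_of_le_of_card_ge le_sup_left (by
      rw [hn] at hlt ⊢
      have : n ≤ 2 := by
        by_contra h
        exact hlt (le_trans (by norm_num) (Nat.pow_le_pow_right two_pos (show 3 ≤ n by omega)))
      exact le_trans (Nat.pow_le_pow_right two_pos this) hF4)
    exact hwF (e ▸ AddSubgroup.mem_sup_right (AddSubgroup.mem_zmultiples w))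
  obtain ⟨w₂, hw2, hspan⟩ := S.extend_one hDW (by omega)
  let val : A → Bool × Bool := fun a => (decide (a.1 • w₁ = w₁), decide (a.1 • w₂ = w₂))
  have hval : Function.Injective val := by
    intro a b e
    simp only [val, Prod.mk.injEq, decide_eq_decide] at e
    have same : ∀ w ∈ W, (a.1 • w = w ↔ b.1 • w = w) → (a.1 * b.1) • w = w := by
      intro w hwW hiff
      rw [mul_smul]
      rcases P.pair _ b.2 w hwW with h | h
      · rw [(S.add_zero_iff.1 h).symm]
        exact hiff.2 (S.add_zero_iff.1 h).symm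
      · have hb : b.1 • w = w + v₀ := by rw [← h, ← add_assoc, S.two, zero_add]
        have ha : a.1 • w = w + v₀ := by
          rcases P.pair _ a.2 w hwW with h' | h'
          · have := hiff.1 (S.add_zero_iff.1 h').symm
            rw [hb, add_eq_left] at this
            exact absurd this P.ne
          · rw [← h', ← add_assoc, S.two, zero_add]
        rw [hb, smul_add, ha, P.fixes _ a.2, add_assoc, S.two, add_zero]
    have hab : a.1 * b.1 = 1 := by
      refine hfaith _ (mul_mem a.2 b.2) fun w hwW => ?_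
      have h1 := hfix1 _ (mul_mem a.2 b.2) (same w₁ hw1 e.1)
      exact (hspan.trans (sup_le h1 (AddSubgroup.zmultiples_le_of_mem (same w₂ hw2 e.2)))) hwW
    exact Subtype.ext (calc a.1 = a.1 * (b.1 * b.1) := by rw [P.sq _ b.2, mul_one]
      _ = b.1 := by rw [← mul_assoc, hab, one_mul])
  have := Nat.card_le_card_of_injective val hval
  rw [hA, Nat.card_prod, Nat.card_eq_fintype_card, Fintype.card_bool] at this
  omega

theorem preserves {r : P3} {a : X} (ha : S.s a = 1 ∨ S.s a = r) {u : V} (hu : u ∈ S.fixed r) :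
    a • u ∈ S.fixed r := by
  obtain ⟨y, hy, hy1, -⟩ := S.decomp a
  rw [hy, mul_smul]
  rcases ha with e | e <;> rw [e]
  · rw [map_one, one_smul]
    exact S.fixed_stable hy1 hu
  · rw [S.mem_fixed.1 (S.fixed_stable hy1 hu)]
    exact S.fixed_stable hy1 hu

/-- The kernel of the sign on the first factor has index at most two. -/
theorem card_kerS : Nat.card A ≤ 2 * Nat.card ↥(A ⊓ S.s.ker) := by
  haveI := P.finite_A
  let σ : A →* ℤˣ := (Equiv.Perm.sign.comp S.s).comp A.subtype
  have h1 := σ.ker.card_mul_index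
  rw [Subgroup.index_ker] at h1
  have h2 : Nat.card σ.range ≤ 2 :=
    (Subgroup.card_le_card_group _).trans (le_of_eq (by simp [Nat.card_eq_fintype_card]))
  haveI : Finite ↥(A ⊓ S.s.ker : Subgroup X) :=
    Finite.of_injective (Subgroup.inclusion inf_le_left) (Subgroup.inclusion_injective _)
  have h3 : Nat.card σ.ker ≤ Nat.card ↥(A ⊓ S.s.ker) :=
    Nat.card_le_card_of_injective (fun a => ⟨a.1.1, a.1.2, by
      show S.s a.1.1 = 1
      by_contra h
      exact p3_sign _ (by rw [← map_mul, P.sq _ a.1.2, map_one]) h a.2⟩)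
      (fun a b e => Subtype.ext (Subtype.ext (congrArg (fun z => (z.1 : X)) e :)))
  rw [← h1]
  calc Nat.card σ.ker * Nat.card σ.range ≤ Nat.card ↥(A ⊓ S.s.ker) * 2 := Nat.mul_le_mul h3 h2
    _ = _ := Nat.mul_comm _ _

/-- With `A` of order eight the point lies in the fixed group of the transposition moved by `A`. -/
theorem v_mem_fixed (hF : S.Fpf) (hA : Nat.card A = 8) {r : P3} (hr : r * r = 1) (hr1 : r ≠ 1)
    (hsA : ∀ a ∈ A, S.s a = 1 ∨ S.s a = r) : v₀ ∈ S.fixed r := by
  haveI := S.finite
  haveI := P.finite_A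
  classical
  by_contra hv
  obtain ⟨k, hk, hk1⟩ := exists_three
  set B := A ⊓ S.s.ker with hB_def
  haveI : Finite ↥B := Finite.of_injective (Subgroup.inclusion inf_le_left) (Subgroup.inclusion_injective _)
  have hB4 : 4 ≤ Nat.card B := by
    have := P.card_kerS
    rw [hA] at this
    show 4 ≤ Nat.card ↥(A ⊓ S.s.ker)
    omega
  have hWU : ∀ w ∈ W, w ∈ S.fixed r → w = 0 := by
    intro w hw hwU
    refine (P.cent_W hA hw fun a ha => ?_).resolve_right fun e => hv (e ▸ hwU)
    rcases P.pair a ha w hw with h | h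
    · exact (S.add_zero_iff.1 h).symm
    · exact absurd (h ▸ add_mem hwU (P.preserves (hsA a ha) hwU)) hv
  have hperp : ∀ a ∈ B, ∀ u ∈ S.fixed r, S.b u v₀ = 0 → a • u = u := fun a ha u hu hb =>
    (S.add_zero_iff.1 (hWU _ (P.perp a ha.1 u hb) (add_mem hu (S.fixed_stable ha.2 hu)))).symm
  have hfaith : ∀ a ∈ B, (∀ u ∈ S.fixed r, a • u = u) → a = 1 := fun a ha h => by
    rcases Shape.fixer hF hr hr1 h with e | e
    · exact e
    · exact absurd (by rw [← S.s_j r, ← e]; exact ha.2) hr1
  by_cases hall : ∀ u ∈ S.fixed r, S.b u v₀ = 0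
  · have : B = ⊥ := (Subgroup.eq_bot_iff_forall _).2 fun a ha =>
      hfaith a ha fun u hu => hperp a ha u hu (hall u hu)
    rw [this, Subgroup.card_bot] at hB4
    omega
  push Not at hall
  obtain ⟨y, hy, hby⟩ := hall
  have hby1 : S.b y v₀ = 1 := (Shape.zmod_two_cases _).resolve_left hby
  have hgen : ∀ a ∈ B, ∀ a' ∈ B, a • y = a' • y → a = a' := by
    intro a ha a' ha' e
    have h1 : a * a' = 1 := hfaith _ (mul_mem ha ha') fun u hu => by
      rw [mul_smul]
      rcases Shape.zmod_two_cases (S.b u v₀) with hb | hb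
      · rw [hperp a' ha' u hu hb, hperp a ha u hu hb]
      · have hb' : S.b (u + y) v₀ = 0 := by rw [S.b_add, hb, hby1]; rfl
        have h2 := hperp a ha _ (add_mem hu hy) hb'
        have h3 := hperp a' ha' _ (add_mem hu hy) hb'
        have h4 : a • a' • y = y := by rw [← e, ← mul_smul, P.sq _ ha.1, one_smul]
        have h5 : a • a' • (u + y) = u + y := by rw [h3, h2]
        rw [smul_add, smul_add, h4] at h5
        exact add_right_cancel h5
    calc a = a * (a' * a') := by rw [P.sq _ ha'.1, mul_one]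
      _ = a' := by rw [← mul_assoc, h1, one_mul]
  -- `y + a y` lies in the radical of `U₁`, of order two
  have hrad : ∀ a ∈ B, ∀ u ∈ S.fixed r, S.b u v₀ = 0 → S.b (S.j k • (y + a • y)) u = 0 := by
    intro a ha u hu hb
    have h := S.b_smul a (S.j k • y) u
    rw [hperp a ha u hu hb, Shape.smul_comm_of (S.comm_j ha.2 k)] at h
    rw [smul_add, S.b_add, h, CharTwo.add_self_eq_zero]
  have htwo : ∀ x ∈ S.fixed r, ∀ x' ∈ S.fixed r,
      (∀ u ∈ S.fixed r, S.b u v₀ = 0 → S.b (S.j k • x) u = 0) →
      (∀ u ∈ S.fixed r, S.b u v₀ = 0 → S.b (S.j k • x') u = 0) → x ≠ 0 → x' ≠ 0 → x = x' := by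
    intro x hx x' hx' h h' h0 h0'
    have val : ∀ x ∈ S.fixed r, (∀ u ∈ S.fixed r, S.b u v₀ = 0 → S.b (S.j k • x) u = 0) →
        S.b (S.j k • x) y = 0 → x = 0 := fun x hx h hxy =>
      Shape.b_c_nondeg hF hr hr1 hk hk1 hx fun u hu => by
        rcases Shape.zmod_two_cases (S.b u v₀) with hb | hb
        · exact h u hu hb
        · have := h (u + y) (add_mem hu hy) (by rw [S.b_add, hb, hby1]; rfl)
          rwa [S.b_add_right, hxy, add_zero] at this
    refine S.add_zero_iff.1 (val _ (add_mem hx hx') (fun u hu hb => by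
      rw [smul_add, S.b_add, h u hu hb, h' u hu hb, add_zero]) ?_)
    rw [smul_add, S.b_add, (Shape.zmod_two_cases _).resolve_left fun e => h0 (val x hx h e),
      (Shape.zmod_two_cases _).resolve_left fun e => h0' (val x' hx' h' e)]
    rfl
  let val : B → Bool := fun a => decide (a.1 • y = y)
  have hval : Function.Injective val := by
    intro a b e
    simp only [val, decide_eq_decide] at e
    refine Subtype.ext (hgen _ a.2 _ b.2 ?_)
    by_cases ha : a.1 • y = y
    · rw [ha, e.1 ha]
    · have hb : b.1 • y ≠ y := fun h => ha (e.2 h)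
      have hm : ∀ c : B, y + c.1 • y ∈ S.fixed r := fun c => add_mem hy (S.fixed_stable c.2.2 hy)
      exact add_left_cancel (htwo _ (hm a) _ (hm b) (hrad _ a.2) (hrad _ b.2)
        (fun h => ha (S.add_zero_iff.1 h).symm) (fun h => hb (S.add_zero_iff.1 h).symm))
  have := Nat.card_le_card_of_injective val hval
  rw [Nat.card_eq_fintype_card (α := Bool), Fintype.card_bool] at this
  omega

/-- The centraliser case: an element with odd product of signs gives a pure transposition. -/
theorem exists_pure (hF : S.Fpf) {a : X} (ha : a ∈ A)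
    (hs : Equiv.Perm.sign (S.s a) * Equiv.Perm.sign (S.p a) ≠ 1) :
    Nat.card ↥W = 16 ∧ ∃ r : P3, r * r = 1 ∧ r ≠ 1 ∧ S.j r ∈ A := by
  haveI := S.finite
  haveI := P.finite_A
  classical
  have hW16 := P.W_le
  have hcard := P.card
  haveI : Finite ↥(A.map S.p) := inferInstance
  by_cases hinj : Nat.card (A.map S.p) < Nat.card A
  · obtain ⟨r, hr, hr1, hrA⟩ := P.exists_pure_of_card hinj
    refine ⟨?_, r, hr, hr1, hrA⟩
    by_contra hne
    obtain ⟨k, hk, hk1⟩ := exists_three
    set t := S.j r with ht_def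
    have hst : S.s t = r := S.s_j r
    have hsA : ∀ b ∈ A, S.s b = 1 ∨ S.s b = r := fun b hb => by
      by_cases h : S.s b = 1
      · exact Or.inl h
      · exact Or.inr ((P.same_s hb hrA h (by rw [hst]; exact hr1)).trans hst)
    have hA16 : Nat.card A ≤ 16 := by
      let π : A →* P6 := S.p.comp A.subtype
      have h1 := π.ker.card_mul_index
      rw [Subgroup.index_ker, MonoidHom.range_comp, Subgroup.range_subtype] at h1
      have h2 : Nat.card π.ker ≤ Nat.card Bool := by
        refine Nat.card_le_card_of_injective (fun b => decide (S.s (b.1 : X) = 1)) fun b b' e => ?_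
        simp only [decide_eq_decide] at e
        refine Subtype.ext (Subtype.ext ?_)
        rw [S.eq_j (show S.p (b.1 : X) = 1 from b.2), S.eq_j (show S.p (b'.1 : X) = 1 from b'.2)]
        rcases hsA _ b.1.2 with h | h
        · rw [h, e.1 h]
        · rcases hsA _ b'.1.2 with h' | h'
          · rw [h', e.2 h']
          · rw [h, h']
      rw [Nat.card_eq_fintype_card (α := Bool), Fintype.card_bool] at h2
      rw [← h1]
      exact le_trans (Nat.mul_le_mul h2 P.map_p_le) (le_refl _)
    obtain ⟨n, -, hn⟩ := S.card_pow W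
    have hW8 : Nat.card W = 8 := by
      have h8 : 8 ≤ Nat.card W := by
        by_contra h
        have : Nat.card A * Nat.card W ≤ 16 * 7 := Nat.mul_le_mul hA16 (by omega)
        omega
      rw [hn] at h8 hne hW16 ⊢
      have hn3 : 3 ≤ n := by
        by_contra h
        interval_cases n <;> simp at h8
      have hn4 : n ≤ 4 := by
        by_contra h
        have := Nat.pow_le_pow_right two_pos (show 5 ≤ n by omega)
        omega
      interval_cases n <;> simp at hne ⊢
    have hA : Nat.card A = 16 := by rw [hW8] at hcard; omega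
    have hvU : v₀ ∈ S.fixed r := P.fixes t hrA
    let φ : S.fixed r →+ ZMod 2 :=
      AddMonoidHom.mk' (fun u => S.b (S.j k • u.1) v₀) fun u u' => by
        show S.b (S.j k • (u.1 + u'.1)) v₀ = _
        rw [smul_add, S.b_add]
    set H : AddSubgroup V := φ.ker.map (S.fixed r).subtype with hH_def
    have hHW : H ≤ W := by
      rintro _ ⟨u, hu, rfl⟩
      have := P.perp t hrA _ (show S.b (S.j k • u.1) v₀ = 0 from hu)
      rwa [Shape.preimage_eq hF hr hr1 hk hk1 u.2] at this
    have hH8 : 8 ≤ Nat.card H := by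
      have h1 := φ.ker.card_mul_index
      rw [AddSubgroup.index_ker, Shape.fixed_card hF hr hr1] at h1
      have h2 : Nat.card φ.range ≤ 2 :=
        (Nat.card_le_card_of_injective _ Subtype.val_injective).trans (le_of_eq (Nat.card_zmod 2))
      have h3 : Nat.card H = Nat.card φ.ker :=
        (Nat.card_congr (φ.ker.equivMapOfInjective _ (S.fixed r).subtype_injective).toEquiv).symm
      have : 16 ≤ Nat.card φ.ker * 2 := h1 ▸ Nat.mul_le_mul_left _ h2
      omega
    have hHeq : H = W := AddSubgroup.eq_of_le_of_card_ge hHW (by omega)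
    have hWU : ∀ w ∈ W, w ∈ S.fixed r ∧ S.b (S.j k • w) v₀ = 0 := fun w hw => by
      rw [← hHeq] at hw
      obtain ⟨u, hu, rfl⟩ := hw
      exact ⟨u.2, hu⟩
    have hB : ∀ b ∈ A, S.s b = 1 → ∀ w ∈ W, b • w = w := by
      intro b hb hsb w hw
      obtain ⟨hwU, hwv⟩ := hWU w hw
      have h := P.perp b hb _ hwv
      rw [Shape.smul_comm_of (S.comm_j hsb k), ← smul_add] at h
      exact (S.add_zero_iff.1 (Shape.fixed_inter hF hr hr1 hk hk1
        (add_mem hwU (S.fixed_stable hsb hwU)) (hWU _ h).1)).symm
    have hall : A ≤ ptFix (W : Set V) := by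
      intro b hb w hw
      rcases hsA b hb with h | h
      · exact hB b hb h w hw
      · have h1 := hB (t * b) (mul_mem hrA hb) (by rw [map_mul, hst, h, hr]) w hw
        rw [mul_smul] at h1
        have hbU := P.preserves (hsA b hb) (hWU w hw).1
        rwa [S.mem_fixed.1 hbU] at h1
    have := P.ker_le A le_rfl hall
    rw [hA, hW8] at this
    omega
  · exfalso
    have hA : Nat.card A = 8 := by
      have := P.map_p_le
      have := P.eight_le
      omega
    have hpinj : ∀ b ∈ A, S.p b = 1 → b = 1 := by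
      intro b hb hpb
      by_contra h1
      let π : A →* P6 := S.p.comp A.subtype
      have h2 := π.ker.card_mul_index
      rw [Subgroup.index_ker, MonoidHom.range_comp, Subgroup.range_subtype] at h2
      have h3 : 1 < Nat.card π.ker := by
        haveI : Nontrivial π.ker :=
          ⟨⟨⟨⟨b, hb⟩, hpb⟩, 1, fun e => h1 (congrArg (fun z => (z.1.1 : X)) e)⟩⟩
        exact Finite.one_lt_card
      have : 2 * Nat.card (A.map S.p) ≤ Nat.card A := h2 ▸ Nat.mul_le_mul_right _ h3
      have : 0 < Nat.card (A.map S.p) := Nat.card_pos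
      omega
    obtain ⟨a₀, ha₀, hsa₀⟩ : ∃ b ∈ A, S.s b ≠ 1 := by
      by_contra hno
      push Not at hno
      obtain ⟨r, hr, hr1⟩ := exists_p3_invol
      obtain ⟨k, hk, hk1, hr', hr1'⟩ := p3_two r hr hr1
      have h1 := P.v_mem_fixed hF hA hr hr1 fun b hb => Or.inl (hno b hb)
      have h2 := P.v_mem_fixed hF hA hr' hr1' fun b hb => Or.inl (hno b hb)
      rw [S.mem_fixed, map_mul, map_mul, map_inv, mul_smul, mul_smul] at h2
      have h3 : (S.j k)⁻¹ • v₀ ∈ S.fixed r := by
        rw [S.mem_fixed]
        have := congrArg ((S.j k)⁻¹ • ·) h2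
        simpa only [inv_smul_smul] using this
      have h4 := Shape.fixed_inter hF hr hr1 hk hk1 h3 (by rwa [smul_inv_smul])
      exact P.ne ((smul_eq_zero_iff_eq _).1 h4)
    set r := S.s a₀
    have hr : r * r = 1 := by rw [← map_mul, P.sq _ ha₀, map_one]
    have hsA : ∀ b ∈ A, S.s b = 1 ∨ S.s b = r := fun b hb => by
      by_cases h : S.s b = 1
      · exact Or.inl h
      · exact Or.inr (P.same_s hb ha₀ h hsa₀)
    have hvU := P.v_mem_fixed hF hA hr hsa₀ hsA
    have h4 := P.card_le_four_mul
    have hle4 := P.elem_comap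
    have hdvd : Nat.card (A.comap S.i) ∣ 8 := by
      rw [P.comap_card_eq, ← hA]
      exact Subgroup.card_dvd_of_le inf_le_left
    rw [hA] at h4
    obtain hc2 | hc4 : Nat.card (A.comap S.i) = 2 ∨ Nat.card (A.comap S.i) = 4 := by
      generalize Nat.card (A.comap S.i) = m at hdvd h4 hle4
      interval_cases m <;> omega
    · -- the stabiliser of `v₀` would centralise an involution
      letI := Shape.actI S
      obtain ⟨e, he, he1⟩ : ∃ e ∈ A.comap S.i, e ≠ 1 := by
        by_contra h
        push Not at h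
        rw [(Subgroup.eq_bot_iff_forall _).2 h, Subgroup.card_bot] at hc2
        omega
      have hK : Nat.card (MulAction.stabilizer A6 v₀) ≤ 8 := by
        refine a6_cent_le (S.i_inj (by rw [map_mul, map_one]; exact P.sq _ he)) he1 fun g hg => ?_
        have hm : g * e * g⁻¹ ∈ A.comap S.i := by
          show S.i (g * e * g⁻¹) ∈ A
          rw [map_mul, map_mul, map_inv]
          exact P.norm _ hg _ he
        have hne : g * e * g⁻¹ ≠ 1 := fun h => he1 (by
          have := congrArg (fun z => g⁻¹ * z * g) h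
          simpa [mul_assoc] using this)
        have : g * e * g⁻¹ = e := by
          by_contra hne'
          let f : Fin 3 → A.comap S.i := ![1, ⟨e, he⟩, ⟨_, hm⟩]
          have hf : Function.Injective f := by
            intro i j h
            have h' := congrArg Subtype.val h
            fin_cases i <;> fin_cases j <;>
              first
                | rfl
                | exact absurd h' (Ne.symm he1) | exact absurd h' he1
                | exact absurd h' (Ne.symm hne) | exact absurd h' hne
                | exact absurd h' (Ne.symm hne') | exact absurd h' hne'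
          have := Nat.card_le_card_of_injective f hf
          rw [Nat.card_fin, hc2] at this
          omega
        exact mul_inv_eq_iff_eq_mul.1 this
      rw [(Shape.orbit_eq hF hr hsa₀ hvU P.ne).2] at hK
      omega
    · -- all of `A` would be even in `S₆`
      set B := A ⊓ S.s.ker
      haveI : Finite ↥B := Finite.of_injective (Subgroup.inclusion inf_le_left) (Subgroup.inclusion_injective _)
      have hle : A ⊓ S.i.range ≤ B := by
        rintro _ ⟨hA', g, rfl⟩
        exact ⟨hA', S.s_i g⟩
      have hB4 : Nat.card B ≤ 4 := by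
        have hlt : B < A := lt_of_le_of_ne inf_le_left fun e => hsa₀ ((e.ge ha₀).2)
        obtain ⟨c, hc⟩ := Subgroup.card_dvd_of_le (inf_le_left : B ≤ A)
        rw [hA] at hc
        have : c ≠ 1 := fun h => hlt.ne (Subgroup.eq_of_le_of_card_ge hlt.le (by rw [hA, hc, h, mul_one]))
        rcases c with _ | _ | c
        · omega
        · exact absurd rfl this
        · calc Nat.card B = Nat.card B * 2 / 2 := (Nat.mul_div_cancel _ two_pos).symm
            _ ≤ 8 / 2 := Nat.div_le_div_right (hc ▸ Nat.mul_le_mul_left _ (by omega))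
      have hBeq : A ⊓ S.i.range = B :=
        Subgroup.eq_of_le_of_card_ge hle (by rw [← P.comap_card_eq, hc4]; exact hB4)
      have hBp : ∀ b ∈ B, Equiv.Perm.sign (S.p b) = 1 := fun b hb => by
        rw [← hBeq] at hb
        obtain ⟨-, g, rfl⟩ := hb
        rw [S.p_i]
        exact Equiv.Perm.mem_alternatingGroup.1 g.2
      have hsa : S.s a ≠ 1 := fun h => hs (by rw [h, map_one, hBp a ⟨ha, h⟩, one_mul])
      have hpa : Equiv.Perm.sign (S.p a) = 1 := by
        have h2 := p3_sign _ (by rw [← map_mul, P.sq _ ha, map_one]) hsa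
        rcases Int.units_eq_one_or (Equiv.Perm.sign (S.p a)) with h | h
        · exact h
        · rcases Int.units_eq_one_or (Equiv.Perm.sign (S.s a)) with h' | h'
          · exact absurd h' h2
          · exact absurd (by rw [h, h']; rfl) hs
      have hall : ∀ b ∈ A, Equiv.Perm.sign (S.p b) = 1 := fun b hb => by
        rcases hsA b hb with h | h
        · exact hBp b ⟨hb, h⟩
        · have hsar : S.s a = r := (hsA a ha).resolve_left hsa
          have h1 := hBp (a * b) ⟨mul_mem ha hb, by
            show S.s (a * b) = 1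
            rw [map_mul, hsar, h, hr]⟩
          rw [map_mul, map_mul, hpa, one_mul] at h1
          exact h1
      have hge : Nat.card A ≤ Nat.card ((A.map S.p).comap (alternatingGroup (Fin 6)).subtype) :=
        Nat.card_le_card_of_injective
          (fun b => ⟨⟨S.p b.1, Equiv.Perm.mem_alternatingGroup.2 (hall _ b.2)⟩, Subgroup.mem_map_of_mem _ b.2⟩)
          (fun b b' e => by
            have e' : S.p b.1 = S.p b'.1 := congrArg (fun z => (z.1.1 : P6)) e
            refine Subtype.ext ?_
            have := hpinj _ (mul_mem b.2 b'.2) (by rw [map_mul, e', ← map_mul, P.sq _ b'.2, map_one])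
            calc b.1 = b.1 * (b'.1 * b'.1) := by rw [P.sq _ b'.2, mul_one]
              _ = b'.1 := by rw [← mul_assoc, this, one_mul])
      have := a6_elem_le (E := (A.map S.p).comap (alternatingGroup (Fin 6)).subtype)
        (fun x hx y hy => by
          obtain ⟨x', hx', ex⟩ := Subgroup.mem_map.1 hx
          obtain ⟨y', hy', ey⟩ := Subgroup.mem_map.1 hy
          refine Subtype.ext ?_
          show (x : P6) * y = y * x
          rw [show (x : P6) = S.p x' from ex.symm, show (y : P6) = S.p y' from ey.symm, ← map_mul,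
            ← map_mul, P.comm _ hx' _ hy'])
        (fun x hx => by
          obtain ⟨x', hx', ex⟩ := Subgroup.mem_map.1 hx
          refine Subtype.ext ?_
          show (x : P6) * x = 1
          rw [show (x : P6) = S.p x' from ex.symm, ← map_mul, P.sq _ hx', map_one])
      have h84 := hge.trans this
      rw [hA] at h84
      exact absurd h84 (by norm_num)

end Piece

end CfsgLib.Recog.SThreeASix
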