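import Cfsg.Agent.Lib.Recog.SThreeASix.PairData
import Cfsg.Agent.Lib.Recog.SThreeASix.Trans

/-!
A fused conjugate of `z` whose pair contains a pure transposition: the elementary group `E`, the
preimage of the fixed space of the transposition, and orthogonality facts.
-/

set_option autoImplicit false

namespace CfsgLib.Recog.SThreeASix

open Subgroup
open CfsgLib.PLocal.LargeExtra (Pack Pair)

universe u

variable {G : Type u} [Group G] [Finite G] {C : Cfg G}

/-- A pair of maximal dimension containing a pure transposition. -/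
structure Hit (C : Cfg G) where
  /-- The fusing element. -/
  g0 : G
  hx : g0 * C.z * g0⁻¹ ∈ C.Q
  hne : g0 * C.z * g0⁻¹ ≠ C.z
  /-- The transposition. -/
  r : P3
  hr : r * r = 1
  hr1 : r ≠ 1
  fpf : C.shape.Fpf
  card_W : Nat.card ↥(C.img (C.conjQ g0)) = 16
  mem : C.shape.j r ∈ C.imgX (C.conjQ g0)

namespace Hit

variable (h : Hit C)

/-- The conjugate. -/
abbrev x : G := h.g0 * C.z * h.g0⁻¹

/-- Its radical. -/
abbrev T : Subgroup G := C.conjQ h.g0

/-- The image of the conjugate. -/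
noncomputable abbrev v : C.Vec := C.bar h.x

/-- The image of the transposition. -/
noncomputable abbrev t : C.X := C.shape.j h.r

/-- The fixed space of the transposition. -/
noncomputable abbrev U : AddSubgroup C.Vec := C.shape.fixed h.r

/-- The image of the common part. -/
abbrev W : AddSubgroup C.Vec := C.img h.T

theorem pair : Pair C.Q h.T C.z h.x := C.pair h.hx h.hne

theorem piece : Piece C.shape h.v h.W (C.imgX h.T) := C.piece h.hx h.hne

theorem mem_U {w : C.Vec} : w ∈ h.U ↔ h.t • w = w := Iff.rfl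

theorem v_mem_U : h.v ∈ h.U := h.piece.fixes _ h.mem

theorem card_U : Nat.card ↥h.U = 16 := Shape.fixed_card h.fpf h.hr h.hr1

theorem t_sq (w : C.Vec) : h.t • h.t • w = w := by
  rw [← mul_smul, ← map_mul, h.hr, map_one, one_smul]

theorem add_t_mem (w : C.Vec) : w + h.t • w ∈ h.U := by
  rw [h.mem_U, smul_add, h.t_sq, add_comm]

theorem form_comm (u w : C.Vec) : C.shape.b u w = C.shape.b w u := by
  have h1 := C.shape.q_add u w
  have h2 := C.shape.q_add w u
  rw [add_comm u w, h2, add_comm (C.shape.q w) (C.shape.q u)] at h1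
  exact (add_left_cancel h1).symm

theorem form_U {u w : C.Vec} (hu : u ∈ h.U) (hw : w ∈ h.U) : C.shape.b u w = 0 := by
  have h1 := C.shape.q_add u w
  rw [Shape.fixed_sing h.fpf h.hr h.hr1 _ (add_mem hu hw),
    Shape.fixed_sing h.fpf h.hr h.hr1 _ hu, Shape.fixed_sing h.fpf h.hr h.hr1 _ hw,
    zero_add, zero_add] at h1
  exact h1.symm

theorem form_W {u w : C.Vec} (hu : u ∈ h.W) (hw : w ∈ h.W) : C.shape.b u w = 0 := by
  have h1 := C.shape.q_add u w
  rw [h.piece.sing _ (add_mem hu hw), h.piece.sing _ hu, h.piece.sing _ hw, zero_add, zero_add] at h1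
  exact h1.symm

/-- A totally isotropic subgroup of order sixteen is its own orthogonal. -/
theorem mem_of_perp (Y : AddSubgroup C.Vec) (hY : Nat.card ↥Y = 16)
    (hYiso : ∀ u ∈ Y, ∀ w ∈ Y, C.shape.b u w = 0) {a : C.Vec} (ha : ∀ y ∈ Y, C.shape.b a y = 0) :
    a ∈ Y := by
  let P : AddSubgroup C.Vec :=
    { carrier := {u | ∀ y ∈ Y, C.shape.b u y = 0}
      add_mem' := fun {u w} hu hw y hy => by rw [C.shape.b_add, hu y hy, hw y hy, add_zero]
      zero_mem' := fun y _ => by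
        have := C.shape.b_add 0 0 y
        rw [add_zero] at this
        exact left_eq_add.1 this
      neg_mem' := fun {u} hu y hy => by rw [neg_eq_of_add_eq_zero_right (C.two u)]; exact hu y hy }
  have hYP : Y ≤ P := fun u hu y hy => hYiso u hu y hy
  have hle := card_perp_mul_le C.two C.shape.b C.shape.b_add form_comm C.shape.nondeg Y P
    fun u hu y hy => hu y hy
  rw [C.card_vec, hY] at hle
  have hge := AddSubgroup.card_le_of_le hYP
  rw [hY] at hge
  have hP : Y = P := AddSubgroup.eq_of_le_of_card_ge hYP (by omega)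
  rw [hP]
  exact ha

theorem form_bar_zero {a b : G} (ha : a ∈ C.Q) (hb : b ∈ C.Q) :
    C.shape.b (C.bar a) (C.bar b) = 0 ↔ a * b = b * a := by
  show C.form (C.bar a) (C.bar b) = 0 ↔ _
  rw [C.form_bar ha hb]
  split_ifs with hab
  · exact iff_of_true rfl hab
  · exact iff_of_false one_ne_zero hab

/-- The preimage of the fixed space. -/
def E : Subgroup G where
  carrier := {a | a ∈ C.Q ∧ C.bar a ∈ h.U}
  mul_mem' := fun {a b} ha hb => ⟨mul_mem ha.1 hb.1, by rw [C.bar_mul ha.1 hb.1]; exact add_mem ha.2 hb.2⟩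
  one_mem' := ⟨one_mem _, by rw [C.bar_one]; exact zero_mem _⟩
  inv_mem' := fun {a} ha => ⟨inv_mem ha.1, by rw [C.bar_inv ha.1]; exact ha.2⟩

theorem mem_E {a : G} : a ∈ h.E ↔ a ∈ C.Q ∧ C.bar a ∈ h.U := Iff.rfl

theorem E_le : h.E ≤ C.Q := fun _ ha => ha.1

theorem z_mem_E : C.z ∈ h.E := ⟨C.z_mem, by rw [C.bar_z]; exact zero_mem _⟩

theorem x_mem_E : h.x ∈ h.E := ⟨h.hx, h.v_mem_U⟩

theorem E_comm {a b : G} (ha : a ∈ h.E) (hb : b ∈ h.E) : a * b = b * a :=
  (form_bar_zero ha.1 hb.1).1 (h.form_U ha.2 hb.2)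

theorem E_sq {a : G} (ha : a ∈ h.E) : a * a = 1 := by
  have hq : C.quad (C.bar a) = 0 := Shape.fixed_sing h.fpf h.hr h.hr1 _ ha.2
  rw [C.quad_bar ha.1] at hq
  by_contra hn
  rw [if_neg hn] at hq
  exact one_ne_zero hq

theorem mem_E_of_comm {c : G} (hc : c ∈ C.Q) (hcE : ∀ a ∈ h.E, c * a = a * c) : c ∈ h.E := by
  refine ⟨hc, mem_of_perp h.U h.card_U (fun u hu w hw => h.form_U hu hw) fun y hy => ?_⟩
  obtain ⟨a, ha, rfl⟩ := C.bar_surj y
  exact (form_bar_zero hc ha).2 (hcE a ⟨ha, hy⟩)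

theorem mem_T_of_comm {c : G} (hc : c ∈ C.Q) (hcD : ∀ a ∈ C.Q ⊓ h.T, c * a = a * c) : c ∈ h.T := by
  have hW : C.bar c ∈ h.W := mem_of_perp h.W h.card_W (fun u hu w hw => h.form_W hu hw) fun y hy => by
    obtain ⟨a, ha, rfl⟩ := C.mem_img.1 hy
    exact (form_bar_zero hc ha.1).2 (hcD a ha)
  obtain ⟨d, hd, e⟩ := C.mem_img.1 hW
  rcases (C.bar_eq_iff hd.1 hc).1 e with e' | e' <;> rw [e']
  · exact hd.2
  · exact mul_mem h.pair.zmem hd.2

theorem mem_W_iff {a : G} (ha : a ∈ C.Q) : C.bar a ∈ h.W ↔ a ∈ h.T := by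
  refine ⟨fun hW => ?_, fun hT => ⟨a, ⟨ha, hT⟩, rfl⟩⟩
  obtain ⟨d, hd, e⟩ := C.mem_img.1 hW
  rcases (C.bar_eq_iff hd.1 ha).1 e with e' | e' <;> rw [e']
  · exact hd.2
  · exact mul_mem h.pair.zmem hd.2

/-- Elements of the centraliser whose image commutes with the transposition preserve the fixed space. -/
theorem norm_E {m : ↥C.M} (hm : C.proj m * (h.t : P3 × P6) = (h.t : P3 × P6) * C.proj m) {a : G}
    (ha : a ∈ h.E) : (m : G) * a * (m : G)⁻¹ ∈ h.E := by
  refine ⟨C.norm_Q m.2 ha.1, ?_⟩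
  have hu := ha.2
  rw [h.mem_U] at hu ⊢
  rw [← C.smul_bar (x := ⟨C.proj m, ⟨m, rfl⟩⟩) rfl ha.1, ← mul_smul,
    show h.t * (⟨C.proj m, ⟨m, rfl⟩⟩ : C.X) = ⟨C.proj m, ⟨m, rfl⟩⟩ * h.t from Subtype.ext hm.symm,
    mul_smul, hu]

theorem i_comm_t (g : A6) :
    ((C.shape.i g : C.X) : P3 × P6) * (h.t : P3 × P6) = (h.t : P3 × P6) * (C.shape.i g : C.X) := by
  refine Prod.ext ?_ ?_
  · show (1 : P3) * h.r = h.r * 1
    rw [one_mul, mul_one]
  · show (g : P6) * 1 = 1 * (g : P6)
    rw [one_mul, mul_one]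

/-- The fixed space is not in `W`. -/
theorem exists_not_W : ∃ u ∈ h.U, u ∉ h.W := by
  by_contra hn
  push Not at hn
  have hle : h.U ≤ h.W := hn
  have hUW : h.U = h.W := AddSubgroup.eq_of_le_of_card_ge hle (by rw [h.card_U, h.card_W])
  have h2 : orderOf h.t = 2 := orderOf_eq_prime (by rw [pow_two, ← map_mul, h.hr, map_one]) fun e => by
    have := congrArg C.shape.s e
    rw [C.shape.s_j, map_one] at this
    exact h.hr1 this
  have hk := h.piece.ker (zpowers h.t) (zpowers_le.2 h.mem) fun a ha w hw => by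
    rcases CfsgLib.Trans3.mem_zpowers_invol h2 ha with rfl | rfl
    · exact one_smul _ w
    · rw [← h.mem_U, hUW]; exact hw
  rw [Nat.card_zpowers, h.card_W, h2] at hk
  norm_num at hk

theorem zero_one : ∀ e : ZMod 2, e = 0 ∨ e = 1 := by decide

/-- `W ∩ U` has index two in `U`, and its elements come from the orthogonal of `v`. -/
theorem hyperplane :
    (∀ u ∈ h.U, u ∉ h.W → ∀ u' ∈ h.U, u' ∉ h.W → u + u' ∈ h.W) ∧
      ∀ u ∈ h.U, u ∈ h.W → ∃ w, C.shape.b w h.v = 0 ∧ w + h.t • w = u := by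
  have hH : ∀ w, C.shape.b w h.v = 0 → w + h.t • w ∈ h.W := fun w hw => h.piece.perp _ h.mem w hw
  refine ⟨fun u hu hnu u' hu' hnu' => ?_, fun u hu huW => ?_⟩
  · obtain ⟨w, rfl⟩ := Shape.exists_preimage h.fpf h.hr h.hr1 u hu
    obtain ⟨w', rfl⟩ := Shape.exists_preimage h.fpf h.hr h.hr1 u' hu'
    have h1 := (zero_one (C.shape.b w h.v)).resolve_left fun e => hnu (hH w e)
    have h2 := (zero_one (C.shape.b w' h.v)).resolve_left fun e => hnu' (hH w' e)
    have h3 := hH (w + w') (by rw [C.shape.b_add, h1, h2]; decide)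
    rw [smul_add] at h3
    rwa [add_add_add_comm] at h3
  · obtain ⟨w, rfl⟩ := Shape.exists_preimage h.fpf h.hr h.hr1 u hu
    obtain ⟨u2, hu2, hn2⟩ := h.exists_not_W
    obtain ⟨w2, rfl⟩ := Shape.exists_preimage h.fpf h.hr h.hr1 u2 hu2
    refine ⟨w, (zero_one _).resolve_right fun h1 => ?_, rfl⟩
    have h2 := (zero_one (C.shape.b w2 h.v)).resolve_left fun e => hn2 (hH w2 e)
    have h3 := hH (w + w2) (by rw [C.shape.b_add, h1, h2]; decide)
    rw [smul_add, ← add_add_add_comm] at h3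
    exact hn2 ((h.W.add_mem_cancel_left huW).1 h3)

/-- Outside `U` the transposition moves a vector of `W` by `v`. -/
theorem W_move {w : C.Vec} (hw : w ∈ h.W) (hn : w ∉ h.U) : w + h.t • w = h.v := by
  refine (h.piece.pair _ h.mem w hw).resolve_left fun e => hn ?_
  rw [h.mem_U]
  calc h.t • w = w + w + h.t • w := by rw [C.two, zero_add]
    _ = w := by rw [add_assoc, e, add_zero]

theorem exists_W_not_U : ∃ w ∈ h.W, w ∉ h.U := by
  by_contra hn
  push Not at hn
  obtain ⟨u, hu, huW⟩ := h.exists_not_W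
  have := AddSubgroup.eq_of_le_of_card_ge (show h.W ≤ h.U from hn) (by rw [h.card_U, h.card_W])
  exact huW (this ▸ hu)

theorem W_add {w w' : C.Vec} (hw : w ∈ h.W) (hn : w ∉ h.U) (hw' : w' ∈ h.W) (hn' : w' ∉ h.U) :
    w + w' ∈ h.U := by
  rw [h.mem_U]
  have e := h.W_move hw hn
  have e' := h.W_move hw' hn'
  calc h.t • (w + w') = w + w' + ((w + h.t • w) + (w' + h.t • w')) := by
        rw [smul_add, add_add_add_comm w (h.t • w), ← add_assoc, C.two, zero_add]
    _ = w + w' := by rw [e, e', C.two, add_zero]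

end Hit

end CfsgLib.Recog.SThreeASix
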