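import Cfsg.Agent.Lib.Recog.SThreeASix.HitSwap

/-!
No pair contains a pure transposition: the commutators with a conjugate of `z` inducing it would give
an alternating form constant on pairs of distinct non-zero vectors.
-/

set_option autoImplicit false

namespace CfsgLib.Recog.SThreeASix

open Subgroup
open CfsgLib.PLocal.LargeExtra (Pack Pair)

universe u

variable {G : Type u} [Group G] [Finite G] {C : Cfg G}

namespace Hit

theorem impossible (h : Hit C) : False := by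
  classical
  obtain ⟨σ, k, y, hσz, hkM, hkE, hye, hyQ, ⟨my, hmy, hproj⟩, hyE, hσE, hσy⟩ := h.exists_partner
  -- the centraliser of `E`
  set F : Subgroup G := centralizer (h.E : Set G) with hF
  have hyF : y ∈ F := mem_centralizer_iff.2 fun a ha => (hyE a ha).symm
  have hEF : h.E ≤ F := fun a ha => mem_centralizer_iff.2 fun b hb => h.E_comm hb ha
  have hysq : y * y = 1 := by
    rw [hye, show σ * (k * h.x * k⁻¹) * σ⁻¹ * (σ * (k * h.x * k⁻¹) * σ⁻¹) =
      σ * (k * (h.x * h.x) * k⁻¹) * σ⁻¹ by group, h.pair.hx2]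
    group
  have hyinv : y⁻¹ = y := inv_eq_of_mul_eq_one_right hysq
  have hFQ : ∀ c ∈ F, c ∈ C.Q → c ∈ h.E := fun c hc hcQ =>
    h.mem_E_of_comm hcQ fun a ha => (mem_centralizer_iff.1 hc a ha).symm
  have hcover : ∀ c ∈ F, c ∈ h.E ∨ c * y ∈ h.E := by
    intro c hc
    have hcz : c ∈ C.M := mem_centralizer_singleton_iff.2
      (mem_centralizer_iff.1 hc C.z h.z_mem_E).symm
    set mc : ↥C.M := ⟨c, hcz⟩
    have hfix : ∀ u ∈ C.shape.fixed h.r, (⟨C.proj mc, ⟨mc, rfl⟩⟩ : C.X) • u = u := by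
      intro u hu
      obtain ⟨a, ha, rfl⟩ := C.bar_surj u
      rw [C.smul_bar (m := mc) rfl ha]
      show C.bar (c * a * c⁻¹) = C.bar a
      rw [← mem_centralizer_iff.1 hc a ⟨ha, hu⟩, mul_inv_cancel_right]
    rcases Shape.fixer h.fpf h.hr h.hr1 hfix with e | e
    · exact Or.inl (hFQ c hc ((C.proj_ker mc).1 (congrArg Subtype.val e)))
    · have e' : C.proj (mc * my) = 1 := by
        rw [map_mul, show C.proj mc = (h.t : P3 × P6) from congrArg Subtype.val e, hproj,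
          ← Subgroup.coe_mul, ← map_mul, h.hr, map_one]
        rfl
      have hQ := (C.proj_ker _).1 e'
      rw [Subgroup.coe_mul, hmy] at hQ
      exact Or.inr (hFQ _ (mul_mem hc hyF) hQ)
  have hσF : ∀ c ∈ F, σ * c * σ⁻¹ ∈ F := by
    have h1 : ∀ a ∈ h.E, σ * a * σ⁻¹ ∈ F := fun a ha => by
      rcases hσE a ha with e | e
      · exact hEF e
      · have := mul_mem (hEF e) (inv_mem hyF)
        rwa [mul_inv_cancel_right] at this
    intro c hc
    rcases hcover c hc with e | e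
    · exact h1 c e
    · have h2 := mul_mem (h1 _ e) (inv_mem (hEF hσy))
      rwa [show σ * (c * y) * σ⁻¹ * (σ * y * σ⁻¹)⁻¹ = σ * c * σ⁻¹ by group] at h2
  have hconjsymm : ∀ (H : Subgroup G) (m : G), (∀ c ∈ H, m * c * m⁻¹ ∈ H) → ∀ c ∈ H, m⁻¹ * c * m ∈ H := by
    intro H m hm c hc
    have hmap : H.map (MulAut.conj m).toMonoidHom = H := by
      refine eq_of_le_of_card_ge ?_ (le_of_eq (card_map_of_injective (MulEquiv.injective _)).symm)
      rintro _ ⟨b, hb, rfl⟩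
      exact hm b hb
    rw [← hmap] at hc
    obtain ⟨b, hb, rfl⟩ := hc
    show m⁻¹ * (m * b * m⁻¹) * m ∈ H
    rwa [show m⁻¹ * (m * b * m⁻¹) * m = b by group]
  have hnormF : ∀ m : G, (∀ a ∈ h.E, m * a * m⁻¹ ∈ h.E) → ∀ c ∈ F, m * c * m⁻¹ ∈ F := by
    intro m hm c hc
    refine mem_centralizer_iff.2 fun a ha => ?_
    have ha' := hconjsymm h.E m hm a ha
    calc a * (m * c * m⁻¹) = m * (m⁻¹ * a * m * c) * m⁻¹ := by group
      _ = m * (c * (m⁻¹ * a * m)) * m⁻¹ := by rw [mem_centralizer_iff.1 hc _ ha']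
      _ = m * c * m⁻¹ * a := by group
  set w := σ * k * σ with hw
  have hwy : w * C.z * w⁻¹ = y := by
    rw [hw, show σ * k * σ * C.z * (σ * k * σ)⁻¹ = σ * (k * (σ * C.z * σ⁻¹) * k⁻¹) * σ⁻¹ by group,
      hσz, ← hye]
  have hwF : ∀ c ∈ F, w * c * w⁻¹ ∈ F := by
    intro c hc
    have := hσF _ (hnormF k hkE _ (hσF c hc))
    rwa [show σ * (k * (σ * c * σ⁻¹) * k⁻¹) * σ⁻¹ = w * c * w⁻¹ by rw [hw]; group] at this
  set Q' : Subgroup G := C.conjQ w with hQ'
  have P' : Pack Q' y := hwy ▸ C.pack.map w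
  have hwQ' : ∀ a, a ∈ Q' ↔ w⁻¹ * a * w ∈ C.Q := by
    intro a
    constructor
    · rintro ⟨b, hb, rfl⟩
      show w⁻¹ * (w * b * w⁻¹) * w ∈ C.Q
      rwa [show w⁻¹ * (w * b * w⁻¹) * w = b by group]
    · intro ha
      exact ⟨_, ha, by show w * (w⁻¹ * a * w) * w⁻¹ = a; group⟩
  have hzQ' : C.z ∉ Q' := by
    intro hz
    have h1 : w⁻¹ * C.z * w⁻¹⁻¹ ∈ C.Q := by rw [inv_inv]; exact (hwQ' _).1 hz
    obtain ⟨b, hb, hbe⟩ := C.pack.mem_conj h1
    have hbe' : w⁻¹ * b * w⁻¹⁻¹ = C.z := hbe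
    apply hyQ
    rw [← hwy, show w * C.z * w⁻¹ = b by rw [← hbe']; group]
    exact hb
  have hidx : ∀ a ∈ h.E, a ∉ Q' → ∀ b ∈ h.E, b ∉ Q' → a * b ∈ Q' := by
    intro a ha ha' b hb hb'
    rw [hwQ'] at ha' hb' ⊢
    have key : ∀ c ∈ h.E, w⁻¹ * c * w ∉ C.Q → w⁻¹ * c * w * y ∈ h.E := fun c hc hn =>
      (hcover _ (hconjsymm F w hwF c (hEF hc))).resolve_left fun e => hn e.1
    have h1 := key a ha ha'
    have h2 := key b hb hb'
    have h3 : w⁻¹ * (a * b) * w ∈ h.E := by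
      have hc : y * (w⁻¹ * b * w * y) = w⁻¹ * b * w * y * y := hyE _ h2
      have h4 := mul_mem h1 h2
      rw [mul_assoc, hc, mul_assoc _ y y, hysq, mul_one] at h4
      rwa [show w⁻¹ * a * w * (w⁻¹ * b * w) = w⁻¹ * (a * b) * w by group] at h4
    exact h3.1
  let ind : G → ZMod 2 := fun a => if a ∈ Q' then 0 else 1
  have hind : ∀ a ∈ h.E, ∀ b ∈ h.E, ind (a * b) = ind a + ind b := by
    intro a ha b hb
    by_cases ha' : a ∈ Q' <;> by_cases hb' : b ∈ Q'
    · simp [ind, ha', hb', mul_mem ha' hb']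
    · simp [ind, ha', hb', Q'.mul_mem_cancel_left ha']
    · simp [ind, ha', hb', Q'.mul_mem_cancel_right hb']
    · simp [ind, ha', hb', hidx a ha ha' b hb hb']
      decide
  have hindz : ind C.z = 1 := if_neg hzQ'
  -- the commutator with `y`
  let ε : G → G := fun q => y * q * y⁻¹ * q⁻¹
  have hyM : y ∈ C.M := hmy ▸ my.2
  have hty : ∀ q, q ∈ C.Q → C.bar (y * q * y⁻¹) = h.t • C.bar q := fun q hq => by
    rw [C.smul_bar (m := my) (x := h.t) hproj hq, hmy]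
  have hεE : ∀ q ∈ C.Q, ε q ∈ h.E := by
    intro q hq
    refine ⟨mul_mem (C.norm_Q hyM hq) (inv_mem hq), ?_⟩
    show C.bar (y * q * y⁻¹ * q⁻¹) ∈ h.U
    rw [C.bar_mul (C.norm_Q hyM hq) (inv_mem hq), C.bar_inv hq, hty q hq, add_comm]
    exact h.add_t_mem _
  have hεbar : ∀ q ∈ C.Q, C.bar (ε q) = C.bar q + h.t • C.bar q := fun q hq => by
    show C.bar (y * q * y⁻¹ * q⁻¹) = _
    rw [C.bar_mul (C.norm_Q hyM hq) (inv_mem hq), C.bar_inv hq, hty q hq, add_comm]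
  have hyz : y * C.z = C.z * y := mem_centralizer_singleton_iff.1 hyM
  have hεz : ∀ q ∈ C.Q, ε (C.z * q) = ε q := by
    intro q hq
    show y * (C.z * q) * y⁻¹ * (C.z * q)⁻¹ = y * q * y⁻¹ * q⁻¹
    calc y * (C.z * q) * y⁻¹ * (C.z * q)⁻¹ = (y * C.z) * q * y⁻¹ * q⁻¹ * C.z⁻¹ := by group
      _ = C.z * (y * q * y⁻¹ * q⁻¹) * C.z⁻¹ := by rw [hyz]; group
      _ = y * q * y⁻¹ * q⁻¹ := by rw [← C.zc (hεE q hq).1, mul_inv_cancel_right]
  let s : C.Vec → ZMod 2 := fun v => ind (ε (C.lift v))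
  have hs_bar : ∀ q ∈ C.Q, s (C.bar q) = ind (ε q) := by
    intro q hq
    rcases (C.bar_eq_iff hq (C.lift_mem _)).1 (C.bar_lift (C.bar q)).symm with e | e <;> simp only [s, e]
    rw [hεz q hq]
  have hmem : ∀ u ∈ h.U, ∀ q ∈ C.Q, C.bar q = u → q ∈ h.E := fun u hu q hq e => ⟨hq, e ▸ hu⟩
  refine Shape.no_section h.fpf h.hr h.hr1 s ?_ ?_
  · intro u v
    obtain ⟨a, ha, rfl⟩ := C.bar_surj u
    obtain ⟨b, hb, rfl⟩ := C.bar_surj v
    rw [← C.bar_mul ha hb, hs_bar _ (mul_mem ha hb), hs_bar _ ha, hs_bar _ hb]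
    have hbb := hεE b hb
    have e : ε (a * b) = ε a * (a * ε b * a⁻¹) := by
      show y * (a * b) * y⁻¹ * (a * b)⁻¹ = y * a * y⁻¹ * a⁻¹ * (a * (y * b * y⁻¹ * b⁻¹) * a⁻¹)
      group
    show _ = _ + _ + C.form (C.bar a) (C.bar b + h.t • C.bar b)
    rw [← hεbar b hb, C.form_bar ha hbb.1, e]
    rcases C.pack.conj_cases ha hbb.1 with e' | e'
    · rw [e', hind _ (hεE a ha) _ hbb, if_pos (mul_inv_eq_iff_eq_mul.1 e'), add_zero]
    · rw [e', hind _ (hεE a ha) _ (mul_mem h.z_mem_E hbb), hind _ h.z_mem_E _ hbb, hindz,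
        if_neg fun hc => C.pack.z_ne (mul_eq_right.1 (e'.symm.trans (mul_inv_eq_iff_eq_mul.2 hc)))]
      ring
  · intro g v hg5
    obtain ⟨a, ha, rfl⟩ := C.bar_surj v
    obtain ⟨m0, hm0⟩ : ∃ m : ↥C.M, C.proj m = (C.shape.i g : C.X) := (C.shape.i g : C.X).2
    have hmE : ∀ b ∈ h.E, (m0 : G) * b * (m0 : G)⁻¹ ∈ h.E := fun b hb =>
      h.norm_E (by rw [hm0]; exact h.i_comm_t g) hb
    set δ := (m0 : G) * y * (m0 : G)⁻¹ * y with hδ
    have hδE : δ ∈ h.E := by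
      refine (hcover _ (hnormF _ hmE y hyF)).resolve_left fun hE => ?_
      have := C.norm_Q (inv_mem m0.2) hE.1
      exact hyQ (by rwa [show (m0 : G)⁻¹ * ((m0 : G) * y * (m0 : G)⁻¹) * (m0 : G)⁻¹⁻¹ = y by group]
        at this)
    obtain ⟨wv, hwv⟩ := Shape.exists_preimage h.fpf h.hr h.hr1 _ hδE.2
    obtain ⟨q, hq, rfl⟩ := C.bar_surj wv
    rw [← hεbar q hq] at hwv
    have hqy : q * y * q⁻¹ = (ε q)⁻¹ * y := by
      show q * y * q⁻¹ = (y * q * y⁻¹ * q⁻¹)⁻¹ * y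
      group
    have hεinv : (ε q)⁻¹ = ε q := inv_eq_of_mul_eq_one_right (h.E_sq (hεE q hq))
    have hδy : (m0 : G) * y * (m0 : G)⁻¹ = δ * y := by rw [hδ, mul_assoc _ y y, hysq, mul_one]
    obtain ⟨m, hm, hmy'⟩ : ∃ m : ↥C.M, C.proj m = (C.shape.i g : C.X) ∧
        (m : G) * y * (m : G)⁻¹ = y := by
      set qm : ↥C.M := ⟨q, C.pack.mem_centralizer_z hq⟩ with hqm
      have hpm : C.proj (qm⁻¹ * m0) = (C.shape.i g : C.X) := by
        rw [map_mul, map_inv, (C.proj_ker qm).2 hq, inv_one, one_mul, hm0]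
      have hcz : C.z * C.z = 1 := C.pack.z_mul_z
      rcases (C.bar_eq_iff (hεE q hq).1 hδE.1).1 hwv with e | e
      · refine ⟨qm⁻¹ * m0, hpm, ?_⟩
        show q⁻¹ * (m0 : G) * y * (q⁻¹ * (m0 : G))⁻¹ = y
        calc q⁻¹ * (m0 : G) * y * (q⁻¹ * (m0 : G))⁻¹ = q⁻¹ * ((m0 : G) * y * (m0 : G)⁻¹) * q := by group
          _ = q⁻¹ * (q * y * q⁻¹) * q := by rw [hδy, e, hqy, hεinv]
          _ = y := by group
      · exfalso
        set m1 : ↥C.M := qm⁻¹ * m0
        have hm1y : (m1 : G) * y * (m1 : G)⁻¹ = C.z * y := by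
          show q⁻¹ * (m0 : G) * y * (q⁻¹ * (m0 : G))⁻¹ = C.z * y
          calc q⁻¹ * (m0 : G) * y * (q⁻¹ * (m0 : G))⁻¹ = q⁻¹ * ((m0 : G) * y * (m0 : G)⁻¹) * q := by group
            _ = q⁻¹ * C.z * (q * y * q⁻¹) * q := by rw [hδy, e, hqy, hεinv]; group
            _ = C.z * y := by rw [C.zc (inv_mem hq)]; group
        have hpow : ∀ n : ℕ, ((m1 : G) ^ n) * y * ((m1 : G) ^ n)⁻¹ = C.z ^ n * y := by
          intro n
          induction n with
          | zero => simp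
          | succ n ih =>
            have hc : (m1 : G) * C.z ^ n = C.z ^ n * (m1 : G) :=
              ((show Commute (m1 : G) C.z from mem_centralizer_singleton_iff.1 m1.2).pow_right n).eq
            calc (m1 : G) ^ (n + 1) * y * ((m1 : G) ^ (n + 1))⁻¹
                = (m1 : G) * ((m1 : G) ^ n * y * ((m1 : G) ^ n)⁻¹) * (m1 : G)⁻¹ := by
                  rw [pow_succ']; group
              _ = C.z ^ n * ((m1 : G) * y * (m1 : G)⁻¹) := by rw [ih, ← mul_assoc, hc]; group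
              _ = C.z ^ (n + 1) * y := by rw [hm1y, pow_succ]; group
        have hp5 : (m1 : G) ^ 5 ∈ C.Q := by
          have := (C.proj_ker (m1 ^ 5)).1 (by
            rw [map_pow, hpm, ← SubgroupClass.coe_pow, ← map_pow, hg5, map_one]
            rfl)
          rwa [SubgroupClass.coe_pow] at this
        have h5 := hpow 5
        rw [show C.z ^ 5 = C.z by
          simp [pow_succ, hcz]] at h5
        set p := (m1 : G) ^ 5
        have hεp : ε p = C.z := by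
          show y * p * y⁻¹ * p⁻¹ = C.z
          have a1 : p * y = C.z * y * p := mul_inv_eq_iff_eq_mul.1 h5
          have a2 : y * p = C.z * (p * y) := by
            rw [a1, ← mul_assoc, ← mul_assoc, hcz, one_mul]
          rw [a2]; group
        have hpE : p ∈ h.E := by
          refine hmem _ ?_ p hp5 rfl
          have hb := hεbar p hp5
          rw [hεp, C.bar_z] at hb
          rw [h.mem_U]
          calc h.t • C.bar p = C.bar p + (C.bar p + h.t • C.bar p) := by rw [← add_assoc, C.two, zero_add]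
            _ = C.bar p := by rw [← hb, add_zero]
        have hcp := hyE p hpE
        apply C.pack.z_ne
        rw [← hεp]
        show y * p * y⁻¹ * p⁻¹ = 1
        rw [hcp]; group
    have hmE' : ∀ b ∈ h.E, (m : G) * b * (m : G)⁻¹ ∈ h.E := fun b hb =>
      h.norm_E (by rw [hm]; exact h.i_comm_t g) hb
    have hmQ' : ∀ c, (m : G) * c * (m : G)⁻¹ ∈ Q' ↔ c ∈ Q' := by
      have hn : (m : G) ∈ normalizer (Q' : Set G) :=
        P'.norm (mem_centralizer_singleton_iff.2 (mul_inv_eq_iff_eq_mul.1 hmy'))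
      exact fun c => (mem_normalizer_iff.1 hn c).symm
    rw [C.smul_bar hm ha, hs_bar _ (C.norm_Q m.2 ha), hs_bar _ ha]
    have e : ε ((m : G) * a * (m : G)⁻¹) = (m : G) * ε a * (m : G)⁻¹ := by
      show y * ((m : G) * a * (m : G)⁻¹) * y⁻¹ * ((m : G) * a * (m : G)⁻¹)⁻¹ =
        (m : G) * (y * a * y⁻¹ * a⁻¹) * (m : G)⁻¹
      conv_lhs => rw [← hmy']
      group
    rw [e]
    simp only [ind, hmQ']

end Hit

end CfsgLib.Recog.SThreeASix
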