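import Cfsg.Agent.Lib.Recog.SThreeASix.HitBasic

/-!
An element exchanging `z` and `x` fixes `E ∩ T`, and maps an element of `E` outside `T` to a
conjugate of `z` inducing the transposition and centralising `E`.
-/

set_option autoImplicit false

namespace CfsgLib.Recog.SThreeASix

open Subgroup
open CfsgLib.PLocal.LargeExtra (Pack Pair)

universe u

variable {G : Type u} [Group G] [Finite G] {C : Cfg G}

theorem p3_prod : ∀ a b : P3, a * a = 1 → b * b = 1 → b ≠ 1 → a * b ≠ 1 → a ≠ 1 → (a * b) ^ 3 = 1 := by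
  decide +kernel

theorem p3_invert : ∀ r k : P3, r * r = 1 → r ≠ 1 → k ^ 3 = 1 → k ≠ 1 → r * k = k * k * r := by
  decide +kernel

namespace Hit

variable (h : Hit C)

/-- An element exchanging `z` and `x`. -/
theorem exists_swap : ∃ σ : G, σ * C.z * σ⁻¹ = h.x ∧ σ * h.x * σ⁻¹ = C.z ∧
    (∀ a ∈ C.Q, σ * a * σ⁻¹ ∈ h.T) ∧ (∀ a ∈ h.T, σ * a * σ⁻¹ ∈ C.Q) ∧
    (∀ a ∈ h.T, σ⁻¹ * a * σ ∈ C.Q) ∧ (∀ a ∈ C.Q, σ⁻¹ * a * σ ∈ h.T) := by
  have P := h.pair
  obtain ⟨q, hq, r, hr, hqz, hqx, hrx, hrz⟩ := P.exists_movers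
  set x := h.x with hxd
  have hqzx : q * (C.z * x) * q⁻¹ = x := by
    rw [show q * (C.z * x) * q⁻¹ = q * C.z * q⁻¹ * (q * x * q⁻¹) by group, hqz, hqx, ← mul_assoc,
      C.pack.z_mul_z, one_mul]
  have hrzx : r * (C.z * x) * r⁻¹ = C.z := by
    rw [show r * (C.z * x) * r⁻¹ = r * C.z * r⁻¹ * (r * x * r⁻¹) by group, hrz, hrx, mul_assoc,
      P.hx2, mul_one]
  have hsz : q * r * q * C.z * (q * r * q)⁻¹ = x := by
    rw [show q * r * q * C.z * (q * r * q)⁻¹ = q * (r * (q * C.z * q⁻¹) * r⁻¹) * q⁻¹ by group,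
      hqz, hrz, hqzx]
  have hsx : q * r * q * x * (q * r * q)⁻¹ = C.z := by
    rw [show q * r * q * x * (q * r * q)⁻¹ = q * (r * (q * x * q⁻¹) * r⁻¹) * q⁻¹ by group,
      hqx, hrzx, hqz]
  generalize q * r * q = σ at hsz hsx
  have hT : C.conjQ σ = h.T := C.pack.map_eq_of_eq (g := σ) (g' := h.g0) hsz
  have hQ : C.conjQ (σ * h.g0) = C.Q := C.pack.map_eq_of_fix (by
    rw [show σ * h.g0 * C.z * (σ * h.g0)⁻¹ = σ * (h.g0 * C.z * h.g0⁻¹) * σ⁻¹ by group]
    exact hsx)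
  refine ⟨σ, hsz, hsx, fun a ha => hT ▸ ⟨a, ha, rfl⟩, fun a ha => ?_, fun a ha => ?_, fun a ha => ?_⟩
  · obtain ⟨b, hb, rfl⟩ := ha
    rw [← hQ]
    exact ⟨b, hb, by show σ * h.g0 * b * (σ * h.g0)⁻¹ = σ * (h.g0 * b * h.g0⁻¹) * σ⁻¹; group⟩
  · rw [← hT] at ha
    obtain ⟨b, hb, rfl⟩ := ha
    show σ⁻¹ * (σ * b * σ⁻¹) * σ ∈ C.Q
    rwa [show σ⁻¹ * (σ * b * σ⁻¹) * σ = b by group]
  · rw [← hQ] at ha
    obtain ⟨b, hb, rfl⟩ := ha
    exact ⟨b, hb, by show h.g0 * b * h.g0⁻¹ = σ⁻¹ * (σ * h.g0 * b * (σ * h.g0)⁻¹) * σ; group⟩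

theorem ne_zero_cases {b : G} (hb : b ∈ C.Q) (h1 : C.bar b = 0 ∨ C.bar b = h.v) :
    b = 1 ∨ b = C.z ∨ b = h.x ∨ b = C.z * h.x := by
  rcases h1 with h1 | h1
  · rcases (C.bar_eq_zero_iff hb).1 h1 with e | e <;> simp [e]
  · rcases (C.bar_eq_iff h.hx hb).1 h1.symm with e | e <;> simp [e]

/-- Elements fixing `z` and `x` act on the fixed space. -/
theorem proj_comm {m : ↥C.M} (hm : (m : G) * h.x * (m : G)⁻¹ = h.x) :
    C.proj m * (h.t : P3 × P6) = (h.t : P3 × P6) * C.proj m := by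
  set y : C.X := ⟨C.proj m, ⟨m, rfl⟩⟩ with hy
  have hv : y • h.v = h.v := by rw [C.smul_bar (m := m) rfl h.hx, hm]
  have ht : h.t • h.v = h.v := h.mem_U.1 h.v_mem_U
  set s := C.shape.s y with hs
  have key : s * h.r = h.r * s := by
    by_contra hn
    set r' := s * h.r * s⁻¹ with hr'
    have hconj : C.shape.j r' = y * h.t * y⁻¹ := by
      refine Subtype.ext (Prod.ext rfl ?_)
      show (1 : P6) = (C.proj m).2 * 1 * (C.proj m).2⁻¹
      rw [mul_one, mul_inv_cancel]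
    have hv' : C.shape.j r' • h.v = h.v := by
      rw [hconj, mul_smul, mul_smul, inv_smul_eq_iff.2 hv.symm, ht, hv]
    have hne : r' * h.r ≠ 1 := fun e => hn (by
      have e2 : r' = h.r := mul_right_cancel (e.trans h.hr.symm)
      exact mul_inv_eq_iff_eq_mul.1 e2)
    have hr'2 : r' * r' = 1 := by
      rw [hr', show s * h.r * s⁻¹ * (s * h.r * s⁻¹) = s * (h.r * h.r) * s⁻¹ by group, h.hr]
      group
    have hr'1 : r' ≠ 1 := fun e => h.hr1 (conj_eq_one_iff.1 e)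
    have h0 := h.fpf (r' * h.r) (p3_prod r' h.r hr'2 h.hr h.hr1 hne hr'1) hne h.v (by
      rw [map_mul, mul_smul, ht, hv'])
    exact h.piece.ne h0
  refine Prod.ext key ?_
  show (C.proj m).2 * 1 = 1 * (C.proj m).2
  rw [mul_one, one_mul]

/-- The swap fixes `E ∩ T`. -/
theorem swap_E0 {σ : G} (hσz : σ * C.z * σ⁻¹ = h.x) (hσx : σ * h.x * σ⁻¹ = C.z)
    (hσQ : ∀ a ∈ C.Q, σ * a * σ⁻¹ ∈ h.T) (hσT : ∀ a ∈ h.T, σ * a * σ⁻¹ ∈ C.Q)
    {a : G} (ha : a ∈ h.E) (haT : a ∈ h.T) : σ * a * σ⁻¹ ∈ h.E := by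
  classical
  by_contra hn
  set E0 : Subgroup G := h.E ⊓ h.T with hE0
  obtain ⟨P', hP'⟩ : ∃ P' : Subgroup G, P' = E0.map (MulAut.conj σ).toMonoidHom := ⟨_, rfl⟩
  have hP'QT : P' ≤ C.Q ⊓ h.T := by
    rw [hP']
    rintro _ ⟨b, ⟨hbE, hbT⟩, rfl⟩
    exact ⟨hσT b hbT, hσQ b hbE.1⟩
  have hP'W : ∀ b ∈ P', C.bar b ∈ h.W := fun b hb => ⟨b, hP'QT hb, rfl⟩
  obtain ⟨u0, hu0, hu0W⟩ := h.exists_not_W
  obtain ⟨a0, ha0, rfl⟩ := C.bar_surj u0
  have ha0E : a0 ∈ h.E := ⟨ha0, hu0⟩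
  have ha0T : a0 ∉ h.T := fun hT => hu0W ((h.mem_W_iff ha0).2 hT)
  have hcE : Nat.card ↥h.E = 32 := by
    let f : ↥h.E →* Multiplicative C.Vec :=
      MonoidHom.mk' (fun b => Multiplicative.ofAdd (C.bar b)) fun b c => by
        simp only [Subgroup.coe_mul, C.bar_mul b.2.1 c.2.1]
        rfl
    have hrange : Nat.card ↥f.range = Nat.card ↥h.U :=
      Nat.card_congr
        { toFun := fun w => ⟨Multiplicative.toAdd (w : Multiplicative C.Vec), by
            obtain ⟨d, hd⟩ := w.2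
            rw [← hd]
            exact d.2.2⟩
          invFun := fun w => ⟨Multiplicative.ofAdd (w : C.Vec), by
            obtain ⟨d, hd, e⟩ := C.bar_surj (w : C.Vec)
            exact ⟨⟨d, hd, e.symm ▸ w.2⟩, congrArg Multiplicative.ofAdd e⟩⟩
          left_inv := fun w => rfl
          right_inv := fun w => rfl }
    have hker : Nat.card ↥f.ker = 2 := by
      have hk : f.ker.map h.E.subtype = zpowers C.z := by
        ext y
        constructor
        · rintro ⟨d, hd, rfl⟩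
          rcases (C.bar_eq_zero_iff d.2.1).1 (congrArg Multiplicative.toAdd (MonoidHom.mem_ker.1 hd))
            with e | e
          · show (d : G) ∈ zpowers C.z
            rw [e]; exact one_mem _
          · show (d : G) ∈ zpowers C.z
            rw [e]; exact mem_zpowers _
        · intro hy
          refine ⟨⟨y, zpowers_le.2 h.z_mem_E hy⟩, MonoidHom.mem_ker.2 ?_, rfl⟩
          rcases CfsgLib.Trans3.mem_zpowers_invol C.pack.ord hy with rfl | rfl
          · exact congrArg Multiplicative.ofAdd C.bar_one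
          · exact congrArg Multiplicative.ofAdd C.bar_z
      rw [← card_map_of_injective (Subgroup.subtype_injective h.E), hk, Nat.card_zpowers, C.pack.ord]
    rw [card_eq_card_quotient_mul_card_subgroup f.ker, hker,
      Nat.card_congr (QuotientGroup.quotientKerEquivRange f).toEquiv, hrange, h.card_U]
  have hidx0 : (E0.subgroupOf h.E).index = 2 := by
    refine index_eq_two_iff.2 ⟨⟨a0, ha0E⟩, fun b => ?_⟩
    simp only [hE0, mem_subgroupOf, Subgroup.coe_mul, mem_inf]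
    by_cases hb : (b : G) ∈ h.T
    · exact Or.inr ⟨⟨b.2, hb⟩, fun hh => ha0T ((h.T.mul_mem_cancel_left hb).1 hh.2)⟩
    · refine Or.inl ⟨⟨mul_mem b.2 ha0E, ?_⟩, fun hh => hb hh.2⟩
      refine (h.mem_W_iff (mul_mem b.2.1 ha0)).1 ?_
      rw [C.bar_mul b.2.1 ha0]
      exact h.hyperplane.1 _ b.2.2 (fun e => hb ((h.mem_W_iff b.2.1).1 e)) _ hu0 hu0W
  have hE016 : Nat.card ↥E0 = 16 := by
    have h1 := (E0.subgroupOf h.E).card_mul_index
    rw [hidx0, Nat.card_congr (subgroupOfEquivOfLe (inf_le_left : E0 ≤ h.E)).toEquiv, hcE] at h1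
    exact Nat.eq_of_mul_eq_mul_right two_pos h1
  have hP'16 : Nat.card ↥P' = 16 := by
    rw [hP', card_map_of_injective (MulEquiv.injective _), hE016]
  have haP : σ * a * σ⁻¹ ∈ P' := by rw [hP']; exact ⟨a, ⟨ha, haT⟩, rfl⟩
  have hout : ∀ b ∈ P', b ∉ h.E → C.bar b ∈ h.W ∧ C.bar b ∉ h.U := fun b hb hbE =>
    ⟨hP'W b hb, fun e => hbE ⟨(hP'QT hb).1, e⟩⟩
  set K : Subgroup G := P' ⊓ h.E with hK
  have hidx : (K.subgroupOf P').index = 2 := by
    refine index_eq_two_iff.2 ⟨⟨_, haP⟩, fun b => ?_⟩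
    simp only [hK, mem_subgroupOf, Subgroup.coe_mul, mem_inf]
    by_cases hb : (b : G) ∈ h.E
    · exact Or.inr ⟨⟨b.2, hb⟩, fun hh => hn ((h.E.mul_mem_cancel_left hb).1 hh.2)⟩
    · refine Or.inl ⟨⟨mul_mem b.2 haP, mul_mem (hP'QT b.2).1 (hP'QT haP).1, ?_⟩, fun hh => hb hh.2⟩
      rw [C.bar_mul (hP'QT b.2).1 (hP'QT haP).1]
      obtain ⟨h1, h2⟩ := hout _ b.2 hb
      obtain ⟨h3, h4⟩ := hout _ haP hn
      exact h.W_add h1 h2 h3 h4
  have hK8 : Nat.card ↥K = 8 := by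
    have h1 := (K.subgroupOf P').card_mul_index
    rw [hidx, Nat.card_congr (subgroupOfEquivOfLe (inf_le_left : K ≤ P')).toEquiv, hP'16] at h1
    exact Nat.eq_of_mul_eq_mul_right two_pos h1
  have hzP' : C.z ∈ P' := by rw [hP']; exact ⟨h.x, ⟨h.x_mem_E, h.pair.right.mem⟩, hσx⟩
  have hxP' : h.x ∈ P' := by rw [hP']; exact ⟨C.z, ⟨h.z_mem_E, h.pair.zmem⟩, hσz⟩
  have hzK : C.z ∈ K := ⟨hzP', h.z_mem_E⟩
  have hxK : h.x ∈ K := ⟨hxP', h.x_mem_E⟩
  obtain ⟨b1, hb1, hb1n⟩ : ∃ b ∈ K, ¬ (C.bar b = 0 ∨ C.bar b = h.v) := by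
    by_contra hh
    push Not at hh
    have hsub : (K : Set G) ⊆ ↑({1, C.z, h.x, C.z * h.x} : Finset G) := fun b hb => by
      have hb' := h.ne_zero_cases (E_le h hb.2)
        (hh b hb)
      simpa using hb'
    have h4 := Set.ncard_le_ncard hsub (Finset.finite_toSet _)
    rw [Set.ncard_coe_finset, ← Nat.card_coe_set_eq] at h4
    have h5 := h4.trans Finset.card_le_four
    rw [show Nat.card ↥(K : Set G) = 8 from hK8] at h5
    norm_num at h5
  obtain ⟨k, hk3, hk1⟩ : ∃ k : P3, k ^ 3 = 1 ∧ k ≠ 1 := by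
    refine ⟨Equiv.swap 0 1 * Equiv.swap 1 2, ?_, ?_⟩ <;> decide
  obtain ⟨g, hg3, hg1, hgv, hgfix⟩ := Shape.three h.fpf h.hr h.hr1 hk3 hk1 h.v_mem_U h.piece.ne
  obtain ⟨m0, hm0⟩ : ∃ m : ↥C.M, C.proj m = (C.shape.i g : C.X) := (C.shape.i g : C.X).2
  obtain ⟨m, hm, hmx⟩ : ∃ m : ↥C.M, C.proj m = (C.shape.i g : C.X) ∧ (m : G) * h.x * (m : G)⁻¹ = h.x := by
    have e := hgv
    rw [C.smul_bar hm0 h.hx, C.bar_eq_iff (C.norm_Q m0.2 h.hx) h.hx] at e
    rcases e with e | e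
    · exact ⟨m0, hm0, e.symm⟩
    · obtain ⟨q, hq, r, -, -, hqx, -, -⟩ := h.pair.exists_movers
      refine ⟨⟨q, C.pack.mem_centralizer_z hq⟩ * m0, ?_, ?_⟩
      · rw [map_mul, (C.proj_ker _).2 (show ((⟨q, C.pack.mem_centralizer_z hq⟩ : ↥C.M) : G) ∈ C.Q
          from hq), one_mul, hm0]
      · show q * (m0 : G) * h.x * (q * (m0 : G))⁻¹ = h.x
        have e' : (m0 : G) * h.x * (m0 : G)⁻¹ = C.z * h.x := by
          calc (m0 : G) * h.x * (m0 : G)⁻¹ = C.z * (C.z * ((m0 : G) * h.x * (m0 : G)⁻¹)) := by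
                rw [← mul_assoc C.z C.z, C.pack.z_mul_z, one_mul]
            _ = C.z * h.x := by rw [← e]
        calc q * (m0 : G) * h.x * (q * (m0 : G))⁻¹ = q * ((m0 : G) * h.x * (m0 : G)⁻¹) * q⁻¹ := by
              group
          _ = q * C.z * q⁻¹ * (q * h.x * q⁻¹) := by rw [e']; group
          _ = h.x := by
            rw [C.conj_z (C.pack.mem_centralizer_z hq), hqx, ← mul_assoc, C.pack.z_mul_z, one_mul]
  set m' : G := σ⁻¹ * m * σ with hm'
  have hσinvx : σ⁻¹ * h.x * σ = C.z := by rw [← hσz]; group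
  have hσinvz : σ⁻¹ * C.z * σ = h.x :=
    calc σ⁻¹ * C.z * σ = σ⁻¹ * (σ * h.x * σ⁻¹) * σ := by rw [hσx]
      _ = h.x := by simp [mul_assoc]
  have hm'z : m' * C.z * m'⁻¹ = C.z := by
    rw [hm', show σ⁻¹ * (m : G) * σ * C.z * (σ⁻¹ * (m : G) * σ)⁻¹ =
      σ⁻¹ * ((m : G) * (σ * C.z * σ⁻¹) * (m : G)⁻¹) * σ by group, hσz, hmx, hσinvx]
  have hm'x : m' * h.x * m'⁻¹ = h.x := by
    rw [hm', show σ⁻¹ * (m : G) * σ * h.x * (σ⁻¹ * (m : G) * σ)⁻¹ =
      σ⁻¹ * ((m : G) * (σ * h.x * σ⁻¹) * (m : G)⁻¹) * σ by group, hσx, C.conj_z m.2, hσinvz]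
  have hm'M : m' ∈ C.M := mem_centralizer_singleton_iff.2 (mul_inv_eq_iff_eq_mul.1 hm'z)
  have hE0inv : ∀ b ∈ E0, m' * b * m'⁻¹ ∈ E0 := fun b hb =>
    ⟨h.norm_E (m := ⟨m', hm'M⟩) (h.proj_comm (m := ⟨m', hm'M⟩) hm'x) hb.1,
      h.pair.conj_mem_right (mul_inv_eq_iff_eq_mul.1 hm'x) hb.2⟩
  have hP'inv : ∀ b ∈ P', (m : G) * b * (m : G)⁻¹ ∈ P' := by
    intro b hb
    rw [hP'] at hb ⊢
    obtain ⟨b', hb', rfl⟩ := hb
    refine ⟨m' * b' * m'⁻¹, hE0inv b' hb', ?_⟩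
    show σ * (m' * b' * m'⁻¹) * σ⁻¹ = (m : G) * (σ * b' * σ⁻¹) * (m : G)⁻¹
    rw [hm']
    group
  set Z : AddSubgroup C.Vec := C.img K with hZ
  have hmem : ∀ b ∈ K, C.bar b ∈ Z := fun b hb => ⟨b, ⟨E_le h hb.2, hb⟩, rfl⟩
  have hZg : ∀ w ∈ Z, C.shape.i g • w ∈ Z := by
    rintro _ ⟨b, ⟨hbQ, hbK⟩, rfl⟩
    rw [C.smul_bar hm hbQ]
    exact hmem _ ⟨hP'inv b hbK.1, h.norm_E (by rw [hm]; exact h.i_comm_t g) hbK.2⟩
  have hZle : 2 * Nat.card ↥Z ≤ 8 := by
    rw [← hK8]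
    let ι : Bool × ↥Z → ↥K := fun p =>
      if p.1 then ⟨C.z * (C.mem_img.1 p.2.2).choose, mul_mem hzK (C.mem_img.1 p.2.2).choose_spec.1.2⟩
      else ⟨(C.mem_img.1 p.2.2).choose, (C.mem_img.1 p.2.2).choose_spec.1.2⟩
    have hbar : ∀ p, C.bar (ι p : G) = (p.2 : C.Vec) := by
      intro p
      have hs := (C.mem_img.1 p.2.2).choose_spec
      by_cases hp : p.1
      · simp only [ι, hp, if_true]
        rw [C.bar_mul C.z_mem hs.1.1, C.bar_z, zero_add]
        exact hs.2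
      · simp only [ι, hp, if_false]
        exact hs.2
    have hι : Function.Injective ι := by
      intro p p' e
      have e2 : p.2 = p'.2 := Subtype.ext (by rw [← hbar p, ← hbar p', e])
      obtain ⟨b, w⟩ := p
      obtain ⟨b', w'⟩ := p'
      change w = w' at e2
      subst e2
      cases b <;> cases b'
      · rfl
      · simp only [ι, if_true, Bool.false_eq_true, if_false] at e
        exact absurd (mul_eq_right.1 (congrArg Subtype.val e).symm) C.pack.z_ne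
      · simp only [ι, if_true, Bool.false_eq_true, if_false] at e
        exact absurd (mul_eq_right.1 (congrArg Subtype.val e)) C.pack.z_ne
      · rfl
    have h1 := Nat.card_le_card_of_injective ι hι
    rwa [Nat.card_prod, Nat.card_eq_fintype_card (α := Bool), Fintype.card_bool] at h1
  set z1 := C.bar b1 with hz1
  have hgz1 : C.shape.i g • z1 ≠ z1 := by
    intro e
    refine hb1n (hgfix z1 hb1.2.2 ?_ e)
    obtain ⟨w, hw, hwe⟩ := h.hyperplane.2 z1 hb1.2.2 (hP'W b1 hb1.1)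
    have hsum : z1 + C.shape.j k • z1 + C.shape.j k • C.shape.j k • z1 = 0 := by
      refine h.fpf k hk3 hk1 _ ?_
      rw [smul_add, smul_add, show C.shape.j k • C.shape.j k • C.shape.j k • z1 = z1 by
        rw [← mul_smul, ← mul_smul, ← map_mul, ← map_mul, ← pow_two, ← pow_succ, hk3, map_one, one_smul]]
      abel
    have hfix : w + C.shape.j k • z1 ∈ h.U := by
      rw [h.mem_U, smul_add]
      have e1 : h.t • w = w + z1 := by
        rw [← hwe, ← add_assoc, C.two, zero_add]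
      have e2 : h.t • C.shape.j k • z1 = C.shape.j k • C.shape.j k • z1 := by
        rw [← mul_smul, ← map_mul, p3_invert _ _ h.hr h.hr1 hk3 hk1, map_mul, map_mul, mul_smul, mul_smul,
          h.mem_U.1 hb1.2.2]
      rw [e1, e2]
      calc w + z1 + C.shape.j k • C.shape.j k • z1
          = w + (z1 + C.shape.j k • z1 + C.shape.j k • C.shape.j k • z1) + C.shape.j k • z1 := by
            rw [show ∀ a b c d : C.Vec, a + (b + c + d) + c = a + b + d + (c + c) from fun a b c d => by abel,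
              C.two, add_zero]
        _ = w + C.shape.j k • z1 := by rw [hsum, add_zero]
    have h3 := h.form_U hfix h.v_mem_U
    rw [C.shape.b_add, hw, zero_add] at h3
    exact h3
  have hgv' : C.shape.i g • z1 ≠ z1 + h.v := by
    intro e
    apply h.piece.ne
    have e3 : C.shape.i g • C.shape.i g • C.shape.i g • z1 = z1 := by
      rw [← mul_smul, ← mul_smul, ← map_mul, ← map_mul, ← pow_two, ← pow_succ, hg3, map_one, one_smul]
    rw [e, smul_add, e, smul_add, smul_add, hgv, e, hgv] at e3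
    calc h.v = h.v + (h.v + h.v) := by rw [C.two, add_zero]
      _ = 0 := by
        rw [add_assoc, add_assoc, add_eq_left] at e3
        exact e3
  have hz1Z : z1 ∈ Z := hmem b1 hb1
  have hvZ : h.v ∈ Z := hmem _ hxK
  have h5 : ({0, h.v, z1, z1 + h.v, C.shape.i g • z1} : Finset C.Vec).card = 5 := by
    have hz10 : z1 ≠ 0 := fun e => hb1n (Or.inl e)
    have hz1v : z1 ≠ h.v := fun e => hb1n (Or.inr e)
    have hinj : ∀ w, C.shape.i g • z1 = C.shape.i g • w → z1 = w := fun w => smul_left_cancel _ (α := C.X)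
    have hn0 : C.shape.i g • z1 ≠ 0 := fun e => hz10 (hinj 0 (by rw [e, smul_zero]))
    have hnv : C.shape.i g • z1 ≠ h.v := fun e => hz1v (hinj h.v (by rw [e, hgv]))
    have h4 : z1 + h.v ≠ 0 := fun e => hz1v (by
      calc z1 = z1 + (h.v + h.v) := by rw [C.two, add_zero]
        _ = h.v := by rw [← add_assoc, e, zero_add])
    have hz1z : z1 ≠ z1 + h.v := fun e => h.piece.ne (left_eq_add.1 e)
    have hvz : h.v ≠ z1 + h.v := fun e => hz10 (right_eq_add.1 e)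
    rw [Finset.card_insert_of_notMem (by simp [h.piece.ne.symm, hz10.symm, h4.symm, hn0.symm]),
      Finset.card_insert_of_notMem (by simp [hz1v.symm, hvz, hnv.symm]),
      Finset.card_insert_of_notMem (by simp [hz1z, hgz1.symm]),
      Finset.card_insert_of_notMem (by simp [hgv'.symm]), Finset.card_singleton]
  have hsub : (↑({0, h.v, z1, z1 + h.v, C.shape.i g • z1} : Finset C.Vec) : Set C.Vec) ⊆ Z := by
    intro w hw
    simp only [Finset.coe_insert, Finset.coe_singleton, Set.mem_insert_iff, Set.mem_singleton_iff] at hw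
    rcases hw with rfl | rfl | rfl | rfl | rfl
    exacts [zero_mem _, hvZ, hz1Z, add_mem hz1Z hvZ, hZg _ hz1Z]
  have h6 := Set.ncard_le_ncard hsub (Set.toFinite _)
  rw [Set.ncard_coe_finset, h5, ← Nat.card_coe_set_eq] at h6
  have : Nat.card ↥(Z : Set C.Vec) = Nat.card ↥Z := rfl
  omega

/-- The image of the transposition is the only element of the pair fixing `W ∩ U` pointwise. -/
theorem eq_t {a : C.X} (ha : a ∈ C.imgX h.T) (ha1 : a ≠ 1)
    (hfix : ∀ w ∈ h.W, w ∈ h.U → a • w = w) : a = h.t := by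
  have key : ∀ b ∈ C.imgX h.T, (∀ w ∈ h.W, b • w = w) → b = 1 := by
    intro b hb hbW
    by_contra hb1
    have h2 : orderOf b = 2 := orderOf_eq_prime (by rw [pow_two]; exact h.piece.sq b hb) hb1
    have hk := h.piece.ker (zpowers b) (zpowers_le.2 hb) fun c hc w hw => by
      rcases CfsgLib.Trans3.mem_zpowers_invol h2 hc with rfl | rfl
      · exact one_smul _ w
      · exact hbW w hw
    rw [Nat.card_zpowers, h2, h.card_W] at hk
    norm_num at hk
  obtain ⟨w0, hw0, hw0U⟩ := h.exists_W_not_U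
  have hcover : ∀ w ∈ h.W, w ∉ h.U → w + w0 ∈ h.W ∧ w + w0 ∈ h.U := fun w hw hwU =>
    ⟨add_mem hw hw0, h.W_add hw hwU hw0 hw0U⟩
  have haw : a • w0 = w0 + h.v := by
    rcases h.piece.pair a ha w0 hw0 with e | e
    · exfalso
      refine ha1 (key a ha fun w hw => ?_)
      have e0 : a • w0 = w0 := by
        calc a • w0 = w0 + w0 + a • w0 := by rw [C.two, zero_add]
          _ = w0 := by rw [add_assoc, e, add_zero]
      by_cases hwU : w ∈ h.U
      · exact hfix w hw hwU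
      · have hc := hcover w hw hwU
        have h1 := hfix _ hc.1 hc.2
        rw [smul_add, e0] at h1
        exact add_right_cancel h1
    · rw [← e, ← add_assoc, C.two, zero_add]
  have htw : h.t • w0 = w0 + h.v := by
    rw [← h.W_move hw0 hw0U, ← add_assoc, C.two, zero_add]
  have hat : a * h.t = 1 := by
    refine key _ (mul_mem ha h.mem) fun w hw => ?_
    by_cases hwU : w ∈ h.U
    · rw [mul_smul, h.mem_U.1 hwU, hfix w hw hwU]
    · have hc := hcover w hw hwU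
      have e1 : (a * h.t) • (w + w0) = w + w0 := by rw [mul_smul, h.mem_U.1 hc.2, hfix _ hc.1 hc.2]
      have e2 : (a * h.t) • w0 = w0 := by
        rw [mul_smul, htw, smul_add, haw, h.piece.fixes a ha, add_assoc, C.two, add_zero]
      rw [smul_add, e2] at e1
      exact add_right_cancel e1
  calc a = a * (h.t * h.t) := by rw [← map_mul, h.hr, map_one, mul_one]
    _ = h.t := by rw [← mul_assoc, hat, one_mul]

/-- The data used in the final argument. -/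
theorem exists_partner : ∃ (σ k : G) (y : G), σ * C.z * σ⁻¹ = h.x ∧
    k ∈ C.M ∧ (∀ a ∈ h.E, k * a * k⁻¹ ∈ h.E) ∧
    y = σ * (k * h.x * k⁻¹) * σ⁻¹ ∧ y ∉ C.Q ∧
    (∃ m : ↥C.M, (m : G) = y ∧ C.proj m = h.t) ∧
    (∀ a ∈ h.E, y * a = a * y) ∧
    (∀ a ∈ h.E, σ * a * σ⁻¹ ∈ h.E ∨ σ * a * σ⁻¹ * y ∈ h.E) ∧ σ * y * σ⁻¹ ∈ h.E := by
  classical
  obtain ⟨σ, hσz, hσx, hσQ, hσT, hσT', hσQ'⟩ := h.exists_swap
  obtain ⟨u1, hu1, hu1W⟩ := h.exists_not_W
  obtain ⟨g1, hg1⟩ := Shape.fixed_trans h.fpf h.hr h.hr1 h.v_mem_U h.piece.ne hu1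
    (fun e => hu1W (e ▸ zero_mem _))
  obtain ⟨k, hk⟩ : ∃ m : ↥C.M, C.proj m = (C.shape.i g1 : C.X) := (C.shape.i g1 : C.X).2
  have hkE : ∀ a ∈ h.E, (k : G) * a * (k : G)⁻¹ ∈ h.E := fun a ha =>
    h.norm_E (by rw [hk]; exact h.i_comm_t g1) ha
  obtain ⟨e, he⟩ : ∃ e : G, e = (k : G) * h.x * (k : G)⁻¹ := ⟨_, rfl⟩
  have heE : e ∈ h.E := he ▸ hkE _ h.x_mem_E
  have hebar : C.bar e = u1 := by rw [he, ← C.smul_bar hk h.hx]; exact hg1
  have heT : e ∉ h.T := fun hT => hu1W (hebar ▸ (h.mem_W_iff heE.1).2 hT)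
  have hgen : ∀ a ∈ h.E, a ∈ h.T ∨ a * e ∈ h.T := by
    intro a ha
    by_cases haT : a ∈ h.T
    · exact Or.inl haT
    refine Or.inr ((h.mem_W_iff (mul_mem ha.1 heE.1)).1 ?_)
    rw [C.bar_mul ha.1 heE.1, hebar]
    exact h.hyperplane.1 _ ha.2 (fun hW => haT ((h.mem_W_iff ha.1).1 hW)) _ hu1 hu1W
  have hE0 : ∀ a ∈ h.E, a ∈ h.T → σ * a * σ⁻¹ ∈ h.E ∧ σ * a * σ⁻¹ ∈ h.T := fun a ha haT =>
    ⟨h.swap_E0 hσz hσx hσQ hσT ha haT, hσQ a ha.1⟩
  set E0 : Subgroup G := h.E ⊓ h.T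
  have hE0map : E0.map (MulAut.conj σ).toMonoidHom = E0 := by
    refine eq_of_le_of_card_ge ?_ (le_of_eq (card_map_of_injective (MulEquiv.injective _)).symm)
    rintro _ ⟨a, ⟨ha, haT⟩, rfl⟩
    exact hE0 a ha haT
  have hsurj : ∀ b ∈ h.E, b ∈ h.T → ∃ a ∈ h.E, a ∈ h.T ∧ σ * a * σ⁻¹ = b := by
    intro b hb hbT
    have hb' : b ∈ E0.map (MulAut.conj σ).toMonoidHom := by rw [hE0map]; exact ⟨hb, hbT⟩
    obtain ⟨a, ⟨ha, haT⟩, rfl⟩ := hb'
    exact ⟨a, ha, haT, rfl⟩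
  set y := σ * e * σ⁻¹ with hy
  have hyT : y ∈ h.T := hσQ e heE.1
  have hyz : y * C.z = C.z * y := by
    have h1 := h.E_comm heE h.x_mem_E
    calc y * C.z = σ * (e * h.x) * σ⁻¹ := by rw [hy, ← hσx]; group
      _ = σ * (h.x * e) * σ⁻¹ := by rw [h1]
      _ = C.z * y := by rw [hy, ← hσx]; group
  have hyQ : y ∉ C.Q := by
    intro hQ
    apply heT
    have := hσQ' y hQ
    rwa [hy, show σ⁻¹ * (σ * e * σ⁻¹) * σ = e by group] at this
  set my : ↥C.M := ⟨y, mem_centralizer_singleton_iff.2 hyz⟩ with hmy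
  have hyE0 : ∀ b ∈ h.E, b ∈ h.T → y * b = b * y := by
    intro b hb hbT
    obtain ⟨a, ha, -, rfl⟩ := hsurj b hb hbT
    calc y * (σ * a * σ⁻¹) = σ * (e * a) * σ⁻¹ := by rw [hy]; group
      _ = σ * (a * e) * σ⁻¹ := by rw [h.E_comm heE ha]
      _ = σ * a * σ⁻¹ * y := by rw [hy]; group
  have hproj : C.proj my = h.t := by
    set ay : C.X := ⟨C.proj my, ⟨my, rfl⟩⟩
    have hay : ay = h.t := by
      refine h.eq_t (C.mem_imgX.2 ⟨my, hyT, rfl⟩) (fun e' => hyQ ?_) fun w hw hwU => ?_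
      · exact (C.proj_ker my).1 (congrArg Subtype.val e')
      · obtain ⟨d, hd, rfl⟩ := C.mem_img.1 hw
        rw [C.smul_bar (m := my) rfl hd.1]
        congr 1
        show y * d * y⁻¹ = d
        rw [hyE0 d ⟨hd.1, hwU⟩ hd.2, mul_inv_cancel_right]
    exact congrArg Subtype.val hay
  -- `y` commutes with `e`
  have hye : y * e = e * y := by
    by_contra hne'
    have hbar : C.bar (y * e * y⁻¹) = C.bar e := by
      rw [← C.smul_bar (m := my) (x := h.t) hproj heE.1]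
      exact h.mem_U.1 heE.2
    have h1 : y * e * y⁻¹ = C.z * e := by
      rcases (C.bar_eq_iff (C.norm_Q my.2 heE.1) heE.1).1 hbar with e' | e'
      · exact absurd (mul_inv_eq_iff_eq_mul.1 e'.symm) hne'
      · calc y * e * y⁻¹ = C.z * (C.z * (y * e * y⁻¹)) := by
              rw [← mul_assoc C.z C.z, C.pack.z_mul_z, one_mul]
          _ = C.z * e := by rw [← e']
    have hze : e * C.z = C.z * e := C.zc heE.1
    have h1' : e * y * e⁻¹ = C.z * y := by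
      have a1 : y * e = C.z * (e * y) := by
        rw [← mul_assoc]; exact mul_inv_eq_iff_eq_mul.1 h1
      rw [mul_inv_eq_iff_eq_mul, mul_assoc, a1, ← mul_assoc C.z C.z, C.pack.z_mul_z, one_mul]
    set y2 := σ * y * σ⁻¹ with hy2
    have hy2Q : y2 ∈ C.Q := hσT y hyT
    have h2 : y2 * y * y2⁻¹ = h.x * y := by
      calc y2 * y * y2⁻¹ = σ * (y * e * y⁻¹) * σ⁻¹ := by rw [hy2, hy]; group
        _ = σ * C.z * σ⁻¹ * (σ * e * σ⁻¹) := by rw [h1]; group
        _ = h.x * y := by rw [hσz]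
    -- `y2` centralises `E ∩ T`
    have hy2E0 : ∀ b ∈ h.E, b ∈ h.T → y2 * b = b * y2 := by
      intro b hb hbT
      obtain ⟨a, ha, haT, rfl⟩ := hsurj b hb hbT
      calc y2 * (σ * a * σ⁻¹) = σ * (y * a) * σ⁻¹ := by rw [hy2]; group
        _ = σ * (a * y) * σ⁻¹ := by rw [hyE0 a ha haT]
        _ = σ * a * σ⁻¹ * y2 := by rw [hy2]; group
    obtain ⟨w0, hw0, hw0U⟩ := h.exists_W_not_U
    obtain ⟨d0, hd0, rfl⟩ := C.mem_img.1 hw0
    have hcovD : ∀ d ∈ C.Q ⊓ h.T, (d ∈ h.E ∧ d ∈ h.T) ∨ ((d * d0) ∈ h.E ∧ (d * d0) ∈ h.T) := by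
      intro d hd
      by_cases hdE : C.bar d ∈ h.U
      · exact Or.inl ⟨⟨hd.1, hdE⟩, hd.2⟩
      · refine Or.inr ⟨⟨mul_mem hd.1 hd0.1, ?_⟩, mul_mem hd.2 hd0.2⟩
        rw [C.bar_mul hd.1 hd0.1]
        exact h.W_add ⟨d, hd, rfl⟩ hdE hw0 hw0U
    have hd0sq := C.inter_elementary h.hx h.hne d0 hd0
    have hinT : ∀ c ∈ C.Q, (∀ b ∈ h.E, b ∈ h.T → c * b = b * c) → c * d0 = d0 * c → c ∈ h.T := by
      intro c hc hcE hcd
      refine h.mem_T_of_comm hc fun d hd => ?_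
      rcases hcovD d hd with ⟨hdE, hdT⟩ | ⟨hdE, hdT⟩
      · exact hcE d hdE hdT
      · have c1 : Commute c (d * d0) := hcE _ hdE hdT
        have c2 := c1.mul_right (show Commute c d0 from hcd)
        rw [mul_assoc, hd0sq, mul_one] at c2
        exact c2
    have hed0 : e * d0 ≠ d0 * e := fun hc => heT (hinT e heE.1 (fun b hb _ => h.E_comm heE hb) hc)
    have hdy : ∀ d ∈ C.Q ⊓ h.T, d * y * d⁻¹ = y ∨ d * y * d⁻¹ = h.x * y := fun d hd =>
      h.pair.right.conj_cases hd.2 hyT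
    by_cases hy2d : y2 * d0 = d0 * y2
    · have hy2T := hinT y2 hy2Q hy2E0 hy2d
      apply hyQ
      have := hσT' y2 hy2T
      rwa [hy2, show σ⁻¹ * (σ * y * σ⁻¹) * σ = y by group] at this
    · set d := y2 * e with hd
      have hdQ : d ∈ C.Q := mul_mem hy2Q heE.1
      have hdT : d ∈ h.T := hinT d hdQ (fun b hb hbT =>
          ((show Commute y2 b from hy2E0 b hb hbT).mul_left
            (show Commute e b from h.E_comm heE hb)).eq)
        (C.pack.mul_commute hy2Q heE.1 hd0.1 hy2d hed0)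
      have hy2e : y2 = d * e := by rw [hd, mul_assoc, h.E_sq heE, mul_one]
      have h3 : y2 * y * y2⁻¹ = C.z * (d * y * d⁻¹) := by
        calc y2 * y * y2⁻¹ = d * (e * y * e⁻¹) * d⁻¹ := by rw [hy2e]; group
          _ = d * C.z * y * d⁻¹ := by rw [h1']; group
          _ = C.z * (d * y * d⁻¹) := by rw [C.zc hdQ]; group
      rw [h2] at h3
      rcases hdy d ⟨hdQ, hdT⟩ with e' | e' <;> rw [e'] at h3
      · exact h.hne (mul_right_cancel h3)
      · exact C.pack.z_ne (right_eq_mul.1 h3)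
  have hyE : ∀ a ∈ h.E, y * a = a * y := by
    intro a ha
    rcases hgen a ha with haT | haT
    · exact hyE0 a ha haT
    · have c1 : Commute y (a * e) := hyE0 _ (mul_mem ha heE) haT
      have c2 := c1.mul_right (show Commute y e from hye)
      rw [mul_assoc, h.E_sq heE, mul_one] at c2
      exact c2
  have hy2E : σ * y * σ⁻¹ ∈ h.E := by
    have hQ := hσT y hyT
    refine ⟨hQ, ?_⟩
    have hcom : y * (σ * y * σ⁻¹) = σ * y * σ⁻¹ * y := by
      calc y * (σ * y * σ⁻¹) = σ * (e * y) * σ⁻¹ := by rw [hy]; group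
        _ = σ * (y * e) * σ⁻¹ := by rw [hye]
        _ = σ * y * σ⁻¹ * y := by rw [hy]; group
    rw [h.mem_U, C.smul_bar (m := my) (x := h.t) hproj hQ]
    congr 1
    show y * (σ * y * σ⁻¹) * y⁻¹ = σ * y * σ⁻¹
    rw [hcom, mul_inv_cancel_right]
  refine ⟨σ, k, y, hσz, k.2, hkE, by rw [hy, he], hyQ, ⟨my, rfl, hproj⟩, hyE, fun a ha => ?_, hy2E⟩
  rcases hgen a ha with haT | haT
  · exact Or.inl (hE0 a ha haT).1
  · refine Or.inr ?_
    have h1 := (hE0 _ (mul_mem ha heE) haT).1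
    rwa [show σ * (a * e) * σ⁻¹ = σ * a * σ⁻¹ * y by rw [hy]; group] at h1

end Hit

end CfsgLib.Recog.SThreeASix
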