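import Cfsg.Agent.Lib.Recog.SThreeASix.Transfer
import Cfsg.Agent.Lib.PLocal.LargeExtraCriterion
import Cfsg.Agent.Lib.Recog.SThreeASix.HitFinal

/-!
No finite group without 2-quotient has an involution centraliser `2^{1+8}.(S₃ × A₆)` or `2^{1+8}.(S₃ × S₆)`.
-/

set_option autoImplicit false

namespace CfsgLib.Recog.SThreeASix

open Subgroup
open CfsgLib.PLocal.LargeExtra (Pack)

universe u

variable {G : Type u} [Group G] [Finite G]

namespace Cfg

/-- The exclusion. -/
theorem not_residual_top (C : Cfg G) (S : CfsgLib.InvChar.ExtraspecialTransfer.Setup C.z C.Q)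
    (hres : Cfsg.pResidual 2 G = ⊤) : False := by
  let χ1 : P3 × P6 →* ℤˣ := Equiv.Perm.sign.comp (MonoidHom.fst P3 P6)
  let χ2 : P3 × P6 →* ℤˣ := χ1 * Equiv.Perm.sign.comp (MonoidHom.snd P3 P6)
  obtain ⟨m, hm⟩ := C.proj_top (Equiv.swap 0 1) 1
  have hm1 : χ1 (C.proj m) ≠ 1 := by
    rw [hm]
    show Equiv.Perm.sign (Equiv.swap (0 : Fin 3) 1) ≠ 1
    decide
  have hm2 : χ2 (C.proj m) ≠ 1 := by
    rw [hm]
    show Equiv.Perm.sign (Equiv.swap (0 : Fin 3) 1) * Equiv.Perm.sign (1 : P6) ≠ 1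
    rw [map_one, mul_one]
    decide
  obtain ⟨g, hx, hne, c, hc, hχ⟩ := exists_moved hres S C.pack C.card C.proj C.proj_ker χ1 ⟨m, hm1⟩
  have hF : C.shape.Fpf :=
    (C.piece hx hne).fpf (C.mem_imgX.2 ⟨c, hc, rfl⟩ :
      (⟨C.proj c, ⟨c, rfl⟩⟩ : C.X) ∈ C.imgX (C.conjQ g)) hχ
  obtain ⟨g, hx, hne, c, hc, hχ⟩ := exists_moved hres S C.pack C.card C.proj C.proj_ker χ2 ⟨m, hm2⟩
  obtain ⟨h16, r, hr, hr1, hmem⟩ :=
    (C.piece hx hne).exists_pure hF (C.mem_imgX.2 ⟨c, hc, rfl⟩ :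
      (⟨C.proj c, ⟨c, rfl⟩⟩ : C.X) ∈ C.imgX (C.conjQ g)) hχ
  exact Hit.impossible ⟨g, hx, hne, r, hr, hr1, hF, h16, hmem⟩

end Cfg

/-- The configuration from the usual hypotheses. -/
theorem exists_cfg (z : G) (hz : orderOf z = 2)
    (hQ : Cfsg.IsExtraspecial 2 ↥(Cfsg.pCore 2 ↥(centralizer ({z} : Set G))))
    (hQ9 : Nat.card ↥(Cfsg.pCore 2 ↥(centralizer ({z} : Set G))) = 2 ^ 9)
    (hCQ : centralizer ((Cfsg.pCore 2 ↥(centralizer ({z} : Set G))) : Set ↥(centralizer ({z} : Set G))) ≤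
      Cfsg.pCore 2 ↥(centralizer ({z} : Set G)))
    [hn : (Cfsg.pCore 2 ↥(centralizer ({z} : Set G))).Normal]
    (f : ↥(centralizer ({z} : Set G)) ⧸ Cfsg.pCore 2 ↥(centralizer ({z} : Set G)) →* P3 × P6)
    (hf : Function.Injective f) (htop : ∀ (a : P3) (g : A6), ∃ m, f m = (a, (g : P6))) :
    ∃ C : Cfg G, CfsgLib.InvChar.ExtraspecialTransfer.Setup C.z C.Q := by
  set M := centralizer ({z} : Set G) with hM
  set O := Cfsg.pCore 2 ↥M with hO
  set Q : Subgroup G := O.map M.subtype with hQdef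
  have hext : Cfsg.IsExtraspecial 2 ↥Q :=
    CfsgLib.PLocal.LargeExtra.isExtraspecial_equiv (O.equivMapOfInjective _ M.subtype_injective) hQ
  have hzM : z ∈ M := mem_centralizer_singleton_iff.2 rfl
  have hzO : (⟨z, hzM⟩ : ↥M) ∈ O := hCQ (mem_centralizer_iff.2 fun a _ =>
    Subtype.ext (mem_centralizer_singleton_iff.1 a.2))
  have hcent : centralizer (Q : Set G) ≤ Q := by
    intro c hc
    have hcM : c ∈ M := mem_centralizer_singleton_iff.2
      (mem_centralizer_iff.1 hc z ⟨⟨z, hzM⟩, hzO, rfl⟩).symm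
    exact ⟨⟨c, hcM⟩, hCQ (mem_centralizer_iff.2 fun a ha =>
      Subtype.ext (mem_centralizer_iff.1 hc a ⟨a, ha, rfl⟩)), rfl⟩
  have S := CfsgLib.InvChar.ExtraspecialTransfer.setup z hz Q rfl hext hcent
  have hcomm : ∀ a ∈ Q, ∀ b ∈ Q, a * b * a⁻¹ * b⁻¹ = 1 ∨ a * b * a⁻¹ * b⁻¹ = z := by
    intro a ha b hb
    rcases S.hcomm a ha b hb with e | e
    · left; rw [e]; group
    · right
      have hbz : b * z = z * b := mem_centralizer_singleton_iff.1 (S.hEH hb)
      have haz : a * z = z * a := mem_centralizer_singleton_iff.1 (S.hEH ha)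
      rw [e, mul_assoc b a, haz, ← mul_assoc, hbz]
      group
  have hne : ∃ b ∈ Q, b ≠ 1 ∧ b ≠ z := by
    by_contra hh
    push Not at hh
    have hle : Q ≤ zpowers z := fun b hb => by
      by_cases h1 : b = 1
      · rw [h1]; exact one_mem _
      · rw [hh b hb h1]; exact mem_zpowers _
    have h1 := card_le_of_le hle
    rw [hQdef, card_map_of_injective M.subtype_injective, hQ9, Nat.card_zpowers, hz] at h1
    norm_num at h1
  have hPack : Pack Q z := CfsgLib.PLocal.LargeExtra.pack_mk S.htwo hz S.hzE hcomm S.hsq S.hcenter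
    (fun a ha => S.zc ha) hne hcent (fun m hm => mem_normalizer_iff.2 fun a =>
      ⟨fun ha => S.hnorm m hm a ha, fun ha => by
        have := S.hnorm m⁻¹ (inv_mem hm) _ ha
        simpa [mul_assoc] using this⟩)
  refine ⟨{
    z := z
    Q := Q
    pack := hPack
    card := by rw [hQdef, card_map_of_injective M.subtype_injective, hQ9]
    proj := f.comp (QuotientGroup.mk' O)
    proj_ker := fun m => ?_
    proj_top := fun a g => ?_ }, S⟩
  · rw [MonoidHom.comp_apply, ← map_one f, hf.eq_iff, QuotientGroup.mk'_apply, QuotientGroup.eq_one_iff]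
    exact ⟨fun h => ⟨m, h, rfl⟩, fun ⟨b, hb, e⟩ => (Subtype.ext e : b = m) ▸ hb⟩
  · obtain ⟨w, hw⟩ := htop a g
    obtain ⟨m, rfl⟩ := QuotientGroup.mk'_surjective O w
    exact ⟨m, hw⟩

/-- A simple group with an element of order divisible by three is perfect at two. -/
theorem residual_eq_top [IsSimpleGroup G] {m : G} (h3 : 3 ∣ orderOf m) : Cfsg.pResidual 2 G = ⊤ := by
  have hn : (Cfsg.pResidual 2 G).Normal := by
    refine ⟨fun a ha b => ?_⟩
    induction ha using closure_induction with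
    | mem x hx =>
      refine subset_closure ?_
      show Nat.Coprime (orderOf (b * x * b⁻¹)) 2
      rw [show b * x * b⁻¹ = MulAut.conj b x from rfl, MulEquiv.orderOf_eq]
      exact hx
    | one => simp
    | mul x y _ _ hx hy =>
      rw [show b * (x * y) * b⁻¹ = b * x * b⁻¹ * (b * y * b⁻¹) by group]
      exact mul_mem hx hy
    | inv x _ hx =>
      rw [show b * x⁻¹ * b⁻¹ = (b * x * b⁻¹)⁻¹ by group]
      exact inv_mem hx
  refine hn.eq_bot_or_eq_top.resolve_left fun hbot => ?_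
  obtain ⟨d, hd⟩ := h3
  have ho : orderOf (m ^ d) = 3 := by
    rw [orderOf_pow_of_dvd (fun e => by
      subst e
      exact (orderOf_pos m).ne' (by simpa using hd)) ⟨3, by rw [hd, mul_comm]⟩, hd,
      Nat.mul_div_cancel]
    rcases Nat.eq_zero_or_pos d with e | e
    · subst e
      exact absurd (by simpa using hd) (orderOf_pos m).ne'
    · exact e
  have hmem : m ^ d ∈ Cfsg.pResidual 2 G := subset_closure (by
    show Nat.Coprime (orderOf (m ^ d)) 2
    rw [ho]; decide)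
  rw [hbot, Subgroup.mem_bot] at hmem
  rw [hmem, orderOf_one] at ho
  norm_num at ho

end CfsgLib.Recog.SThreeASix
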