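import Mathlib

/-!
The orthogonal of a subgroup in a nondegenerate binary space.
-/

set_option autoImplicit false

namespace CfsgLib.Recog.SThreeASix

theorem card_hom_zmod_two {M : Type*} [AddCommGroup M] [Finite M] (two : ∀ m : M, m + m = 0) :
    Nat.card (M →+ ZMod 2) = Nat.card M := by
  haveI : Fact (Nat.Prime 2) := ⟨Nat.prime_two⟩
  letI : Module (ZMod 2) M := AddCommGroup.zmodModule (fun m => by rw [two_nsmul]; exact two m)
  let e : (M →+ ZMod 2) ≃ Module.Dual (ZMod 2) M :=
    { toFun := fun f => f.toZModLinearMap 2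
      invFun := fun f => f.toAddMonoidHom
      left_inv := fun f => by ext; rfl
      right_inv := fun f => by ext; rfl }
  rw [Nat.card_congr e, Module.natCard_eq_pow_finrank (K := ZMod 2) (V := M),
    Module.natCard_eq_pow_finrank (K := ZMod 2) (V := Module.Dual (ZMod 2) M),
    Subspace.dual_finrank_eq]

/-- The orthogonal of `Y` has at most `|V| / |Y|` elements. -/
theorem card_perp_mul_le {V : Type*} [AddCommGroup V] [Finite V] (two : ∀ v : V, v + v = 0)
    (b : V → V → ZMod 2) (badd : ∀ u u' w, b (u + u') w = b u w + b u' w)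
    (bsymm : ∀ u w, b u w = b w u) (nondeg : ∀ u, (∀ w, b u w = 0) → u = 0)
    (Y P : AddSubgroup V) (hP : ∀ u ∈ P, ∀ y ∈ Y, b u y = 0) :
    Nat.card ↥P * Nat.card ↥Y ≤ Nat.card V := by
  classical
  have badd' : ∀ u w w', b u (w + w') = b u w + b u w' := fun u w w' => by
    rw [bsymm, badd, bsymm w, bsymm w']
  let f : ↥Y → (V ⧸ P →+ ZMod 2) := fun y =>
    QuotientAddGroup.lift P (AddMonoidHom.mk' (fun u => b u y) fun u u' => badd u u' y)
      (fun u hu => hP u hu y y.2)
  have hf : Function.Injective f := fun y y' h => Subtype.ext (by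
    have h0 : ∀ u, b (y + (y' : V)) u = 0 := fun u => by
      have := DFunLike.congr_fun h (QuotientAddGroup.mk u)
      change b u y = b u y' at this
      rw [bsymm, badd', this]
      exact CharTwo.add_self_eq_zero _
    have := nondeg _ h0
    calc (y : V) = y + ((y' : V) + y') := by rw [two, add_zero]
      _ = y' := by rw [← add_assoc, this, zero_add])
  haveI : Finite (V ⧸ P →+ ZMod 2) := DFunLike.finite _
  have h := Nat.card_le_card_of_injective f hf
  rw [card_hom_zmod_two (fun m => by
    obtain ⟨u, rfl⟩ := QuotientAddGroup.mk_surjective m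
    rw [← QuotientAddGroup.mk_add, two, QuotientAddGroup.mk_zero])] at h
  calc Nat.card ↥P * Nat.card ↥Y ≤ Nat.card ↥P * Nat.card (V ⧸ P) := Nat.mul_le_mul_left _ h
    _ = Nat.card V := by rw [mul_comm, ← AddSubgroup.card_eq_card_quotient_mul_card_addSubgroup]

end CfsgLib.Recog.SThreeASix
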