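import Cfsg.Agent.Lib.Recog.SThreeASix.Space
import Cfsg.Agent.Lib.Recog.SThreeASix.Perp
import Cfsg.Agent.Lib.PLocal.LargeExtraPairSeries

/-!
What a conjugate of `z` inside `Q` leaves in the orthogonal space and in the quotient.
-/

set_option autoImplicit false

namespace CfsgLib.Recog.SThreeASix

open Subgroup
open CfsgLib.PLocal.LargeExtra (Pack Pair pair_of_conj)

universe u

variable {G : Type u} [Group G] [Finite G] (C : Cfg G)

namespace Cfg

/-- The conjugate of `Q` by `g`. -/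
abbrev conjQ (g : G) : Subgroup G := C.Q.map (MulAut.conj g).toMonoidHom

/-- The image of a subgroup of `G` in the space. -/
def img (D : Subgroup G) : AddSubgroup C.Vec where
  carrier := {w | ∃ d ∈ C.Q ⊓ D, C.bar d = w}
  add_mem' := by
    rintro _ _ ⟨a, ha, rfl⟩ ⟨b, hb, rfl⟩
    exact ⟨a * b, mul_mem ha hb, C.bar_mul ha.1 hb.1⟩
  zero_mem' := ⟨1, one_mem _, C.bar_one⟩
  neg_mem' := by
    rintro _ ⟨a, ha, rfl⟩
    exact ⟨a, ha, (neg_eq_of_add_eq_zero_right (C.two _)).symm⟩

theorem mem_img {D : Subgroup G} {w : C.Vec} : w ∈ C.img D ↔ ∃ d ∈ C.Q ⊓ D, C.bar d = w := Iff.rfl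

/-- The image in the quotient of a subgroup of `G`. -/
def imgX (D : Subgroup G) : Subgroup C.X := (D.subgroupOf C.M).map C.proj.rangeRestrict

theorem mem_imgX {D : Subgroup G} {x : C.X} :
    x ∈ C.imgX D ↔ ∃ m : ↥C.M, (m : G) ∈ D ∧ C.proj m = x := by
  constructor
  · rintro ⟨m, hm, rfl⟩
    exact ⟨m, hm, rfl⟩
  · rintro ⟨m, hm, e⟩
    exact ⟨m, hm, Subtype.ext e⟩

theorem card_cent_mul {a : G} (ha : a ∈ C.Q) (h1 : a ≠ 1) (hz : a ≠ C.z) :
    2 * Nat.card ↥(C.Q ⊓ centralizer ({a} : Set G)) = 2 ^ 9 := by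
  classical
  obtain ⟨q, hq, hqa⟩ : ∃ q ∈ C.Q, q * a ≠ a * q := by
    by_contra hn
    push Not at hn
    rcases C.pack.eq_of_central ha fun b hb => (hn b hb).symm with e | e
    exacts [h1 e, hz e]
  set K : Subgroup G := C.Q ⊓ centralizer ({a} : Set G) with hK
  have hidx : (K.subgroupOf C.Q).index = 2 := by
    refine index_eq_two_iff.2 ⟨⟨q, hq⟩, fun b => ?_⟩
    simp only [hK, mem_subgroupOf, mem_inf, mem_centralizer_singleton_iff, Subgroup.coe_mul]
    by_cases hb : (b : G) * a = a * b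
    · refine Or.inr ⟨⟨b.2, hb⟩, fun h => hqa ?_⟩
      have := ((show Commute (b : G) a from hb).inv_left.mul_left (show Commute ((b : G) * q) a from h.2)).eq
      rwa [inv_mul_cancel_left] at this
    · exact Or.inl ⟨⟨mul_mem b.2 hq, C.pack.mul_commute b.2 hq ha hb hqa⟩, fun h => hb h.2⟩
  have h := (K.subgroupOf C.Q).card_mul_index
  rw [hidx, Nat.card_congr (subgroupOfEquivOfLe (inf_le_left : K ≤ C.Q)).toEquiv, C.card,
    mul_comm] at h
  exact h

variable {g : G} (hx : g * C.z * g⁻¹ ∈ C.Q) (hne : g * C.z * g⁻¹ ≠ C.z)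
include hx hne

theorem pair : Pair C.Q (C.conjQ g) C.z (g * C.z * g⁻¹) := pair_of_conj C.pack hne hx

theorem x_ne_one : g * C.z * g⁻¹ ≠ 1 := (C.pair hx hne).right.z_ne

theorem inter_elementary : ∀ a ∈ C.Q ⊓ C.conjQ g, a * a = 1 := fun a ha => by
  have h := (C.pair hx hne).elementary.2 a ha
  rwa [pow_two] at h

theorem inter_comm : ∀ a ∈ C.Q ⊓ C.conjQ g, ∀ b ∈ C.Q ⊓ C.conjQ g, a * b = b * a := fun a ha b hb =>
  congrArg Subtype.val ((C.pair hx hne).elementary.1.1.comm ⟨a, ha⟩ ⟨b, hb⟩)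

theorem card_cent_conj :
    Nat.card ↥(C.conjQ g ⊓ centralizer ({C.z} : Set G)) = 256 := by
  have P := C.pair hx hne
  set a : G := g⁻¹ * C.z * g with ha
  have haQ : a ∈ C.Q := by
    obtain ⟨b, hb, hbe⟩ := P.zmem
    have hbe' : g * b * g⁻¹ = C.z := hbe
    rw [ha, show g⁻¹ * C.z * g = b by rw [← hbe']; group]
    exact hb
  have ha1 : a ≠ 1 := fun e => C.pack.z_ne (by
    calc C.z = g * a * g⁻¹ := by rw [ha]; group
      _ = 1 := by rw [e]; group)
  have haz : a ≠ C.z := fun e => hne (by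
    calc g * C.z * g⁻¹ = g * a * g⁻¹ := by rw [e]
      _ = C.z := by rw [ha]; group)
  have h := C.card_cent_mul haQ ha1 haz
  have hmap : (C.Q ⊓ centralizer ({a} : Set G)).map (MulAut.conj g).toMonoidHom =
      C.conjQ g ⊓ centralizer ({C.z} : Set G) := by
    ext y
    constructor
    · rintro ⟨k, ⟨hkQ, hka⟩, rfl⟩
      refine ⟨⟨k, hkQ, rfl⟩, mem_centralizer_singleton_iff.2 ?_⟩
      have e := mem_centralizer_singleton_iff.1 hka
      show g * k * g⁻¹ * C.z = C.z * (g * k * g⁻¹)
      calc g * k * g⁻¹ * C.z = g * (k * a) * g⁻¹ := by rw [ha]; group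
        _ = g * (a * k) * g⁻¹ := by rw [e]
        _ = _ := by rw [ha]; group
    · rintro ⟨⟨k, hkQ, rfl⟩, hkz⟩
      refine ⟨k, ⟨hkQ, mem_centralizer_singleton_iff.2 ?_⟩, rfl⟩
      have e : g * k * g⁻¹ * C.z = C.z * (g * k * g⁻¹) := mem_centralizer_singleton_iff.1 hkz
      calc k * a = g⁻¹ * (g * k * g⁻¹ * C.z) * g := by rw [ha]; group
        _ = g⁻¹ * (C.z * (g * k * g⁻¹)) * g := by rw [e]
        _ = a * k := by rw [ha]; group
  rw [← hmap, card_map_of_injective (MulEquiv.injective _)]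
  omega

theorem card_img : 2 * Nat.card ↥(C.img (C.conjQ g)) = Nat.card ↥(C.Q ⊓ C.conjQ g) := by
  have hzD : C.z ∈ C.Q ⊓ C.conjQ g := ⟨C.z_mem, (C.pair hx hne).zmem⟩
  let f : ↥(C.Q ⊓ C.conjQ g) →* Multiplicative C.Vec :=
    MonoidHom.mk' (fun d => Multiplicative.ofAdd (C.bar d)) fun a b => by
      simp only [Subgroup.coe_mul, C.bar_mul a.2.1 b.2.1]
      rfl
  have hrange : Nat.card ↥f.range = Nat.card ↥(C.img (C.conjQ g)) :=
    Nat.card_congr
      { toFun := fun w => ⟨Multiplicative.toAdd (w : Multiplicative C.Vec), by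
          obtain ⟨d, hd⟩ := w.2
          exact ⟨d, d.2, congrArg Multiplicative.toAdd hd⟩⟩
        invFun := fun w => ⟨Multiplicative.ofAdd (w : C.Vec), by
          obtain ⟨d, hd, e⟩ := w.2
          exact ⟨⟨d, hd⟩, congrArg Multiplicative.ofAdd e⟩⟩
        left_inv := fun w => rfl
        right_inv := fun w => rfl }
  have hker : Nat.card ↥f.ker = 2 := by
    have hk : f.ker.map (C.Q ⊓ C.conjQ g).subtype = zpowers C.z := by
      ext y
      constructor
      · rintro ⟨d, hd, rfl⟩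
        rcases (C.bar_eq_zero_iff d.2.1).1 (congrArg Multiplicative.toAdd (MonoidHom.mem_ker.1 hd))
          with e | e
        · show (d : G) ∈ zpowers C.z
          rw [e]; exact one_mem _
        · show (d : G) ∈ zpowers C.z
          rw [e]; exact mem_zpowers _
      · intro hy
        refine ⟨⟨y, zpowers_le.2 hzD hy⟩, MonoidHom.mem_ker.2 ?_, rfl⟩
        rcases CfsgLib.Trans3.mem_zpowers_invol C.pack.ord hy with rfl | rfl
        · exact congrArg Multiplicative.ofAdd C.bar_one
        · exact congrArg Multiplicative.ofAdd C.bar_z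
    rw [← card_map_of_injective (Subgroup.subtype_injective (C.Q ⊓ C.conjQ g)), hk, Nat.card_zpowers,
      C.pack.ord]
  rw [← hrange, card_eq_card_quotient_mul_card_subgroup f.ker, hker,
    Nat.card_congr (QuotientGroup.quotientKerEquivRange f).toEquiv, mul_comm]

theorem card_imgX :
    Nat.card ↥(C.imgX (C.conjQ g)) * Nat.card ↥(C.Q ⊓ C.conjQ g) = 256 := by
  set f := C.proj.rangeRestrict.comp ((C.conjQ g).subgroupOf C.M).subtype with hf
  have hsub : Nat.card ↥((C.conjQ g).subgroupOf C.M) = 256 := by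
    rw [← inf_subgroupOf_right, Nat.card_congr (subgroupOfEquivOfLe inf_le_right).toEquiv,
      C.card_cent_conj hx hne]
  have hker : Nat.card ↥f.ker = Nat.card ↥(C.Q ⊓ C.conjQ g) :=
    Nat.card_congr
      { toFun := fun d => ⟨((d : ↥((C.conjQ g).subgroupOf C.M)) : ↥C.M), (C.proj_ker _).1
          (congrArg Subtype.val (MonoidHom.mem_ker.1 d.2)), (d : ↥((C.conjQ g).subgroupOf C.M)).2⟩
        invFun := fun d => ⟨⟨⟨d, C.pack.mem_centralizer_z d.2.1⟩, d.2.2⟩,
          MonoidHom.mem_ker.2 (Subtype.ext ((C.proj_ker _).2 d.2.1))⟩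
        left_inv := fun d => rfl
        right_inv := fun d => rfl }
  have hrange : f.range = C.imgX (C.conjQ g) := by
    rw [hf, MonoidHom.range_comp, Subgroup.range_subtype]
    rfl
  rw [← hsub, card_eq_card_quotient_mul_card_subgroup f.ker, hker,
    Nat.card_congr (QuotientGroup.quotientKerEquivRange f).toEquiv, hrange]

/-- The piece left by a fused conjugate. -/
theorem piece :
    Piece C.shape (C.bar (g * C.z * g⁻¹)) (C.img (C.conjQ g)) (C.imgX (C.conjQ g)) := by
  classical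
  have P := C.pair hx hne
  set x := g * C.z * g⁻¹ with hxdef
  set T := C.conjQ g with hT
  refine ⟨?_, ⟨x, ⟨hx, P.right.mem⟩, rfl⟩, ?_, ?_, ?_, ?_, ?_, ?_, ?_, ?_, ?_⟩
  · intro e
    rcases (C.bar_eq_zero_iff hx).1 e with e | e
    exacts [C.x_ne_one hx hne e, hne e]
  · rintro _ ⟨d, hd, rfl⟩
    show C.quad (C.bar d) = 0
    rw [C.quad_bar hd.1, if_pos (C.inter_elementary hx hne d hd)]
  · have h1 := C.card_img hx hne
    have h2 := C.card_imgX hx hne
    rw [← h1] at h2
    have : Nat.card ↥(C.imgX T) * Nat.card ↥(C.img T) * 2 = 128 * 2 := by rw [← hT] at h2; linarith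
    exact Nat.eq_of_mul_eq_mul_right (by norm_num) this
  · rintro a ha a' ha'
    obtain ⟨m, hm, e⟩ := C.mem_imgX.1 ha
    obtain ⟨m', hm', e'⟩ := C.mem_imgX.1 ha'
    apply Subtype.ext
    show (a : P3 × P6) * a' = a' * a
    rw [← e, ← e', ← map_mul, ← map_mul, ← mul_inv_eq_one, ← map_inv, ← map_mul, C.proj_ker]
    show (m : G) * m' * ((m' : G) * m)⁻¹ ∈ C.Q
    rw [show (m : G) * m' * ((m' : G) * m)⁻¹ = m * m' * (m : G)⁻¹ * (m' : G)⁻¹ by group]
    rcases P.right.comm_cases hm hm' with h | h <;> rw [h]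
    exacts [one_mem _, hx]
  · intro a ha
    obtain ⟨m, hm, e⟩ := C.mem_imgX.1 ha
    apply Subtype.ext
    show (a : P3 × P6) * a = 1
    rw [← e, ← map_mul, C.proj_ker]
    rcases P.right.sq_cases hm with h | h <;> rw [Subgroup.coe_mul, h]
    exacts [one_mem _, hx]
  · intro a ha
    obtain ⟨m, hm, e⟩ := C.mem_imgX.1 ha
    rw [C.smul_bar e hx, P.right.comm_z hm, mul_inv_cancel_right]
  · intro y hy a ha
    obtain ⟨m, hm, e⟩ := C.mem_imgX.1 ha
    have hr := C.rep_mem y
    rw [C.smul_bar (m := ⟨C.rep y, hr⟩) (C.proj_rep y) hx, C.bar_eq_iff (C.norm_Q hr hx) hx] at hy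
    obtain ⟨k, hk, hkx⟩ : ∃ k : ↥C.M, C.proj k = y ∧ (k : G) * x * (k : G)⁻¹ = x := by
      rcases hy with h | h
      · exact ⟨⟨C.rep y, hr⟩, C.proj_rep y, h.symm⟩
      · obtain ⟨q, hq, hqx⟩ : ∃ q ∈ C.Q, q * x ≠ x * q := by
          by_contra hn
          push Not at hn
          rcases C.pack.eq_of_central hx fun b hb => (hn b hb).symm with e' | e'
          exacts [C.x_ne_one hx hne e', hne e']
        refine ⟨⟨q, C.pack.mem_centralizer_z hq⟩ * ⟨C.rep y, hr⟩, ?_, ?_⟩
        · rw [map_mul, (C.proj_ker _).2 (show ((⟨q, C.pack.mem_centralizer_z hq⟩ : ↥C.M) : G) ∈ C.Q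
            from hq), one_mul, C.proj_rep]
        · show q * C.rep y * x * (q * C.rep y)⁻¹ = x
          have h' : C.rep y * x * (C.rep y)⁻¹ = C.z * x := by
            calc C.rep y * x * (C.rep y)⁻¹ = C.z * (C.z * (C.rep y * x * (C.rep y)⁻¹)) := by
                  rw [← mul_assoc C.z C.z, C.pack.z_mul_z, one_mul]
              _ = C.z * x := by rw [← h]
          calc q * C.rep y * x * (q * C.rep y)⁻¹ = q * (C.rep y * x * (C.rep y)⁻¹) * q⁻¹ := by group
            _ = q * C.z * q⁻¹ * (q * x * q⁻¹) := by rw [h']; group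
            _ = C.z * (C.z * x) := by
              rw [C.conj_z (C.pack.mem_centralizer_z hq), C.pack.conj_of_not_commute hq hx hqx]
            _ = x := by rw [← mul_assoc, C.pack.z_mul_z, one_mul]
    refine C.mem_imgX.2 ⟨k * m * k⁻¹, ?_, ?_⟩
    · exact P.conj_mem_right (mul_inv_eq_iff_eq_mul.1 hkx) hm
    · rw [map_mul, map_mul, map_inv, hk, e]
      rfl
  · intro a ha u hu
    obtain ⟨m, hm, e⟩ := C.mem_imgX.1 ha
    obtain ⟨q, hq, rfl⟩ := C.bar_surj u
    change C.form (C.bar q) (C.bar x) = 0 at hu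
    rw [C.form_bar hq hx] at hu
    have hqx : q * x = x * q := by
      by_contra hn
      rw [if_neg hn] at hu
      exact one_ne_zero hu
    have hmq := C.norm_Q m.2 hq
    refine ⟨(m : G) * q * (m : G)⁻¹ * q⁻¹, ⟨C.Q.mul_mem hmq (C.Q.inv_mem hq), ?_⟩, ?_⟩
    · rw [show (m : G) * q * (m : G)⁻¹ * q⁻¹ = m * (q * (m : G)⁻¹ * q⁻¹) by group]
      exact T.mul_mem hm (P.conj_mem_right hqx (T.inv_mem hm))
    · rw [C.bar_mul hmq (inv_mem hq), C.bar_inv hq, ← C.smul_bar e hq, add_comm]
  · rintro a ha _ ⟨d, hd, rfl⟩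
    obtain ⟨m, hm, e⟩ := C.mem_imgX.1 ha
    have hmd := C.norm_Q m.2 hd.1
    rw [C.smul_bar e hd.1, add_comm, ← C.bar_inv hd.1, ← C.bar_mul hmd (inv_mem hd.1)]
    rcases P.right.comm_cases hm hd.2 with h | h <;> rw [h]
    · exact Or.inl C.bar_one
    · exact Or.inr rfl
  · intro K hKA hKW
    set K' : Subgroup ↥(T ⊓ centralizer ({C.z} : Set G)) :=
      (K.comap (C.proj.rangeRestrict.comp (Subgroup.inclusion inf_le_right))) with hK'
    have hKD : ∀ k : ↥(T ⊓ centralizer ({C.z} : Set G)), k ∈ K' → ∀ d ∈ C.Q ⊓ T,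
        (k : G) * d = d * k := by
      intro k hk d hd
      set m : ↥C.M := Subgroup.inclusion inf_le_right k
      have hmd := C.norm_Q m.2 hd.1
      have h1 := hKW _ hk (C.bar d) ⟨d, hd, rfl⟩
      rw [C.smul_bar (m := m) rfl hd.1, C.bar_eq_iff hmd hd.1] at h1
      apply mul_inv_eq_iff_eq_mul.1
      rcases h1 with h1 | h1
      · exact h1.symm
      rcases P.right.comm_cases k.2.1 hd.2 with h2 | h2
      · exact mul_inv_eq_one.1 h2
      · exfalso
        apply hne
        have h1' : d = C.z * ((k : G) * d * (k : G)⁻¹) := h1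
        calc x = (k : G) * d * (k : G)⁻¹ * d⁻¹ := h2.symm
          _ = C.z * (C.z * ((k : G) * d * (k : G)⁻¹)) * d⁻¹ := by
            rw [← mul_assoc C.z C.z, C.pack.z_mul_z, one_mul]
          _ = C.z := by rw [← h1', mul_inv_cancel_right]
    have hK'card : Nat.card ↥K' = Nat.card ↥K * Nat.card ↥(C.Q ⊓ T) := by
      let f := (C.proj.rangeRestrict.comp
        (Subgroup.inclusion (inf_le_right : T ⊓ centralizer ({C.z} : Set G) ≤ C.M))).comp K'.subtype
      have hr : f.range = K := by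
        ext a
        constructor
        · rintro ⟨k, rfl⟩
          exact k.2
        · intro ha
          obtain ⟨m, hm, e⟩ := C.mem_imgX.1 (hKA ha)
          have em : C.proj.rangeRestrict m = a := Subtype.ext e
          exact ⟨⟨⟨m, hm, m.2⟩, by rw [hK', mem_comap]; exact em.symm ▸ ha⟩, em⟩
      have hk : Nat.card ↥f.ker = Nat.card ↥(C.Q ⊓ T) :=
        Nat.card_congr
          { toFun := fun d => ⟨((d : ↥K') : ↥(T ⊓ centralizer ({C.z} : Set G))), (C.proj_ker _).1
              (congrArg Subtype.val (MonoidHom.mem_ker.1 d.2)),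
              ((d : ↥K') : ↥(T ⊓ centralizer ({C.z} : Set G))).2.1⟩
            invFun := fun d => ⟨⟨⟨d, d.2.2, C.pack.mem_centralizer_z d.2.1⟩, by
              rw [hK', mem_comap]
              convert K.one_mem
              exact Subtype.ext ((C.proj_ker _).2 d.2.1)⟩,
              MonoidHom.mem_ker.2 (Subtype.ext ((C.proj_ker _).2 d.2.1))⟩
            left_inv := fun d => rfl
            right_inv := fun d => rfl }
      rw [card_eq_card_quotient_mul_card_subgroup f.ker, hk,
        Nat.card_congr (QuotientGroup.quotientKerEquivRange f).toEquiv, hr]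
    -- move `K'` back into `Q`
    have hyQ : ∀ y ∈ T, g⁻¹ * y * g ∈ C.Q := by
      rintro _ ⟨k, hk, rfl⟩
      show g⁻¹ * (g * k * g⁻¹) * g ∈ C.Q
      rwa [show g⁻¹ * (g * k * g⁻¹) * g = k by group]
    let conjInv : G →* G := (MulAut.conj g⁻¹).toMonoidHom
    have hcinv : ∀ y, conjInv y = g⁻¹ * y * g := fun y => by simp [conjInv]
    set Kb : AddSubgroup C.Vec := C.img ((K'.map (T ⊓ centralizer ({C.z} : Set G)).subtype).map conjInv)
      with hKb
    set Db : AddSubgroup C.Vec := C.img ((C.Q ⊓ T).map conjInv) with hDb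
    have hperp : ∀ u ∈ Kb, ∀ w ∈ Db, C.form u w = 0 := by
      rintro _ ⟨a, ⟨haQ, _, ⟨k, hk, rfl⟩, rfl⟩, rfl⟩ _ ⟨b, ⟨hbQ, d, hd, rfl⟩, rfl⟩
      rw [C.form_bar haQ hbQ, if_pos]
      rw [← map_mul, ← map_mul]
      exact congrArg conjInv (hKD k hk d hd)
    have hsymm : ∀ u w, C.form u w = C.form w u := fun u w => by
      obtain ⟨a, ha, rfl⟩ := C.bar_surj u
      obtain ⟨b, hb, rfl⟩ := C.bar_surj w
      rw [C.form_bar ha hb, C.form_bar hb ha]
      exact if_congr eq_comm rfl rfl
    have hle := card_perp_mul_le C.two C.form C.form_add hsymm C.form_nondeg Db Kb hperp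
    rw [C.card_vec] at hle
    have himg : ∀ (H : Subgroup G), H ≤ T → Nat.card ↥H ≤ 2 * Nat.card ↥(C.img (H.map conjInv)) := by
      intro H hH
      let ι : ↥H → Bool × ↥(C.img (H.map conjInv)) := fun y =>
        (decide (conjInv (y : G) = C.lift (C.bar (conjInv (y : G)))),
          ⟨C.bar (conjInv (y : G)),
            ⟨conjInv (y : G), ⟨by rw [hcinv]; exact hyQ _ (hH y.2), (y : G), y.2, rfl⟩, rfl⟩⟩)
      have hι : Function.Injective ι := by
        intro a b hab
        simp only [ι, Prod.mk.injEq, Subtype.mk.injEq, decide_eq_decide] at hab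
        obtain ⟨h1, h2'⟩ := hab
        have h2 : C.bar (conjInv (a : G)) = C.bar (conjInv (b : G)) := congrArg Subtype.val h2' 
        have ha := hyQ _ (hH a.2)
        have hb := hyQ _ (hH b.2)
        rw [← hcinv] at ha hb
        apply Subtype.ext
        apply MulEquiv.injective (MulAut.conj g⁻¹)
        show conjInv a = conjInv b
        have hl := (C.bar_eq_iff ha (C.lift_mem _)).1 (C.bar_lift (C.bar (conjInv a))).symm
        rcases (C.bar_eq_iff ha hb).1 h2 with e | e
        · exact e.symm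
        exfalso
        have hzne : ∀ c : G, C.z * c ≠ c := fun c e' => C.pack.z_ne (mul_eq_right.1 e')
        rcases hl with e' | e'
        · have := h1.1 e'.symm
          rw [← h2, e', e] at this
          exact hzne _ this
        · have := h1.2 (by rw [← h2, e', e])
          rw [e'] at this
          exact hzne _ this.symm
      have h := Nat.card_le_card_of_injective ι hι
      rwa [Nat.card_prod, Nat.card_eq_fintype_card (α := Bool), Fintype.card_bool] at h
    have h1 := himg (K'.map (T ⊓ centralizer ({C.z} : Set G)).subtype)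
      (fun y hy => by obtain ⟨k, -, rfl⟩ := hy; exact k.2.1)
    rw [card_map_of_injective (Subgroup.subtype_injective _), hK'card, ← hKb] at h1
    have h2 := himg (C.Q ⊓ T) inf_le_right
    rw [← hDb] at h2
    have h3 := Nat.mul_le_mul h1 h2
    have hcimg := C.card_img hx hne
    rw [← hT] at hcimg
    rw [← hcimg] at h3
    nlinarith

end Cfg

end CfsgLib.Recog.SThreeASix
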