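import Cfsg.Agent.Lib.Recog.SThreeASix.Basic

/-!
First facts on the data left by a conjugate of the central involution.
-/

set_option autoImplicit false
set_option linter.unusedSectionVars false
set_option linter.style.haveILetI false

namespace CfsgLib.Recog.SThreeASix

universe u v

variable {V : Type u} [AddCommGroup V] {X : Type v} [Group X] [DistribMulAction X V]

/-- The pointwise stabiliser of a subset. -/
def ptFix (N : Set V) : Subgroup X where
  carrier := {x | ∀ w ∈ N, x • w = w}
  one_mem' := fun w _ => one_smul X w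
  mul_mem' := fun {a b} ha hb w hw => by rw [mul_smul, hb w hw, ha w hw]
  inv_mem' := fun {a} ha w hw => by conv_lhs => rw [← ha w hw, inv_smul_smul]

@[simp] theorem mem_ptFix {N : Set V} {x : X} : x ∈ ptFix N ↔ ∀ w ∈ N, x • w = w := Iff.rfl

namespace Piece

variable {S : Shape V X} {v₀ : V} {W : AddSubgroup V} {A : Subgroup X} (P : Piece S v₀ W A)
include P

theorem finite_A : Finite ↥A := by
  have h := P.card
  exact Nat.finite_of_card_ne_zero fun e => by simp [e] at h

theorem W_sq_le : Nat.card W * Nat.card W ≤ 256 := by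
  simpa using P.ker ⊥ bot_le fun a ha w _ => by rw [Subgroup.mem_bot.1 ha, one_smul]

theorem W_le : Nat.card W ≤ 16 := by
  by_contra h
  have := Nat.mul_le_mul (Nat.lt_of_not_le h) (Nat.lt_of_not_le h)
  have := P.W_sq_le
  simp at *
  omega

theorem ker_le (K : Subgroup X) (hK : K ≤ A) (h : K ≤ ptFix (W : Set V)) :
    Nat.card K * (Nat.card W * Nat.card W) ≤ 256 := P.ker K hK h

theorem eight_le : 8 ≤ Nat.card A := by
  have h := P.card
  have := P.W_le
  by_contra hlt
  have : Nat.card A * Nat.card W ≤ 7 * 16 := Nat.mul_le_mul (by omega) this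
  omega

theorem elem_comap : Nat.card (A.comap S.i) ≤ 4 :=
  a6_elem_le (fun a ha a' ha' => S.i_inj (by simp only [map_mul]; exact P.comm _ ha _ ha'))
    (fun a ha => S.i_inj (by rw [map_mul, map_one]; exact P.sq _ ha))

theorem card_le_four_mul : Nat.card A ≤ 4 * Nat.card (A.comap S.i) := by
  haveI := P.finite_A
  let σ : A →* ℤˣ × ℤˣ :=
    ((Equiv.Perm.sign.comp S.s).comp A.subtype).prod ((Equiv.Perm.sign.comp S.p).comp A.subtype)
  have h1 := σ.ker.card_mul_index
  rw [Subgroup.index_ker] at h1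
  have h2 : Nat.card σ.range ≤ 4 :=
    (Subgroup.card_le_card_group _).trans (le_of_eq (by simp [Nat.card_eq_fintype_card]))
  have hs : ∀ a : A, a ∈ σ.ker → ∃ g, (a : X) = S.i g := by
    intro a ha
    have ha' := Prod.ext_iff.1 (MonoidHom.mem_ker.1 ha)
    have h1 : Equiv.Perm.sign (S.s (a : X)) = 1 := ha'.1
    refine S.eq_i ?_ ha'.2
    rcases p3_cases (S.s (a : X)) with ⟨h3, -⟩ | ⟨-, -, h⟩
    · have h2 : S.s (a : X) ^ 2 = 1 := by rw [← map_pow, pow_two, P.sq _ a.2, map_one]
      calc S.s (a : X) = S.s (a : X) ^ 3 * (S.s (a : X) ^ 2)⁻¹ := by group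
        _ = 1 := by rw [h3, h2]; simp
    · exact absurd h1 h
  choose g hg using hs
  have h3 : Nat.card σ.ker ≤ Nat.card (A.comap S.i) :=
    Nat.card_le_card_of_injective (fun a => ⟨g a.1 a.2, Subgroup.mem_comap.2 (hg a.1 a.2 ▸ a.1.2)⟩)
      (fun a b e => Subtype.ext (Subtype.ext (by
        rw [hg a.1 a.2, hg b.1 b.2]; exact congrArg S.i (congrArg Subtype.val e))))
  rw [← h1]
  calc Nat.card σ.ker * Nat.card σ.range ≤ Nat.card (A.comap S.i) * 4 := Nat.mul_le_mul h3 h2
    _ = _ := Nat.mul_comm _ _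

theorem comap_card_eq : Nat.card (A.comap S.i) = Nat.card ↥(A ⊓ S.i.range) := by
  rw [Nat.card_congr ((A.comap S.i).equivMapOfInjective S.i S.i_inj).toEquiv, Subgroup.map_comap_eq, inf_comm]

/-- Two involutions of `A` outside the second factor have the same first component. -/
theorem same_s {a a' : X} (ha : a ∈ A) (ha' : a' ∈ A) (h : S.s a ≠ 1) (h' : S.s a' ≠ 1) : S.s a = S.s a' :=
  p3_comm_invol _ _ (by rw [← map_mul, P.sq _ ha, map_one]) (by rw [← map_mul, P.sq _ ha', map_one])
    (by rw [← map_mul, ← map_mul, P.comm _ ha _ ha']) h h'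

/-- The image in `S₆` has order at most eight. -/
theorem map_p_le : Nat.card (A.map S.p) ≤ 8 :=
  p6_elem_le
    (fun a ha a' ha' => by
      obtain ⟨x, hx, rfl⟩ := Subgroup.mem_map.1 ha
      obtain ⟨y, hy, rfl⟩ := Subgroup.mem_map.1 ha'
      rw [← map_mul, ← map_mul, P.comm _ hx _ hy])
    (fun a ha => by
      obtain ⟨x, hx, rfl⟩ := Subgroup.mem_map.1 ha
      rw [← map_mul, P.sq _ hx, map_one])

/-- If `A` does not embed in `S₆` it contains a pure transposition. -/
theorem exists_pure_of_card (h : Nat.card (A.map S.p) < Nat.card A) :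
    ∃ r : P3, r * r = 1 ∧ r ≠ 1 ∧ S.j r ∈ A := by
  haveI := P.finite_A
  let π : A →* P6 := S.p.comp A.subtype
  have hr : π.range = A.map S.p := by rw [MonoidHom.range_comp, Subgroup.range_subtype]
  obtain ⟨⟨a, ha⟩, hak, ha1⟩ : ∃ a ∈ π.ker, a ≠ 1 := by
    by_contra hno
    push Not at hno
    have h1 := π.ker.card_mul_index
    rw [Subgroup.index_ker, hr, (Subgroup.eq_bot_iff_forall _).2 hno, Subgroup.card_bot, one_mul] at h1
    omega
  have he := S.eq_j (show S.p a = 1 from hak)
  refine ⟨S.s a, by rw [← map_mul, P.sq _ ha, map_one], fun e => ha1 (Subtype.ext ?_), he ▸ ha⟩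
  rw [e, map_one] at he
  exact he

/-- The alternating group does not fix the point. -/
theorem not_fixed (hne : A.comap S.i ≠ ⊥) : ¬ ∀ g : A6, S.i g • v₀ = v₀ := by
  intro h
  have hn : (A.comap S.i).Normal := ⟨fun n hn g => by
    show S.i (g * n * g⁻¹) ∈ A
    rw [map_mul, map_mul, map_inv]
    exact P.norm _ (h g) _ hn⟩
  obtain ⟨g, hg, hg1⟩ : ∃ g ∈ A.comap S.i, g ≠ 1 := by
    by_contra hno
    push Not at hno
    exact hne ((Subgroup.eq_bot_iff_forall _).2 hno)
  exact a6_not_comm _ (fun a ha => S.i_inj (by rw [map_mul, map_one]; exact P.sq _ ha))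
    (a6_eq_top hn hg hg1)

end Piece

end CfsgLib.Recog.SThreeASix
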