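import Cfsg.Agent.Lib.Recog.SThreeASix.Defs
import Cfsg.Agent.Lib.PLocal.LargeExtraConj

/-!
The configuration and the orthogonal space `Q/⟨z⟩` with the action of `C(z)/Q`.
-/

set_option autoImplicit false

namespace CfsgLib.Recog.SThreeASix

open Subgroup
open CfsgLib.PLocal.LargeExtra (Pack)

universe u

attribute [local instance] Classical.propDecidable

/-- The configuration. -/
structure Cfg (G : Type u) [Group G] [Finite G] where
  /-- The involution. -/
  z : G
  /-- Its extraspecial radical. -/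
  Q : Subgroup G
  pack : Pack Q z
  card : Nat.card ↥Q = 2 ^ 9
  /-- The quotient map. -/
  proj : ↥(centralizer ({z} : Set G)) →* P3 × P6
  proj_ker : ∀ m, proj m = 1 ↔ (m : G) ∈ Q
  proj_top : ∀ (a : P3) (g : A6), ∃ m, proj m = (a, (g : P6))

variable {G : Type u} [Group G] [Finite G] (C : Cfg G)

namespace Cfg

/-- The centraliser. -/
abbrev M : Subgroup G := centralizer ({C.z} : Set G)

/-- The quotient group. -/
abbrev X := ↥C.proj.range

/-- The space `Q/⟨z⟩`. -/
def Vec : Type u := Additive (↥C.Q ⧸ center ↥C.Q)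

instance : AddCommGroup C.Vec :=
  { (inferInstance : AddGroup (Additive (↥C.Q ⧸ center ↥C.Q))) with
    add_comm := fun a b => by
      refine Additive.toMul.injective ?_
      show Additive.toMul a * Additive.toMul b = Additive.toMul b * Additive.toMul a
      obtain ⟨x, hx⟩ := QuotientGroup.mk_surjective (Additive.toMul a)
      obtain ⟨y, hy⟩ := QuotientGroup.mk_surjective (Additive.toMul b)
      rw [← hx, ← hy, ← QuotientGroup.mk_mul, ← QuotientGroup.mk_mul, QuotientGroup.eq]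
      exact mem_center_iff.2 fun c => by
        have h : (x * y)⁻¹ * (y * x) ∈ center ↥C.Q := by
          rw [show (x * y)⁻¹ * (y * x) = y⁻¹ * x⁻¹ * y * x by group]
          have := CfsgLib.Transfer.special_commutatorElement_mem_center C.pack.ext.1 y⁻¹ x⁻¹
          rwa [commutatorElement_def, inv_inv, inv_inv] at this
        exact mem_center_iff.1 h c }

instance : Finite C.Vec := inferInstanceAs (Finite (↥C.Q ⧸ center ↥C.Q))

/-- The class of an element of `Q`. -/
def ofQ (a : ↥C.Q) : C.Vec := Additive.ofMul (QuotientGroup.mk a)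

theorem ofQ_mul (a b : ↥C.Q) : C.ofQ (a * b) = C.ofQ a + C.ofQ b := rfl

theorem ofQ_one : C.ofQ 1 = 0 := rfl

/-- The image of an element of `Q` in the space. -/
noncomputable def bar (a : G) : C.Vec :=
  if h : a ∈ C.Q then C.ofQ ⟨a, h⟩ else 0

theorem bar_of_mem {a : G} (h : a ∈ C.Q) : C.bar a = C.ofQ ⟨a, h⟩ := dif_pos h

theorem zc {a : G} (ha : a ∈ C.Q) : a * C.z = C.z * a := C.pack.comm_z ha

theorem z_mem : C.z ∈ C.Q := C.pack.mem

theorem mul_cases {a b : G} (ha : a ∈ C.Q) (hb : b ∈ C.Q) :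
    a * b = b * a ∨ a * b = C.z * (b * a) := by
  rcases C.pack.conj_cases ha hb with e | e
  · exact Or.inl (mul_inv_eq_iff_eq_mul.1 e)
  · exact Or.inr ((mul_inv_eq_iff_eq_mul.1 e).trans (mul_assoc _ _ _))

theorem bar_mul {a b : G} (ha : a ∈ C.Q) (hb : b ∈ C.Q) : C.bar (a * b) = C.bar a + C.bar b := by
  rw [C.bar_of_mem ha, C.bar_of_mem hb, C.bar_of_mem (mul_mem ha hb), ← C.ofQ_mul]
  rfl

theorem bar_surj (w : C.Vec) : ∃ a ∈ C.Q, C.bar a = w := by
  obtain ⟨⟨a, ha⟩, hx⟩ := QuotientGroup.mk_surjective (Additive.toMul w)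
  refine ⟨a, ha, ?_⟩
  rw [C.bar_of_mem ha]
  exact congrArg Additive.ofMul hx

theorem bar_eq_iff {a b : G} (ha : a ∈ C.Q) (hb : b ∈ C.Q) :
    C.bar a = C.bar b ↔ b = a ∨ b = C.z * a := by
  rw [C.bar_of_mem ha, C.bar_of_mem hb]
  constructor
  · intro h
    have h' : (QuotientGroup.mk (⟨a, ha⟩ : ↥C.Q) : ↥C.Q ⧸ center ↥C.Q) = QuotientGroup.mk ⟨b, hb⟩ :=
      Additive.ofMul.injective h
    rw [QuotientGroup.eq] at h'
    rcases C.pack.of_center h' with e | e
    · exact Or.inl (inv_mul_eq_one.1 e).symm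
    · right
      rw [← C.zc ha]
      exact inv_mul_eq_iff_eq_mul.1 e
  · intro h
    refine congrArg Additive.ofMul (QuotientGroup.eq.2 ?_)
    have hz : (⟨C.z, C.z_mem⟩ : ↥C.Q) ∈ center ↥C.Q :=
      mem_center_iff.2 fun c => Subtype.ext (C.zc c.2)
    rcases h with h | h
    · subst h
      rw [inv_mul_cancel]; exact one_mem _
    · rw [show (⟨a, ha⟩ : ↥C.Q)⁻¹ * ⟨b, hb⟩ = ⟨C.z, C.z_mem⟩ from Subtype.ext (by
        show a⁻¹ * b = C.z
        rw [h, ← C.zc ha, inv_mul_cancel_left])]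
      exact hz

theorem bar_one : C.bar (1 : G) = 0 := by
  exact C.bar_of_mem (one_mem C.Q)

theorem bar_z : C.bar C.z = 0 := by
  rw [← C.bar_one]
  exact (C.bar_eq_iff C.z_mem (one_mem _)).2 (Or.inr C.pack.z_mul_z.symm)

theorem bar_eq_zero_iff {a : G} (ha : a ∈ C.Q) : C.bar a = 0 ↔ a = 1 ∨ a = C.z := by
  rw [← C.bar_one, C.bar_eq_iff ha (one_mem _)]
  refine or_congr ⟨fun e => e.symm, fun e => e.symm⟩
    ⟨fun e => ?_, fun e => by rw [e, C.pack.z_mul_z]⟩
  have : a = C.z⁻¹ := eq_inv_of_mul_eq_one_right e.symm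
  rw [this, C.pack.z_inv]

theorem two (w : C.Vec) : w + w = 0 := by
  obtain ⟨a, ha, rfl⟩ := C.bar_surj w
  rw [← C.bar_mul ha ha, C.bar_eq_zero_iff (mul_mem ha ha)]
  exact C.pack.sq_cases ha

theorem bar_inv {a : G} (ha : a ∈ C.Q) : C.bar a⁻¹ = C.bar a := by
  have h : C.bar a⁻¹ + C.bar a = 0 := by rw [← C.bar_mul (inv_mem ha) ha, inv_mul_cancel, bar_one]
  calc C.bar a⁻¹ = C.bar a⁻¹ + (C.bar a + C.bar a) := by rw [C.two, add_zero]
    _ = C.bar a := by rw [← add_assoc, h, zero_add]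

theorem card_vec : Nat.card C.Vec = 256 := by
  show Nat.card (↥C.Q ⧸ center ↥C.Q) = 256
  have h := card_eq_card_quotient_mul_card_subgroup (center ↥C.Q)
  rw [C.card, C.pack.ext.2] at h
  omega

theorem norm_Q {m a : G} (hm : m ∈ C.M) (ha : a ∈ C.Q) : m * a * m⁻¹ ∈ C.Q :=
  (mem_normalizer_iff.1 (C.pack.norm hm) a).1 ha

theorem conj_z {m : G} (hm : m ∈ C.M) : m * C.z * m⁻¹ = C.z := by
  rw [mem_centralizer_singleton_iff.1 hm, mul_inv_cancel_right]

/-- A lift of a vector. -/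
noncomputable def lift (w : C.Vec) : G := (C.bar_surj w).choose

theorem lift_mem (w : C.Vec) : C.lift w ∈ C.Q := (C.bar_surj w).choose_spec.1

theorem bar_lift (w : C.Vec) : C.bar (C.lift w) = w := (C.bar_surj w).choose_spec.2

theorem bar_conj_congr {m m' a a' : G} (hm : m ∈ C.M) (hm' : m' ∈ C.M)
    (hmm : m⁻¹ * m' ∈ C.Q) (ha : a ∈ C.Q) (ha' : a' ∈ C.Q) (h : C.bar a = C.bar a') :
    C.bar (m' * a' * m'⁻¹) = C.bar (m * a * m⁻¹) := by
  have key : ∀ k : G, (k = a ∨ k = C.z * a) → C.bar (m * k * m⁻¹) = C.bar (m * a * m⁻¹) := by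
    rintro k (rfl | rfl)
    · rfl
    · rw [show m * (C.z * a) * m⁻¹ = m * C.z * m⁻¹ * (m * a * m⁻¹) by group, C.conj_z hm,
        C.bar_mul C.z_mem (C.norm_Q hm ha), C.bar_z, zero_add]
  have hk : m' * a' * m'⁻¹ = m * (m⁻¹ * m' * a' * (m⁻¹ * m')⁻¹) * m⁻¹ := by group
  rw [hk]
  refine key _ ?_
  rcases (C.bar_eq_iff ha ha').1 h with e | e <;>
    rcases C.pack.conj_cases hmm ha' with e' | e' <;> rw [e'] <;> rw [e]
  · exact Or.inl rfl
  · exact Or.inr rfl
  · exact Or.inr rfl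
  · exact Or.inl (by rw [← mul_assoc, C.pack.z_mul_z, one_mul])

/-- A lift of an element of the quotient. -/
noncomputable def rep (x : C.X) : G := ((MonoidHom.mem_range.1 x.2).choose : ↥C.M)

theorem rep_mem (x : C.X) : C.rep x ∈ C.M := ((MonoidHom.mem_range.1 x.2).choose : ↥C.M).2

theorem proj_rep (x : C.X) : C.proj ⟨C.rep x, C.rep_mem x⟩ = x :=
  (MonoidHom.mem_range.1 x.2).choose_spec

noncomputable instance : SMul C.X C.Vec :=
  ⟨fun x w => C.bar (C.rep x * C.lift w * (C.rep x)⁻¹)⟩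

theorem smul_bar {x : C.X} {m : ↥C.M} (hm : C.proj m = x) {a : G} (ha : a ∈ C.Q) :
    x • C.bar a = C.bar ((m : G) * a * (m : G)⁻¹) := by
  show C.bar (C.rep x * C.lift (C.bar a) * (C.rep x)⁻¹) = _
  refine C.bar_conj_congr m.2 (C.rep_mem x) ?_ ha (C.lift_mem _) (C.bar_lift _).symm
  refine (C.proj_ker (m⁻¹ * ⟨C.rep x, C.rep_mem x⟩)).1 ?_
  rw [map_mul, map_inv, hm, C.proj_rep, inv_mul_cancel]

noncomputable instance : DistribMulAction C.X C.Vec where
  one_smul w := by
    obtain ⟨a, ha, rfl⟩ := C.bar_surj w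
    rw [C.smul_bar (m := 1) (map_one _) ha]
    simp
  mul_smul x y w := by
    obtain ⟨a, ha, rfl⟩ := C.bar_surj w
    have hy := C.rep_mem y
    rw [C.smul_bar (m := ⟨C.rep y, hy⟩) (C.proj_rep y) ha,
      C.smul_bar (m := ⟨C.rep x, C.rep_mem x⟩) (C.proj_rep x) (C.norm_Q hy ha),
      C.smul_bar (m := ⟨C.rep x, C.rep_mem x⟩ * ⟨C.rep y, hy⟩) (by
        rw [map_mul, C.proj_rep, C.proj_rep]; rfl) ha]
    simp [mul_assoc]
  smul_zero x := by
    rw [← C.bar_one, C.smul_bar (m := ⟨C.rep x, C.rep_mem x⟩) (C.proj_rep x) (one_mem _)]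
    simp
  smul_add x v w := by
    obtain ⟨a, ha, rfl⟩ := C.bar_surj v
    obtain ⟨b, hb, rfl⟩ := C.bar_surj w
    have hx := C.rep_mem x
    rw [← C.bar_mul ha hb, C.smul_bar (m := ⟨C.rep x, hx⟩) (C.proj_rep x) ha,
      C.smul_bar (m := ⟨C.rep x, hx⟩) (C.proj_rep x) hb,
      C.smul_bar (m := ⟨C.rep x, hx⟩) (C.proj_rep x) (mul_mem ha hb),
      ← C.bar_mul (C.norm_Q hx ha) (C.norm_Q hx hb)]
    congr 1
    group

/-- The polar form. -/
noncomputable def form (v w : C.Vec) : ZMod 2 :=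
  if C.lift v * C.lift w = C.lift w * C.lift v then 0 else 1

theorem form_bar {a b : G} (ha : a ∈ C.Q) (hb : b ∈ C.Q) :
    C.form (C.bar a) (C.bar b) = if a * b = b * a then 0 else 1 := by
  classical
  have key : ∀ {c c' d : G}, c ∈ C.Q → d ∈ C.Q → (c' = c ∨ c' = C.z * c) →
      (c' * d = d * c' ↔ c * d = d * c) := by
    intro c c' d hc hd h
    rcases h with h | h
    · rw [h]
    · rw [h, mul_assoc, ← mul_assoc d, C.zc hd, mul_assoc C.z d c]
      exact mul_left_cancel_iff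
  have h1 := (C.bar_eq_iff ha (C.lift_mem _)).1 (C.bar_lift (C.bar a)).symm
  have h2 := (C.bar_eq_iff hb (C.lift_mem _)).1 (C.bar_lift (C.bar b)).symm
  unfold form
  refine if_congr ?_ rfl rfl
  rw [key ha (C.lift_mem _) h1, eq_comm, key hb ha h2, eq_comm]

/-- The quadratic form. -/
noncomputable def quad (v : C.Vec) : ZMod 2 :=
  if C.lift v * C.lift v = 1 then 0 else 1

theorem quad_bar {a : G} (ha : a ∈ C.Q) : C.quad (C.bar a) = if a * a = 1 then 0 else 1 := by
  classical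
  unfold quad
  refine if_congr ?_ rfl rfl
  rcases (C.bar_eq_iff ha (C.lift_mem _)).1 (C.bar_lift (C.bar a)).symm with h | h
  · rw [h]
  · rw [h, mul_assoc, ← mul_assoc a, C.zc ha, mul_assoc C.z a a, ← mul_assoc C.z C.z,
      C.pack.z_mul_z, one_mul]

theorem form_smul (x : C.X) {a b : G} (ha : a ∈ C.Q) (hb : b ∈ C.Q) :
    C.form (x • C.bar a) (x • C.bar b) = C.form (C.bar a) (C.bar b) := by
  classical
  have hx := C.rep_mem x
  rw [C.smul_bar (m := ⟨C.rep x, hx⟩) (C.proj_rep x) ha,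
    C.smul_bar (m := ⟨C.rep x, hx⟩) (C.proj_rep x) hb, C.form_bar (C.norm_Q hx ha) (C.norm_Q hx hb),
    C.form_bar ha hb]
  refine if_congr ?_ rfl rfl
  show C.rep x * a * (C.rep x)⁻¹ * (C.rep x * b * (C.rep x)⁻¹) =
    C.rep x * b * (C.rep x)⁻¹ * (C.rep x * a * (C.rep x)⁻¹) ↔ _
  constructor
  · intro h
    calc a * b = (C.rep x)⁻¹ * (C.rep x * a * (C.rep x)⁻¹ * (C.rep x * b * (C.rep x)⁻¹)) * C.rep x := by
          group
      _ = (C.rep x)⁻¹ * (C.rep x * b * (C.rep x)⁻¹ * (C.rep x * a * (C.rep x)⁻¹)) * C.rep x := by rw [h]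
      _ = b * a := by group
  · intro h
    calc C.rep x * a * (C.rep x)⁻¹ * (C.rep x * b * (C.rep x)⁻¹) = C.rep x * (a * b) * (C.rep x)⁻¹ := by
          group
      _ = C.rep x * (b * a) * (C.rep x)⁻¹ := by rw [h]
      _ = _ := by group

theorem quad_add (v w : C.Vec) : C.quad (v + w) = C.quad v + C.quad w + C.form v w := by
  classical
  obtain ⟨a, ha, rfl⟩ := C.bar_surj v
  obtain ⟨b, hb, rfl⟩ := C.bar_surj w
  rw [← C.bar_mul ha hb, C.quad_bar (mul_mem ha hb), C.quad_bar ha, C.quad_bar hb, C.form_bar ha hb]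
  have hz := C.pack.z_ne
  have hzz := C.pack.z_mul_z
  have e : a * b * (a * b) = if a * b = b * a then a * a * (b * b) else C.z * (a * a * (b * b)) := by
    split_ifs with h
    · calc a * b * (a * b) = a * (b * a) * b := by group
        _ = a * (a * b) * b := by rw [h]
        _ = a * a * (b * b) := by group
    · rcases C.mul_cases hb ha with e | e
      · exact absurd e.symm h
      · calc a * b * (a * b) = a * (b * a) * b := by group
          _ = a * (C.z * (a * b)) * b := by rw [e]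
          _ = (a * C.z) * (a * b) * b := by group
          _ = (C.z * a) * (a * b) * b := by rw [C.zc ha]
          _ = C.z * (a * a * (b * b)) := by group
  rw [e]
  rcases C.pack.sq_cases ha with ea | ea <;> rcases C.pack.sq_cases hb with eb | eb <;>
    by_cases h : a * b = b * a <;> simp [ea, eb, h, hz, hzz] <;> decide

theorem form_add (u u' w : C.Vec) : C.form (u + u') w = C.form u w + C.form u' w := by
  classical
  obtain ⟨a, ha, rfl⟩ := C.bar_surj u
  obtain ⟨a', ha', rfl⟩ := C.bar_surj u'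
  obtain ⟨b, hb, rfl⟩ := C.bar_surj w
  rw [← C.bar_mul ha ha', C.form_bar (mul_mem ha ha') hb, C.form_bar ha hb, C.form_bar ha' hb]
  have hzero : (1 : ZMod 2) + 1 = 0 := by decide
  by_cases h : a * b = b * a <;> by_cases h' : a' * b = b * a'
  · rw [if_pos ((show Commute a b from h).mul_left h').eq, if_pos h, if_pos h', add_zero]
  · rw [if_neg fun e => h' (by simpa using ((show Commute a b from h).inv_left.mul_left
      (show Commute (a * a') b from e)).eq), if_pos h, if_neg h', zero_add]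
  · rw [if_neg fun e => h (by simpa using ((show Commute (a * a') b from e).mul_left
      (show Commute a' b from h').inv_left).eq), if_neg h, if_pos h', add_zero]
  · rw [if_pos (C.pack.mul_commute ha ha' hb h h'), if_neg h, if_neg h', hzero]

theorem form_nondeg (v : C.Vec) (h : ∀ w, C.form v w = 0) : v = 0 := by
  classical
  obtain ⟨a, ha, rfl⟩ := C.bar_surj v
  rw [C.bar_eq_zero_iff ha]
  refine C.pack.eq_of_central ha fun b hb => ?_
  have := h (C.bar b)
  rw [C.form_bar ha hb] at this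
  by_contra hn
  rw [if_neg hn] at this
  exact one_ne_zero this

theorem faithful (x : C.X) (h : ∀ w : C.Vec, x • w = w) : x = 1 := by
  have hm : C.rep x ∈ C.Q := by
    refine C.pack.mem_of_central_commutator (mem_centralizer_singleton_iff.1 (C.rep_mem x))
      fun q hq => ?_
    have h1 := h (C.bar q)
    rw [C.smul_bar (m := ⟨C.rep x, C.rep_mem x⟩) (C.proj_rep x) hq,
      C.bar_eq_iff (C.norm_Q (C.rep_mem x) hq) hq] at h1
    rcases h1 with e | e
    · exact Or.inl (mul_inv_eq_one.2 e.symm)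
    · right
      calc C.rep x * q * (C.rep x)⁻¹ * q⁻¹
          = C.z * (C.z * (C.rep x * q * (C.rep x)⁻¹)) * q⁻¹ := by
            rw [← mul_assoc C.z C.z, C.pack.z_mul_z, one_mul]
        _ = C.z * q * q⁻¹ := by rw [← e]
        _ = C.z := mul_inv_cancel_right _ _
  apply Subtype.ext
  rw [← C.proj_rep x]
  exact (C.proj_ker _).2 hm

theorem quad_smul (x : C.X) (w : C.Vec) : C.quad (x • w) = C.quad w := by
  classical
  obtain ⟨a, ha, rfl⟩ := C.bar_surj w
  have hx := C.rep_mem x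
  rw [C.smul_bar (m := ⟨C.rep x, hx⟩) (C.proj_rep x) ha, C.quad_bar (C.norm_Q hx ha), C.quad_bar ha]
  refine if_congr ?_ rfl rfl
  show C.rep x * a * (C.rep x)⁻¹ * (C.rep x * a * (C.rep x)⁻¹) = 1 ↔ _
  rw [show C.rep x * a * (C.rep x)⁻¹ * (C.rep x * a * (C.rep x)⁻¹) =
    C.rep x * (a * a) * (C.rep x)⁻¹ by group, conj_eq_one_iff]

theorem mem_range_of (a : P3) (g : A6) : (a, (g : P6)) ∈ C.proj.range := C.proj_top a g

/-- The shape of the configuration. -/
noncomputable def shape : Shape C.Vec C.X where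
  s := (MonoidHom.fst P3 P6).comp C.proj.range.subtype
  p := (MonoidHom.snd P3 P6).comp C.proj.range.subtype
  j := MonoidHom.mk' (fun a => ⟨(a, 1), C.mem_range_of a 1⟩) fun a b => Subtype.ext (by simp)
  i := MonoidHom.mk' (fun g => ⟨(1, (g : P6)), C.mem_range_of 1 g⟩) fun a b => Subtype.ext (by simp)
  s_j _ := rfl
  p_j _ := rfl
  s_i _ := rfl
  p_i _ := rfl
  inj _ h1 h2 := Subtype.ext (Prod.ext h1 h2)
  two := C.two
  card := C.card_vec
  faith := C.faithful
  b := C.form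
  q := C.quad
  q_add := C.quad_add
  b_add := C.form_add
  nondeg := C.form_nondeg
  q_smul := C.quad_smul

end Cfg

end CfsgLib.Recog.SThreeASix
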