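import Cfsg.Agent.Lib.Recog.SThreeASix.Defs
import Cfsg.Agent.Lib.InvChar.ExtraspecialTransfer
import Cfsg.Agent.Lib.PLocal.LargeExtraConj

/-!
Transfer in `2^{1+8}.(S₃ × A₆)` and `2^{1+8}.(S₃ × S₆)`: a conjugate of `z` outside `O₂(C(z))` has at least eight
conjugates under it, so every sign homomorphism of the quotient is seen in the pair of some conjugate
of `z` inside `O₂(C(z))`.
-/

set_option autoImplicit false

namespace CfsgLib.Recog.SThreeASix

open Subgroup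
open CfsgLib.InvChar.ExtraspecialTransfer (orb card_orb card_orb_cases phi_eq_zero)
open CfsgLib.PLocal.LargeExtra (Pack)

theorem dvd_two_of_card {A : Type*} [Group A] {n k : ℕ} (hA : Nat.card A ∣ n) (hk : Nat.card A ∣ 2 ^ k)
    (j : ℕ) (hn : Nat.gcd n (2 ^ k) ∣ 2 ^ j) : Nat.card A ∣ 2 ^ j :=
  (Nat.dvd_gcd hA hk).trans hn

/-- A 2-subgroup of order at least 32 of `S₃ × S₆` has two non-trivial central elements. -/
theorem two_group_center (T : Subgroup (P3 × P6)) {k : ℕ} (hT : Nat.card ↥T = 2 ^ k) (hk : 5 ≤ k) :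
    Nat.card ↥T = 32 ∧ ∃ a ∈ T, ∃ b ∈ T, a ≠ 1 ∧ b ≠ 1 ∧ a ≠ b ∧
      (∀ x ∈ T, a * x = x * a) ∧ (∀ x ∈ T, b * x = x * b) := by
  classical
  haveI : Fact (Nat.Prime 2) := ⟨Nat.prime_two⟩
  set T1 := T.map (MonoidHom.fst P3 P6)
  set T2 := T.map (MonoidHom.snd P3 P6)
  have hle : T ≤ T1.prod T2 := fun x hx => mem_prod.2 ⟨⟨x, hx, rfl⟩, ⟨x, hx, rfl⟩⟩
  have h1d : Nat.card ↥T1 ∣ 2 ^ k := hT ▸ card_map_dvd T _
  have h2d : Nat.card ↥T2 ∣ 2 ^ k := hT ▸ card_map_dvd T _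
  obtain ⟨a1, -, ha1⟩ := (Nat.dvd_prime_pow Nat.prime_two).1 h1d
  obtain ⟨a2, -, ha2⟩ := (Nat.dvd_prime_pow Nat.prime_two).1 h2d
  have h16 : a1 ≤ 1 := by
    have h : 2 ^ a1 ∣ 6 := ha1 ▸ by
      have := card_subgroup_dvd_card T1
      rwa [Nat.card_perm, Nat.card_fin, show Nat.factorial 3 = 6 from rfl] at this
    by_contra hn
    have := (pow_dvd_pow 2 (by omega : 2 ≤ a1)).trans h
    norm_num at this
  have h26 : a2 ≤ 4 := by
    have h : 2 ^ a2 ∣ 720 := ha2 ▸ by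
      have := card_subgroup_dvd_card T2
      rwa [Nat.card_perm, Nat.card_fin, show Nat.factorial 6 = 720 from rfl] at this
    by_contra hn
    have := (pow_dvd_pow 2 (by omega : 5 ≤ a2)).trans h
    norm_num at this
  have hp : Nat.card ↥(T1.prod T2) = 2 ^ (a1 + a2) := by
    rw [Nat.card_congr (prodEquiv T1 T2).toEquiv, Nat.card_prod, ha1, ha2, pow_add]
  have hk5 : k = 5 ∧ a1 = 1 ∧ a2 = 4 := by
    have h := card_le_of_le hle
    rw [hT, hp] at h
    have := (Nat.pow_le_pow_iff_right (by norm_num : 1 < 2)).1 h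
    omega
  obtain ⟨rfl, rfl, rfl⟩ := hk5
  have heq : T = T1.prod T2 := eq_of_le_of_card_ge hle (by rw [hT, hp])
  haveI : Nontrivial ↥T1 := Finite.one_lt_card_iff_nontrivial.1 (by rw [ha1]; norm_num)
  haveI : Nontrivial ↥T2 := Finite.one_lt_card_iff_nontrivial.1 (by rw [ha2]; norm_num)
  obtain ⟨⟨r, hr⟩, hr1⟩ := exists_ne (1 : ↥T1)
  have hr1' : r ≠ 1 := fun e => hr1 (Subtype.ext e)
  haveI := (IsPGroup.of_card ha2).center_nontrivial
  obtain ⟨⟨⟨w, hw⟩, hwc⟩, hw1⟩ := exists_ne (1 : ↥(center ↥T2))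
  have hw1' : w ≠ 1 := fun e => hw1 (Subtype.ext (Subtype.ext e))
  have hall : ∀ y ∈ T1, y = 1 ∨ y = r := by
    intro y hy
    by_contra hne
    push Not at hne
    have h3 : ({1, ⟨r, hr⟩, ⟨y, hy⟩} : Finset ↥T1).card = 3 :=
      Finset.card_eq_three.2 ⟨1, ⟨r, hr⟩, ⟨y, hy⟩, fun e => hr1' (congrArg Subtype.val e).symm,
        fun e => hne.1 (congrArg Subtype.val e).symm, fun e => hne.2 (congrArg Subtype.val e).symm, rfl⟩
    haveI := Fintype.ofFinite ↥T1
    have h4 := Finset.card_le_univ ({1, ⟨r, hr⟩, ⟨y, hy⟩} : Finset ↥T1)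
    rw [h3, ← Nat.card_eq_fintype_card, ha1] at h4
    omega
  refine ⟨by rw [hT]; norm_num, (r, 1), ?_, (1, w), ?_, ?_, ?_, ?_, ?_, ?_⟩
  · rw [heq]; exact mem_prod.2 ⟨hr, one_mem _⟩
  · rw [heq]; exact mem_prod.2 ⟨one_mem _, hw⟩
  · exact fun e => hr1' (congrArg Prod.fst e)
  · exact fun e => hw1' (congrArg Prod.snd e)
  · exact fun e => hr1' (congrArg Prod.fst e)
  · intro x hx
    rcases hall x.1 ⟨x, hx, rfl⟩ with e | e <;> exact Prod.ext (by simp [e]) (by simp)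
  · intro x hx
    exact Prod.ext (by simp)
      (congrArg Subtype.val (mem_center_iff.1 hwc ⟨x.2, ⟨x, hx, rfl⟩⟩)).symm

theorem three_cosets {A B : Type*} [Group A] [Finite A] [Group B] (f : A →* B) (Z : Subgroup A)
    (hle : f.ker ≤ Z) {a b : A} (ha : a ∈ Z) (hb : b ∈ Z) (ha1 : f a ≠ 1) (hb1 : f b ≠ 1)
    (hab : f a ≠ f b) : 3 * Nat.card ↥f.ker ≤ Nat.card ↥Z := by
  classical
  let c : Fin 3 → ↥Z := ![1, ⟨a, ha⟩, ⟨b, hb⟩]
  let ψ : Fin 3 × ↥f.ker → ↥Z := fun p => c p.1 * ⟨p.2.1, hle p.2.2⟩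
  have hc : Function.Injective fun i => f (c i : A) := by
    intro i j h
    fin_cases i <;> fin_cases j <;>
      first | rfl | (simp [c, ha1, hb1, hab, ha1.symm, hb1.symm, hab.symm] at h)
  have hψ : Function.Injective ψ := by
    rintro ⟨i, k⟩ ⟨i', k'⟩ h
    have hv : ((c i : A)) * (k : A) = (c i' : A) * (k' : A) := congrArg Subtype.val h
    have hi : i = i' := hc (by
      have := congrArg f hv
      rwa [map_mul, map_mul, MonoidHom.mem_ker.1 k.2, MonoidHom.mem_ker.1 k'.2, mul_one, mul_one] at this)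
    subst hi
    exact Prod.ext rfl (Subtype.ext (mul_left_cancel hv))
  have h := Nat.card_le_card_of_injective ψ hψ
  rwa [Nat.card_prod, Nat.card_fin] at h

variable {G : Type*} [Group G] [Finite G] {z : G} {Q : Subgroup G}

/-- A conjugate of `z` outside `Q` has more than four conjugates under `Q`. -/
theorem orbit_four_false (S : CfsgLib.InvChar.ExtraspecialTransfer.Setup z Q) (P : Pack Q z)
    (hQ : Nat.card ↥Q = 2 ^ 9) (π : ↥(centralizer ({z} : Set G)) →* P3 × P6)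
    (hπ : ∀ m, π m = 1 ↔ (m : G) ∈ Q) {g : G}
    (hu : g * z * g⁻¹ ∈ centralizer ({z} : Set G)) (huQ : g * z * g⁻¹ ∉ Q)
    (h4 : (orb (z := z) Q g).card = 4) : False := by
  classical
  haveI : Fact (Nat.Prime 2) := ⟨Nat.prime_two⟩
  set u := g * z * g⁻¹ with hudef
  set K : Subgroup G := Q ⊓ centralizer ({u} : Set G) with hKdef
  have hK128 : Nat.card ↥K = 128 := by
    have h := card_orb (z := z) Q g
    rw [h4, hQ] at h
    have h' : 4 * Nat.card ↥K = 2 ^ 9 := h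
    omega
  have hKQ : K ≤ Q := inf_le_left
  have hKu : ∀ k ∈ K, k * u = u * k := fun k hk => mem_centralizer_singleton_iff.1 (mem_inf.1 hk).2
  set Q' : Subgroup G := Q.map (MulAut.conj g).toMonoidHom
  have P' : Pack Q' u := P.map g
  have hzu : u * z = z * u := mem_centralizer_singleton_iff.1 hu
  have hzQ' : z ∉ Q' := by
    intro hmem
    apply huQ
    obtain ⟨a, ha, hae⟩ := hmem
    have hae' : g * a * g⁻¹ = z := hae
    have h1 : g⁻¹ * z * g⁻¹⁻¹ ∈ Q := by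
      rw [show g⁻¹ * z * g⁻¹⁻¹ = a by rw [← hae']; group]
      exact ha
    obtain ⟨b, hb, hbe⟩ := P.mem_conj h1
    have hbe' : g⁻¹ * b * g⁻¹⁻¹ = z := hbe
    rw [hudef, show g * z * g⁻¹ = b by rw [← hbe']; group]
    exact hb
  have hkz : ∀ k ∈ K, z * k = k * z := fun k hk => (P.comm_z (hKQ hk)).symm
  have hzK : z ∈ K := mem_inf.2 ⟨P.mem, mem_centralizer_singleton_iff.2 hzu.symm⟩
  have hkd : ∀ k ∈ K, ∀ d ∈ K, d ∈ Q' → k * d = d * k := by
    intro k hk d hd hdQ'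
    have h1 : k * d * k⁻¹ * d⁻¹ ∈ Q' := mul_mem
      ((mem_normalizer_iff.1 (P'.norm (mem_centralizer_singleton_iff.2 (hKu k hk))) d).1 hdQ')
      (inv_mem hdQ')
    rcases P.comm_cases (hKQ hk) (hKQ hd) with e | e
    · exact mul_inv_eq_iff_eq_mul.1 (mul_inv_eq_one.1 e)
    · rw [e] at h1
      exact absurd h1 hzQ'
  let e : ↥K →* ↥(centralizer ({z} : Set G)) := MonoidHom.mk'
    (fun k => ⟨g⁻¹ * k * g, mem_centralizer_singleton_iff.2 (by
      calc g⁻¹ * (k : G) * g * z = g⁻¹ * ((k : G) * u) * g := by rw [hudef]; group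
        _ = g⁻¹ * (u * k) * g := by rw [hKu k k.2]
        _ = z * (g⁻¹ * (k : G) * g) := by rw [hudef]; group)⟩)
    fun a b => Subtype.ext (by
      show g⁻¹ * ((a : G) * b) * g = g⁻¹ * a * g * (g⁻¹ * b * g)
      group)
  set f : ↥K →* P3 × P6 := π.comp e with hf
  have hker : ∀ k : ↥K, f k = 1 ↔ (k : G) ∈ Q' := by
    intro k
    rw [hf, MonoidHom.comp_apply, hπ]
    show g⁻¹ * (k : G) * g ∈ Q ↔ _
    constructor
    · exact fun h => ⟨_, h, by show g * (g⁻¹ * (k : G) * g) * g⁻¹ = k; group⟩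
    · rintro ⟨a, ha, hae⟩
      rw [← hae]
      show g⁻¹ * (g * a * g⁻¹) * g ∈ Q
      rwa [show g⁻¹ * (g * a * g⁻¹) * g = a by group]
  have hKp : IsPGroup 2 ↥K := IsPGroup.of_card (n := 7) (by rw [hK128]; norm_num)
  obtain ⟨n, hn⟩ := (hKp.of_surjective f.rangeRestrict f.rangeRestrict_surjective).exists_card_eq
  -- the centre of `K` has order at most eight
  obtain ⟨f1, hf1, hf1K⟩ : ∃ f ∈ Q, f ∉ K := by
    by_contra h
    push Not at h
    have := card_le_of_le (show Q ≤ K from h)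
    rw [hQ, hK128] at this
    norm_num at this
  set K1 : Subgroup G := K ⊔ zpowers f1 with hK1
  have hK1Q : K1 ≤ Q := sup_le hKQ (zpowers_le.2 hf1)
  have hcard1 : 256 ≤ Nat.card ↥K1 := by
    obtain ⟨a, ha⟩ := card_dvd_of_le (le_sup_left : K ≤ K1)
    rw [← hK1, hK128] at ha
    have hlt : Nat.card ↥K < Nat.card ↥K1 := lt_of_not_ge fun hge => hf1K (by
      rw [eq_of_le_of_card_ge (le_sup_left : K ≤ K1) hge]; exact mem_sup_right (mem_zpowers f1))
    omega
  obtain ⟨f2, hf2, hcov⟩ : ∃ f2 ∈ Q, ∀ A : Subgroup G, K ≤ A → f1 ∈ A → f2 ∈ A → Q ≤ A := by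
    by_cases htop : Q ≤ K1
    · exact ⟨f1, hf1, fun A h1 h2 _ => htop.trans (sup_le h1 (zpowers_le.2 h2))⟩
    obtain ⟨f2, hf2, hf2K⟩ := SetLike.not_le_iff_exists.1 htop
    refine ⟨f2, hf2, fun A h1 h2 h3 => ?_⟩
    set K2 : Subgroup G := K1 ⊔ zpowers f2 with hK2
    have hK2Q : K2 ≤ Q := sup_le hK1Q (zpowers_le.2 hf2)
    obtain ⟨a, ha⟩ := card_dvd_of_le (le_sup_left : K1 ≤ K2)
    have hlt : Nat.card ↥K1 < Nat.card ↥K2 := lt_of_not_ge fun hge => hf2K (by
      rw [eq_of_le_of_card_ge (le_sup_left : K1 ≤ K2) hge]; exact mem_sup_right (mem_zpowers f2))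
    rw [← hK2] at ha
    have ha2 : 2 ≤ a := by
      by_contra hh
      interval_cases a <;> omega
    have h512 : Nat.card ↥Q ≤ Nat.card ↥K2 := by
      rw [hQ, ha]
      calc (2 : ℕ) ^ 9 = 256 * 2 := by norm_num
        _ ≤ Nat.card ↥K1 * a := Nat.mul_le_mul hcard1 ha2
    rw [← eq_of_le_of_card_ge hK2Q h512]
    exact sup_le (sup_le h1 (zpowers_le.2 h2)) (zpowers_le.2 h3)
  set Z : Subgroup G := K ⊓ centralizer (K : Set G) with hZdef
  have hZmem : ∀ x, x ∈ Z ↔ x ∈ K ∧ ∀ y ∈ K, y * x = x * y := fun x => by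
    rw [hZdef, mem_inf, mem_centralizer_iff]
    rfl
  let χ : ↥Z → Bool × Bool := fun a =>
    (decide ((a : G) * f1 = f1 * a), decide ((a : G) * f2 = f2 * a))
  have hfib : ∀ a b : ↥Z, χ a = χ b → (b : G) = a ∨ (b : G) = a * z := by
    intro a b hab
    simp only [χ, Prod.mk.injEq, decide_eq_decide] at hab
    have haK := ((hZmem _).1 a.2).1
    have hbK := ((hZmem _).1 b.2).1
    have key : ∀ fi ∈ Q, ((a : G) * fi = fi * a ↔ (b : G) * fi = fi * b) →
        ((a : G)⁻¹ * b) * fi = fi * ((a : G)⁻¹ * b) := by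
      intro fi hfi hiff
      by_cases h : (a : G) * fi = fi * a
      · have c1 : Commute (a : G) fi := h
        have c2 : Commute (b : G) fi := hiff.1 h
        exact c1.inv_left.mul_left c2
      · have e1 := P.conj_of_not_commute (hKQ haK) hfi h
        have e2 := P.conj_of_not_commute (hKQ hbK) hfi fun e => h (hiff.2 e)
        calc (a : G)⁻¹ * b * fi = (a : G)⁻¹ * ((b : G) * fi * (b : G)⁻¹) * b := by group
          _ = (a : G)⁻¹ * ((a : G) * fi * (a : G)⁻¹) * b := by rw [e2, e1]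
          _ = fi * ((a : G)⁻¹ * b) := by group
    have hcK : (a : G)⁻¹ * b ∈ K := mul_mem (inv_mem haK) hbK
    have hall := hcov (centralizer ({(a : G)⁻¹ * b} : Set G)) (fun y hy =>
        mem_centralizer_singleton_iff.2 (((hZmem _).1 (mul_mem (inv_mem a.2) b.2)).2 y hy))
      (mem_centralizer_singleton_iff.2 (key f1 hf1 hab.1).symm)
      (mem_centralizer_singleton_iff.2 (key f2 hf2 hab.2).symm)
    rcases P.eq_of_central (hKQ hcK) (fun y hy => (mem_centralizer_singleton_iff.1 (hall hy)).symm)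
      with h | h
    · exact Or.inl (inv_mul_eq_one.1 h).symm
    · exact Or.inr (inv_mul_eq_iff_eq_mul.1 h)
  have hZ8 : Nat.card ↥Z ≤ 8 := by
    haveI := Fintype.ofFinite ↥Z
    rw [Nat.card_eq_fintype_card, ← Finset.card_univ]
    refine le_trans (Finset.card_le_mul_card_image_of_maps_to (f := χ) (t := Finset.univ)
      (fun a _ => Finset.mem_univ _) 2 fun w _ => ?_) (by simp)
    by_cases hv : (Finset.univ.filter fun a => χ a = w).Nonempty
    · obtain ⟨a0, ha0⟩ := hv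
      rw [← Finset.card_image_of_injective _ Subtype.val_injective]
      refine le_trans (Finset.card_le_card (t := ({(a0 : G), (a0 : G) * z} : Finset G)) ?_)
        Finset.card_le_two
      intro x hx
      obtain ⟨b, hb, rfl⟩ := Finset.mem_image.1 hx
      rcases hfib a0 b ((Finset.mem_filter.1 ha0).2.trans (Finset.mem_filter.1 hb).2.symm) with e | e <;>
        simp [e]
    · rw [Finset.not_nonempty_iff_eq_empty.1 hv]; simp
  -- the kernel is central and avoids `z`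
  have hkerZ : ∀ k : ↥K, f k = 1 → (k : G) ∈ Z := fun k hk =>
    (hZmem _).2 ⟨k.2, fun y hy => hkd y hy k k.2 ((hker k).1 hk)⟩
  have hzZ : z ∈ Z := (hZmem _).2 ⟨hzK, fun y hy => (hkz y hy).symm⟩
  have hker4 : Nat.card ↥f.ker ≤ 4 := by
    let ι : ↥f.ker × Bool → ↥Z := fun p =>
      if p.2 then ⟨((p.1 : ↥K) : G) * z, mul_mem (hkerZ _ p.1.2) hzZ⟩
      else ⟨((p.1 : ↥K) : G), hkerZ _ p.1.2⟩
    have hι : Function.Injective ι := by
      rintro ⟨a, a'⟩ ⟨b, b'⟩ h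
      have haQ := (hker _).1 a.2
      have hbQ := (hker _).1 b.2
      cases a' <;> cases b' <;> simp only [ι, if_true, Bool.false_eq_true, if_false] at h <;>
        have hv := congrArg Subtype.val h <;> simp only at hv
      · rw [Prod.mk.injEq]; exact ⟨Subtype.ext (Subtype.ext hv), rfl⟩
      · exact absurd (by
          rw [show z = ((b : ↥K) : G)⁻¹ * ((a : ↥K) : G) by rw [hv]; group]
          exact mul_mem (inv_mem hbQ) haQ) hzQ'
      · exact absurd (by
          rw [show z = ((a : ↥K) : G)⁻¹ * ((b : ↥K) : G) by rw [← hv]; group]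
          exact mul_mem (inv_mem haQ) hbQ) hzQ'
      · rw [Prod.mk.injEq]; exact ⟨Subtype.ext (Subtype.ext (mul_right_cancel hv)), rfl⟩
    have h := Nat.card_le_card_of_injective ι hι
    rw [Nat.card_prod, Nat.card_eq_fintype_card (α := Bool), Fintype.card_bool] at h
    omega
  have hfac : 128 = Nat.card ↥f.range * Nat.card ↥f.ker := by
    rw [← hK128, card_eq_card_quotient_mul_card_subgroup f.ker,
      Nat.card_congr (QuotientGroup.quotientKerEquivRange f).toEquiv]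
  have hn5 : 5 ≤ n := by
    rw [hn] at hfac
    have h : 2 ^ 5 ≤ 2 ^ n := by nlinarith
    exact (Nat.pow_le_pow_iff_right (by norm_num : 1 < 2)).1 h
  obtain ⟨hT32, a, ha, b, hb, ha1, hb1, hab, hac, hbc⟩ := two_group_center f.range hn hn5
  have hker4' : Nat.card ↥f.ker = 4 := by
    rw [hT32] at hfac
    omega
  obtain ⟨ka, rfl⟩ := ha
  obtain ⟨kb, rfl⟩ := hb
  have hcen : ∀ k : ↥K, (∀ x ∈ f.range, f k * x = x * f k) → (k : G) ∈ Z := by
    intro k hk
    refine (hZmem _).2 ⟨k.2, fun y hy => ?_⟩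
    have h1 : f (⟨y, hy⟩ * k * (⟨y, hy⟩ : ↥K)⁻¹ * k⁻¹) = 1 := by
      rw [map_mul, map_mul, map_mul, map_inv, map_inv, ← hk _ ⟨⟨y, hy⟩, rfl⟩]
      group
    have h2 : y * (k : G) * y⁻¹ * (k : G)⁻¹ ∈ Q' := (hker _).1 h1
    rcases P.comm_cases (hKQ hy) (hKQ k.2) with e' | e'
    · exact mul_inv_eq_iff_eq_mul.1 (mul_inv_eq_one.1 e')
    · rw [e'] at h2
      exact absurd h2 hzQ'
  have hZK : Z ≤ K := inf_le_left
  have h := three_cosets f (Z.subgroupOf K) (fun k hk => hkerZ k hk) (a := ka) (b := kb)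
    (hcen ka hac) (hcen kb hbc) ha1 hb1 hab
  rw [hker4', Nat.card_congr (subgroupOfEquivOfLe hZK).toEquiv] at h
  omega

/-- A sign homomorphism of the quotient is non-trivial on the pair of some fused conjugate of `z`. -/
theorem exists_moved (hres : Cfsg.pResidual 2 G = ⊤) (S : CfsgLib.InvChar.ExtraspecialTransfer.Setup z Q)
    (P : Pack Q z) (hQ : Nat.card ↥Q = 2 ^ 9) (π : ↥(centralizer ({z} : Set G)) →* P3 × P6)
    (hπ : ∀ m, π m = 1 ↔ (m : G) ∈ Q) (χ : P3 × P6 →* ℤˣ)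
    (hne : ∃ m, χ (π m) ≠ 1) :
    ∃ g : G, g * z * g⁻¹ ∈ Q ∧ g * z * g⁻¹ ≠ z ∧ ∃ c : ↥(centralizer ({z} : Set G)),
      (c : G) ∈ Q.map (MulAut.conj g).toMonoidHom ∧ χ (π c) ≠ 1 := by
  classical
  by_contra hno
  push Not at hno
  let φ : G → ZMod 2 := fun a => if h : a ∈ centralizer ({z} : Set G) then (if χ (π ⟨a, h⟩) = 1 then 0 else 1) else 0
  have hφ : ∀ a ∈ centralizer ({z} : Set G), ∀ b ∈ centralizer ({z} : Set G), φ (a * b) = φ a + φ b := by
    intro a ha b hb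
    have he : χ (π ⟨a * b, mul_mem ha hb⟩) = χ (π ⟨a, ha⟩) * χ (π ⟨b, hb⟩) := by
      rw [← map_mul, ← map_mul]
      rfl
    simp only [φ, dif_pos (mul_mem ha hb), dif_pos ha, dif_pos hb, he]
    rcases Int.units_eq_one_or (χ (π ⟨a, ha⟩)) with e1 | e1 <;>
      rcases Int.units_eq_one_or (χ (π ⟨b, hb⟩)) with e2 | e2 <;> rw [e1, e2] <;> decide
  have hφQ : ∀ a ∈ Q, φ a = 0 := by
    intro a ha
    have haM : a ∈ centralizer ({z} : Set G) := P.mem_centralizer_z ha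
    simp only [φ, dif_pos haM, (hπ ⟨a, haM⟩).2 ha, map_one, if_pos]
  obtain ⟨m, hm⟩ := hne
  have h0 := phi_eq_zero S φ hφ hres (fun g hg hu => ?_) m.2
  · simp [φ, hm] at h0
  · rcases card_orb_cases S hg hu with ⟨huE, h2⟩ | ⟨huE, h4⟩
    · refine Or.inr (Or.inr ⟨h2, ?_, fun c hc hcu => ?_⟩)
      · obtain ⟨b, hb, hbe⟩ := P.mem_conj huE
        have hbe' : g * b * g⁻¹ = z := hbe
        rw [show g⁻¹ * z * g = b by rw [← hbe']; group]
        exact hφQ b hb
      · have hx : g⁻¹ * z * g⁻¹⁻¹ ∈ Q := by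
          obtain ⟨b, hb, hbe⟩ := P.mem_conj huE
          have hbe' : g * b * g⁻¹ = z := hbe
          rw [show g⁻¹ * z * g⁻¹⁻¹ = b by rw [← hbe']; group]
          exact hb
        have hne' : g⁻¹ * z * g⁻¹⁻¹ ≠ z := by
          intro e
          rw [inv_inv] at e
          refine hg (mem_centralizer_singleton_iff.2 ?_)
          calc g * z = g * (g⁻¹ * z * g) := by rw [e]
            _ = z * g := by group
        have hcM : g⁻¹ * c * g ∈ centralizer ({z} : Set G) := mem_centralizer_singleton_iff.2 (by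
          calc g⁻¹ * c * g * z = g⁻¹ * (c * (g * z * g⁻¹)) * g := by group
            _ = g⁻¹ * (g * z * g⁻¹ * c) * g := by rw [hcu]
            _ = z * (g⁻¹ * c * g) := by group)
        have h := hno g⁻¹ hx hne' ⟨g⁻¹ * c * g, hcM⟩ ⟨c, hc, by
          show g⁻¹ * c * g⁻¹⁻¹ = g⁻¹ * c * g
          rw [inv_inv]⟩
        simp only [φ, dif_pos hcM, h, if_pos]
    · obtain ⟨i, -, hi⟩ := (Nat.dvd_prime_pow Nat.prime_two).1
        (hQ ▸ ⟨_, (card_orb (z := z) Q g).symm⟩ : (orb (z := z) Q g).card ∣ 2 ^ 9)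
      rcases i with _ | _ | _ | i
      · rw [hi] at h4; norm_num at h4
      · rw [hi] at h4; norm_num at h4
      · exact (orbit_four_false S P hQ π hπ hu huE hi).elim
      · exact Or.inl ⟨2 ^ i, by rw [hi, pow_succ, pow_succ, pow_succ]; ring⟩

end CfsgLib.Recog.SThreeASix
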